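/-
helper28: every commutative algebra is a directed colimit (in `Under (CommRingCat.of R)`) of finitely
presented algebras: index = (finite set S of elements of A, finitely generated ideal of relations in
R[X_s : s ∈ S]).  Main declarations: `Idx`, `DD`, `CC`, `CCisColimit`, `DD_fp`.
-/
import Mathlib
set_option autoImplicit false
universe u
open CategoryTheory CategoryTheory.Limits
namespace Groth.Agent.Lib.helper28.FPColim

section
variable (R A : Type u) [CommRing R] [CommRing A] [Algebra R A]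

/-- polynomial ring on a finite set of elements of `A` -/
abbrev PS (S : Finset A) := MvPolynomial {x : A // x ∈ S} R

/-- evaluation -/
noncomputable def ev (S : Finset A) : PS R A S →ₐ[R] A := MvPolynomial.aeval (fun x => x.1)

/-- inclusion of variables -/
def incl {S S' : Finset A} (h : S ⊆ S') : {x : A // x ∈ S} → {x : A // x ∈ S'} :=
  fun x => ⟨x.1, h x.2⟩

/-- renaming along inclusion -/
noncomputable def ren {S S' : Finset A} (h : S ⊆ S') : PS R A S →ₐ[R] PS R A S' :=
  MvPolynomial.rename (incl A h)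

lemma ev_ren {S S' : Finset A} (h : S ⊆ S') (p : PS R A S) : ev R A S' (ren R A h p) = ev R A S p := by
  unfold ev ren
  rw [MvPolynomial.aeval_rename]
  rfl

omit [CommRing A] [Algebra R A] in
lemma ren_refl {S : Finset A} (h : S ⊆ S) (p : PS R A S) : ren R A h p = p := by
  unfold ren
  have : incl A h = id := rfl
  rw [this, MvPolynomial.rename_id_apply]

omit [CommRing A] [Algebra R A] in
lemma ren_ren {S S' S'' : Finset A} (h : S ⊆ S') (h' : S' ⊆ S'') (p : PS R A S) :
    ren R A h' (ren R A h p) = ren R A (h.trans h') p := by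
  unfold ren
  rw [MvPolynomial.rename_rename]
  rfl

/-- the index type -/
structure Idx where
  /-- finite set of variables -/
  S : Finset A
  /-- finitely generated ideal of relations -/
  J : Ideal (PS R A S)
  fg : J.FG
  le' : J ≤ RingHom.ker (ev R A S).toRingHom

instance : Preorder (Idx R A) where
  le j j' := j.S ⊆ j'.S ∧ ∀ p ∈ j.J, ∀ h : j.S ⊆ j'.S, ren R A h p ∈ j'.J
  le_refl j := ⟨Finset.Subset.refl _, fun p hp h => by rw [ren_refl]; exact hp⟩
  le_trans j j' j'' h1 h2 := ⟨h1.1.trans h2.1, fun p hp h => by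
    rw [← ren_ren R A h1.1 h2.1]
    exact h2.2 _ (h1.2 p hp h1.1) h2.1⟩

lemma le_def (j j' : Idx R A) :
    j ≤ j' ↔ j.S ⊆ j'.S ∧ ∀ p ∈ j.J, ∀ h : j.S ⊆ j'.S, ren R A h p ∈ j'.J := Iff.rfl

/-- upper bound of two indices, with finitely many extra relations -/
noncomputable def mkSup [DecidableEq A] (j j' : Idx R A) (T : Finset (PS R A (j.S ∪ j'.S)))
    (hT : ∀ q ∈ T, ev R A (j.S ∪ j'.S) q = 0) : Idx R A :=
  ⟨j.S ∪ j'.S,
    (j.J.map (ren R A (Finset.subset_union_left : j.S ⊆ j.S ∪ j'.S)).toRingHom ⊔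
        j'.J.map (ren R A (Finset.subset_union_right : j'.S ⊆ j.S ∪ j'.S)).toRingHom) ⊔
        Ideal.span (T : Set (PS R A (j.S ∪ j'.S))),
      Submodule.FG.sup (Submodule.FG.sup (Ideal.FG.map j.fg _) (Ideal.FG.map j'.fg _))
        ⟨T, rfl⟩,
      by
        refine sup_le (sup_le ?_ ?_) ?_
        · rw [Ideal.map_le_iff_le_comap]
          intro p hp
          have h0 : (ev R A j.S) p = 0 := j.le' hp
          show (ev R A (j.S ∪ j'.S)) (ren R A _ p) = 0
          rw [ev_ren, h0]
        · rw [Ideal.map_le_iff_le_comap]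
          intro p hp
          have h0 : (ev R A j'.S) p = 0 := j'.le' hp
          show (ev R A (j.S ∪ j'.S)) (ren R A _ p) = 0
          rw [ev_ren, h0]
        · rw [Ideal.span_le]
          intro q hq
          exact hT q hq⟩

lemma le_mkSup_left [DecidableEq A] (j j' : Idx R A) (T : Finset (PS R A (j.S ∪ j'.S)))
    (hT : ∀ q ∈ T, ev R A (j.S ∪ j'.S) q = 0) : j ≤ mkSup R A j j' T hT :=
  ⟨Finset.subset_union_left, fun p hp _ =>
    Ideal.mem_sup_left (Ideal.mem_sup_left (Ideal.mem_map_of_mem _ hp))⟩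

lemma le_mkSup_right [DecidableEq A] (j j' : Idx R A) (T : Finset (PS R A (j.S ∪ j'.S)))
    (hT : ∀ q ∈ T, ev R A (j.S ∪ j'.S) q = 0) : j' ≤ mkSup R A j j' T hT :=
  ⟨Finset.subset_union_right, fun p hp _ =>
    Ideal.mem_sup_left (Ideal.mem_sup_right (Ideal.mem_map_of_mem _ hp))⟩

lemma mem_mkSup [DecidableEq A] (j j' : Idx R A) (T : Finset (PS R A (j.S ∪ j'.S)))
    (hT : ∀ q ∈ T, ev R A (j.S ∪ j'.S) q = 0) (q : PS R A (j.S ∪ j'.S)) (hq : q ∈ T) :
    q ∈ (mkSup R A j j' T hT).J :=
  Ideal.mem_sup_right (Ideal.subset_span hq)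

instance : Nonempty (Idx R A) := ⟨⟨∅, ⊥, Submodule.fg_bot, bot_le⟩⟩

instance : IsDirected (Idx R A) (· ≤ ·) := by
  classical
  exact ⟨fun j j' => ⟨mkSup R A j j' ∅ (by simp), le_mkSup_left R A j j' _ _,
    le_mkSup_right R A j j' _ _⟩⟩

/-- transition ring hom -/
noncomputable def trans {j j' : Idx R A} (h : j ≤ j') :
    (PS R A j.S ⧸ j.J) →+* (PS R A j'.S ⧸ j'.J) :=
  Ideal.quotientMap j'.J (ren R A h.1).toRingHom (fun p hp => h.2 p hp h.1)

lemma trans_mk {j j' : Idx R A} (h : j ≤ j') (p : PS R A j.S) :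
    trans R A h (Ideal.Quotient.mk j.J p) = Ideal.Quotient.mk j'.J (ren R A h.1 p) := rfl

lemma trans_refl (j : Idx R A) (h : j ≤ j) : trans R A h = RingHom.id _ := by
  apply Ideal.Quotient.ringHom_ext
  ext p
  · simp only [RingHom.comp_apply, trans_mk, RingHom.id_apply]
    rw [ren_refl]
  · simp only [RingHom.comp_apply, trans_mk, RingHom.id_apply]
    rw [ren_refl]

lemma trans_trans {j j' j'' : Idx R A} (h : j ≤ j') (h' : j' ≤ j'') :
    (trans R A h').comp (trans R A h) = trans R A (h.trans h') := by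
  apply Ideal.Quotient.ringHom_ext
  ext p
  · simp only [RingHom.comp_apply, trans_mk]
    rw [ren_ren]
  · simp only [RingHom.comp_apply, trans_mk]
    rw [ren_ren]

lemma trans_algebraMap {j j' : Idx R A} (h : j ≤ j') (r : R) :
    trans R A h (algebraMap R (PS R A j.S ⧸ j.J) r) = algebraMap R (PS R A j'.S ⧸ j'.J) r := by
  show trans R A h (Ideal.Quotient.mk j.J (MvPolynomial.C r)) =
      Ideal.Quotient.mk j'.J (MvPolynomial.C r)
  rw [trans_mk]
  congr 1
  exact (ren R A h.1).commutes r

/-- the diagram -/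
noncomputable def DD : Idx R A ⥤ Under (CommRingCat.of R) where
  obj j := Under.mk (CommRingCat.ofHom (algebraMap R (PS R A j.S ⧸ j.J)))
  map {j j'} φ := Under.homMk (CommRingCat.ofHom (trans R A (leOfHom φ))) (by
    ext r
    exact trans_algebraMap R A (leOfHom φ) r)
  map_id j := by
    apply Under.UnderMorphism.ext
    show CommRingCat.ofHom (trans R A (leOfHom (𝟙 j))) = 𝟙 _
    rw [trans_refl]
    rfl
  map_comp {j j' j''} φ ψ := by
    apply Under.UnderMorphism.ext
    show CommRingCat.ofHom (trans R A (leOfHom (φ ≫ ψ))) =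
      CommRingCat.ofHom (trans R A (leOfHom φ)) ≫ CommRingCat.ofHom (trans R A (leOfHom ψ))
    rw [← CommRingCat.ofHom_comp, trans_trans]

lemma DD_map_mk {j j' : Idx R A} (φ : j ⟶ j') (p : PS R A j.S) :
    ((DD R A).map φ).right.hom (Ideal.Quotient.mk j.J p) =
      Ideal.Quotient.mk j'.J (ren R A (leOfHom φ).1 p) := rfl

/-- cocone leg -/
noncomputable def leg (j : Idx R A) : (PS R A j.S ⧸ j.J) →+* A :=
  Ideal.Quotient.lift j.J (ev R A j.S).toRingHom (fun p hp => j.le' hp)

lemma leg_mk (j : Idx R A) (p : PS R A j.S) :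
    leg R A j (Ideal.Quotient.mk j.J p) = ev R A j.S p := rfl

/-- the cocone -/
noncomputable def CC : Cocone (DD R A) where
  pt := Under.mk (CommRingCat.ofHom (algebraMap R A))
  ι :=
    { app := fun j => Under.homMk (CommRingCat.ofHom (leg R A j)) (by
        ext r
        show leg R A j (Ideal.Quotient.mk j.J (MvPolynomial.C r)) = algebraMap R A r
        rw [leg_mk]
        exact (ev R A j.S).commutes r)
      naturality := fun {j j'} φ => by
        ext x
        obtain ⟨p, rfl⟩ := Ideal.Quotient.mk_surjective x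
        show leg R A j' (trans R A (leOfHom φ) (Ideal.Quotient.mk j.J p)) =
          leg R A j (Ideal.Quotient.mk j.J p)
        rw [trans_mk, leg_mk, leg_mk, ev_ren] }

lemma CC_app_mk (j : Idx R A) (p : PS R A j.S) :
    ((CC R A).ι.app j).right.hom (Ideal.Quotient.mk j.J p) = ev R A j.S p := rfl

lemma app_eq_of_le (s : Cocone (DD R A)) {j j' : Idx R A} (h : j ≤ j') (p : PS R A j.S) :
    (s.ι.app j).right.hom (Ideal.Quotient.mk j.J p) =
      (s.ι.app j').right.hom (Ideal.Quotient.mk j'.J (ren R A h.1 p)) := by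
  have hw := s.w (homOfLE h)
  rw [← hw]
  rfl

lemma star (s : Cocone (DD R A)) (j j' : Idx R A) (p : PS R A j.S) (p' : PS R A j'.S)
    (hpp : ev R A j.S p = ev R A j'.S p') :
    (s.ι.app j).right.hom (Ideal.Quotient.mk j.J p) =
      (s.ι.app j').right.hom (Ideal.Quotient.mk j'.J p') := by
  classical
  let q : PS R A (j.S ∪ j'.S) :=
    ren R A (Finset.subset_union_left : j.S ⊆ j.S ∪ j'.S) p -
      ren R A (Finset.subset_union_right : j'.S ⊆ j.S ∪ j'.S) p'
  have hq : ∀ q' ∈ ({q} : Finset (PS R A (j.S ∪ j'.S))), ev R A (j.S ∪ j'.S) q' = 0 := by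
    intro q' hq'
    rw [Finset.mem_singleton] at hq'
    subst hq'
    show ev R A (j.S ∪ j'.S) (ren R A _ p - ren R A _ p') = 0
    rw [map_sub, ev_ren, ev_ren, hpp, sub_self]
  let j'' := mkSup R A j j' {q} hq
  rw [app_eq_of_le R A s (le_mkSup_left R A j j' {q} hq) p,
    app_eq_of_le R A s (le_mkSup_right R A j j' {q} hq) p']
  congr 1
  exact (Ideal.Quotient.eq (I := (mkSup R A j j' {q} hq).J)).2
    (mem_mkSup R A j j' {q} hq q (Finset.mem_singleton_self q))

/-- the singleton index -/
noncomputable def sIdx (S : Finset A) : Idx R A := ⟨S, ⊥, Submodule.fg_bot, bot_le⟩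

/-- variable attached to an element -/
noncomputable def Xv (a : A) : PS R A {a} := MvPolynomial.X ⟨a, Finset.mem_singleton_self a⟩

lemma ev_Xv (a : A) : ev R A {a} (Xv R A a) = a := by
  unfold ev Xv
  rw [MvPolynomial.aeval_X]

/-- the underlying function of the descent map -/
noncomputable def gfun (s : Cocone (DD R A)) (a : A) : s.pt.right :=
  (s.ι.app (sIdx R A {a})).right.hom (Ideal.Quotient.mk _ (Xv R A a))

lemma gfun_ev (s : Cocone (DD R A)) (j : Idx R A) (p : PS R A j.S) :
    gfun R A s (ev R A j.S p) = (s.ι.app j).right.hom (Ideal.Quotient.mk j.J p) := by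
  unfold gfun
  apply star
  exact ev_Xv R A _

lemma exists_common (a b : A) : ∃ (j : Idx R A) (pa pb : PS R A j.S),
    ev R A j.S pa = a ∧ ev R A j.S pb = b := by
  classical
  refine ⟨sIdx R A {a, b}, MvPolynomial.X ⟨a, by show a ∈ ({a, b} : Finset A); simp⟩,
    MvPolynomial.X ⟨b, by show b ∈ ({a, b} : Finset A); simp⟩, ?_, ?_⟩
  · exact MvPolynomial.aeval_X _ _
  · exact MvPolynomial.aeval_X _ _

/-- the descent ring hom -/
noncomputable def ghom (s : Cocone (DD R A)) : A →+* s.pt.right where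
  toFun := gfun R A s
  map_one' := by
    have h := gfun_ev R A s (sIdx R A ∅) 1
    rw [map_one] at h
    exact h.trans (map_one ((s.ι.app (sIdx R A ∅)).right.hom))
  map_mul' a b := by
    obtain ⟨j, pa, pb, rfl, rfl⟩ := exists_common R A a b
    rw [← map_mul, gfun_ev, gfun_ev, gfun_ev]
    rw [map_mul (Ideal.Quotient.mk j.J) pa pb]
    exact map_mul ((s.ι.app j).right.hom) _ _
  map_zero' := by
    have h := gfun_ev R A s (sIdx R A ∅) 0
    rw [map_zero] at h
    exact h.trans (map_zero ((s.ι.app (sIdx R A ∅)).right.hom))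
  map_add' a b := by
    obtain ⟨j, pa, pb, rfl, rfl⟩ := exists_common R A a b
    rw [← map_add, gfun_ev, gfun_ev, gfun_ev]
    rw [map_add (Ideal.Quotient.mk j.J) pa pb]
    exact map_add ((s.ι.app j).right.hom) _ _

lemma ghom_ev (s : Cocone (DD R A)) (j : Idx R A) (p : PS R A j.S) :
    ghom R A s (ev R A j.S p) = (s.ι.app j).right.hom (Ideal.Quotient.mk j.J p) :=
  gfun_ev R A s j p

lemma ghom_algebraMap (s : Cocone (DD R A)) (r : R) :
    ghom R A s (algebraMap R A r) = s.pt.hom.hom r := by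
  have h := ghom_ev R A s (sIdx R A ∅) (MvPolynomial.C r)
  have h1 : ev R A (sIdx R A ∅).S (MvPolynomial.C r) = algebraMap R A r := (ev R A _).commutes r
  rw [h1] at h
  rw [h]
  have h2 := congrArg (fun f => f.hom r) (Under.w (s.ι.app (sIdx R A ∅)))
  exact h2

/-- the colimit property -/
noncomputable def CCisColimit : IsColimit (CC R A) where
  desc s := Under.homMk (CommRingCat.ofHom (ghom R A s)) (by
    ext r
    exact ghom_algebraMap R A s r)
  fac s j := by
    ext x
    obtain ⟨p, rfl⟩ := Ideal.Quotient.mk_surjective x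
    show ghom R A s (ev R A j.S p) = _
    exact ghom_ev R A s j p
  uniq s m hm := by
    ext (a : A)
    show m.right.hom a = gfun R A s a
    have h1 := congrArg (fun f => f.right.hom (Ideal.Quotient.mk _ (Xv R A a))) (hm (sIdx R A {a}))
    have h2 : m.right.hom (ev R A {a} (Xv R A a)) = gfun R A s a := h1
    have h3 : ev R A {a} (Xv R A a) = a := ev_Xv R A a
    rw [h3] at h2
    exact h2

lemma DD_fp (j : Idx R A) : ((DD R A).obj j).hom.hom.FinitePresentation := by
  show (algebraMap R (PS R A j.S ⧸ j.J)).FinitePresentation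
  rw [RingHom.finitePresentation_algebraMap]
  exact Algebra.FinitePresentation.quotient j.fg

end
end Groth.Agent.Lib.helper28.FPColim
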