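import Groth.Prelude.Def_W4c1tameactTame
import Mathlib

/-!
Total integrals, the untwisting isomorphism `M ⊗ A ≃ M ⊗ A` and the comodule retraction
`λ : Ind M → M` of the coaction, for relative Hopf modules (helper28).

Setting: `k` a commutative ring, `A` a commutative Hopf algebra, `B` a commutative `k`-algebra with an
algebra coaction, `M` a `(B, A)`-Hopf module, `α : A → B` a comodule map.
`mu (m ⊗ a) = Σ m₀ ⊗ m₁ a`, `kappa (m ⊗ a) = Σ m₀ ⊗ S(m₁) a` (mutually inverse),
`theta (m ⊗ a) = α(a) • m`, `lam = theta ∘ kappa`.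
-/

set_option autoImplicit false
set_option linter.unusedSectionVars false
set_option linter.unusedVariables false
universe u v w w' w''

open TensorProduct

namespace Groth.Agent.Lib.helper28.TotInt

section Maps

variable (k : Type u) [CommRing k] {A : Type v} [CommRing A] [Algebra k A]
variable (M : Type w') [AddCommGroup M] [Module k M]

/-- multiplication of the `A`-factor of `M ⊗ A` by `a`, linear in `a`. -/
noncomputable def rmL : A →ₗ[k] (M ⊗[k] A →ₗ[k] M ⊗[k] A) :=
  (LinearMap.lTensorHom M) ∘ₗ (LinearMap.mul k A)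

@[simp] lemma rmL_tmul (a b : A) (m : M) : rmL k M a (m ⊗ₜ[k] b) = m ⊗ₜ[k] (a * b) := by
  simp [rmL]

lemma rmL_one : rmL k M (1 : A) = LinearMap.id := by
  ext m b; simp

lemma rmL_mul (a b : A) : rmL k M (a * b) = rmL k M a ∘ₗ rmL k M b := by
  ext m c; simp [mul_assoc]

/-- `y ⊗ b ↦ y · b`. -/
noncomputable def Mu : (M ⊗[k] A) ⊗[k] A →ₗ[k] M ⊗[k] A := TensorProduct.lift (rmL k M).flip

@[simp] lemma Mu_tmul (y : M ⊗[k] A) (b : A) : Mu k M (y ⊗ₜ[k] b) = rmL k M b y := by
  simp [Mu]

end Maps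

section Comod

variable (k : Type u) [CommRing k] (A : Type v) [CommRing A] [HopfAlgebra k A]
variable (M : Type w') [AddCommGroup M] [Module k M] [HopfRep.Comod k A M]

/-- the coaction, with all arguments explicit. -/
noncomputable abbrev coactM : M →ₗ[k] M ⊗[k] A := HopfRep.Comod.coact (k := k) (A := A) (V := M)

/-- the antipode on the `A`-factor. -/
noncomputable def SM : M ⊗[k] A →ₗ[k] M ⊗[k] A :=
  (HopfAlgebraStruct.antipode (R := k) (A := A)).lTensor M

@[simp] lemma SM_tmul (m : M) (a : A) :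
    SM k A M (m ⊗ₜ[k] a) = m ⊗ₜ[k] HopfAlgebraStruct.antipode (R := k) (A := A) a := by
  simp [SM]

/-- `m ⊗ a ↦ Σ m₀ ⊗ m₁ a`. -/
noncomputable def mu : M ⊗[k] A →ₗ[k] M ⊗[k] A := Mu k M ∘ₗ (coactM k A M).rTensor A

/-- `m ⊗ a ↦ Σ m₀ ⊗ S(m₁) a`. -/
noncomputable def kappa : M ⊗[k] A →ₗ[k] M ⊗[k] A :=
  Mu k M ∘ₗ (SM k A M ∘ₗ coactM k A M).rTensor A

@[simp] lemma mu_tmul (m : M) (a : A) :
    mu k A M (m ⊗ₜ[k] a) = rmL k M a (coactM k A M m) := by
  simp [mu]

@[simp] lemma kappa_tmul (m : M) (a : A) :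
    kappa k A M (m ⊗ₜ[k] a) = rmL k M a (SM k A M (coactM k A M m)) := by
  simp [kappa]

lemma coassoc_apply (m : M) :
    (coactM k A M).rTensor A (coactM k A M m) =
      (TensorProduct.assoc k M A A).symm
        ((CoalgebraStruct.comul (R := k) (A := A)).lTensor M (coactM k A M m)) := by
  have h := LinearMap.congr_fun (HopfRep.Comod.coassoc (k := k) (A := A) (V := M)) m
  simp only [LinearMap.comp_apply, LinearEquiv.coe_coe] at h
  rw [← h, LinearEquiv.symm_apply_apply]

lemma counit_apply (m : M) :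
    (CoalgebraStruct.counit (R := k) (A := A)).lTensor M (coactM k A M m) = m ⊗ₜ[k] (1 : k) := by
  have h := LinearMap.congr_fun (HopfRep.Comod.counit_comp (k := k) (A := A) (V := M)) m
  simpa using h

lemma kappa_rmL (a : A) (y : M ⊗[k] A) :
    kappa k A M (rmL k M a y) = rmL k M a (kappa k A M y) := by
  induction y using TensorProduct.induction_on with
  | zero => simp
  | tmul m b =>
    simp only [rmL_tmul, kappa_tmul, rmL_mul, LinearMap.comp_apply]
  | add x y hx hy => simp only [map_add, hx, hy]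

lemma mu_rmL (a : A) (y : M ⊗[k] A) :
    mu k A M (rmL k M a y) = rmL k M a (mu k A M y) := by
  induction y using TensorProduct.induction_on with
  | zero => simp
  | tmul m b =>
    simp only [rmL_tmul, mu_tmul, rmL_mul, LinearMap.comp_apply]
  | add x y hx hy => simp only [map_add, hx, hy]

lemma Mu_SM_assoc_symm :
    Mu k M ∘ₗ (SM k A M).rTensor A ∘ₗ (TensorProduct.assoc k M A A).symm.toLinearMap =
      (LinearMap.mul' k A ∘ₗ (HopfAlgebraStruct.antipode (R := k) (A := A)).rTensor A).lTensor M := by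
  ext m a b
  simp [mul_comm]

lemma Mu_lTensorS_assoc_symm :
    Mu k M ∘ₗ (HopfAlgebraStruct.antipode (R := k) (A := A)).lTensor (M ⊗[k] A) ∘ₗ
        (TensorProduct.assoc k M A A).symm.toLinearMap =
      (LinearMap.mul' k A ∘ₗ (HopfAlgebraStruct.antipode (R := k) (A := A)).lTensor A).lTensor M := by
  ext m a b
  simp [mul_comm]

lemma kappa_coact (m : M) : kappa k A M (coactM k A M m) = m ⊗ₜ[k] (1 : A) := by
  have h1 : kappa k A M (coactM k A M m) =
      Mu k M ((SM k A M).rTensor A ((coactM k A M).rTensor A (coactM k A M m))) := by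
    simp only [kappa, LinearMap.rTensor_comp, LinearMap.comp_apply]
  rw [h1, coassoc_apply]
  have h2 := LinearMap.congr_fun (Mu_SM_assoc_symm k A M)
    ((CoalgebraStruct.comul (R := k) (A := A)).lTensor M (coactM k A M m))
  simp only [LinearMap.comp_apply, LinearEquiv.coe_coe] at h2
  rw [h2, ← LinearMap.comp_apply, ← LinearMap.lTensor_comp, LinearMap.comp_assoc,
    HopfAlgebra.mul_antipode_rTensor_comul, LinearMap.lTensor_comp, LinearMap.comp_apply,
    counit_apply]
  simp [Algebra.linearMap_apply]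

lemma mu_SM_coact (m : M) : mu k A M (SM k A M (coactM k A M m)) = m ⊗ₜ[k] (1 : A) := by
  have h0 : ∀ y : M ⊗[k] A, mu k A M (SM k A M y) =
      Mu k M ((HopfAlgebraStruct.antipode (R := k) (A := A)).lTensor (M ⊗[k] A)
        ((coactM k A M).rTensor A y)) := by
    intro y
    induction y using TensorProduct.induction_on with
    | zero => simp
    | tmul m b => simp
    | add x y hx hy => simp only [map_add, hx, hy]
  rw [h0, coassoc_apply]
  have h2 := LinearMap.congr_fun (Mu_lTensorS_assoc_symm k A M)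
    ((CoalgebraStruct.comul (R := k) (A := A)).lTensor M (coactM k A M m))
  simp only [LinearMap.comp_apply, LinearEquiv.coe_coe] at h2
  rw [h2, ← LinearMap.comp_apply, ← LinearMap.lTensor_comp, LinearMap.comp_assoc,
    HopfAlgebra.mul_antipode_lTensor_comul, LinearMap.lTensor_comp, LinearMap.comp_apply,
    counit_apply]
  simp [Algebra.linearMap_apply]

theorem kappa_mu : kappa k A M ∘ₗ mu k A M = LinearMap.id := by
  ext m a
  simp only [AlgebraTensorModule.curry_apply, curry_apply, LinearMap.coe_restrictScalars,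
    LinearMap.comp_apply, LinearMap.id_apply, mu_tmul, kappa_rmL, kappa_coact, rmL_tmul, mul_one]

theorem mu_kappa : mu k A M ∘ₗ kappa k A M = LinearMap.id := by
  ext m a
  simp only [AlgebraTensorModule.curry_apply, curry_apply, LinearMap.coe_restrictScalars,
    LinearMap.comp_apply, LinearMap.id_apply, kappa_tmul, mu_rmL, mu_SM_coact, rmL_tmul, mul_one]

/-! ### The diagonal coaction on `M ⊗ A` and the intertwining property of `mu` -/

/-- the "diagonal coaction" on `M ⊗ A`: `m ⊗ a ↦ Σ (m₀ ⊗ a₁) ⊗ m₁ a₂` (just a linear map). -/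
noncomputable def delta : M ⊗[k] A →ₗ[k] (M ⊗[k] A) ⊗[k] A :=
  (LinearMap.mul' k A).lTensor (M ⊗[k] A) ∘ₗ
    (TensorProduct.tensorTensorTensorComm k M A A A).toLinearMap ∘ₗ
      TensorProduct.map (coactM k A M) (CoalgebraStruct.comul (R := k) (A := A))

/-- `((y ⊗ b) ⊗ (a₁ ⊗ a₂)) ↦ y·a₁ ⊗ b a₂`. -/
noncomputable def Pmap : ((M ⊗[k] A) ⊗[k] A) ⊗[k] (A ⊗[k] A) →ₗ[k] (M ⊗[k] A) ⊗[k] A :=
  TensorProduct.map (Mu k M) (LinearMap.mul' k A) ∘ₗ
    (TensorProduct.tensorTensorTensorComm k (M ⊗[k] A) A A A).toLinearMap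

@[simp] lemma Pmap_tmul (y : M ⊗[k] A) (b a₁ a₂ : A) :
    Pmap k A M ((y ⊗ₜ[k] b) ⊗ₜ[k] (a₁ ⊗ₜ[k] a₂)) = rmL k M a₁ y ⊗ₜ[k] (b * a₂) := by
  simp [Pmap]

lemma mu_rTensor_delta_aux :
    (mu k A M).rTensor A ∘ₗ (LinearMap.mul' k A).lTensor (M ⊗[k] A) ∘ₗ
        (TensorProduct.tensorTensorTensorComm k M A A A).toLinearMap =
      Pmap k A M ∘ₗ ((coactM k A M).rTensor A).rTensor (A ⊗[k] A) := by
  ext m b a₁ a₂
  simp

/-- multiplication on `M ⊗ (A ⊗ A)` by an element of `A ⊗ A`. -/
noncomputable def Mu2 : (M ⊗[k] (A ⊗[k] A)) ⊗[k] (A ⊗[k] A) →ₗ[k] M ⊗[k] (A ⊗[k] A) :=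
  TensorProduct.lift (rmL k M (A := A ⊗[k] A)).flip

@[simp] lemma Mu2_tmul (w : M ⊗[k] (A ⊗[k] A)) (t : A ⊗[k] A) :
    Mu2 k A M (w ⊗ₜ[k] t) = rmL k M t w := by
  simp [Mu2]

lemma Pmap_assoc_symm :
    Pmap k A M ∘ₗ ((TensorProduct.assoc k M A A).symm.toLinearMap).rTensor (A ⊗[k] A) =
      (TensorProduct.assoc k M A A).symm.toLinearMap ∘ₗ Mu2 k A M := by
  ext m b₁ b₂ a₁ a₂
  simp [mul_comm]

lemma comul_lTensor_rmL (a : A) (y : M ⊗[k] A) :
    (CoalgebraStruct.comul (R := k) (A := A)).lTensor M (rmL k M a y) =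
      rmL k M (CoalgebraStruct.comul (R := k) (A := A) a)
        ((CoalgebraStruct.comul (R := k) (A := A)).lTensor M y) := by
  induction y using TensorProduct.induction_on with
  | zero => simp
  | tmul m b => simp [Bialgebra.comul_mul]
  | add x y hx hy => simp only [map_add, hx, hy]

/-- `mu` intertwines the diagonal coaction with the induced coaction `id ⊗ Δ`. -/
theorem coactAux_mu :
    Hoch.Ind.coactAux k A M ∘ₗ mu k A M = (mu k A M).rTensor A ∘ₗ delta k A M := by
  ext m a
  simp only [AlgebraTensorModule.curry_apply, curry_apply, LinearMap.coe_restrictScalars,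
    LinearMap.comp_apply]
  have h1 := LinearMap.congr_fun (mu_rTensor_delta_aux k A M)
    (coactM k A M m ⊗ₜ[k] CoalgebraStruct.comul (R := k) (A := A) a)
  simp only [LinearMap.comp_apply, LinearEquiv.coe_coe, LinearMap.rTensor_tmul] at h1
  have h2 : delta k A M (m ⊗ₜ[k] a) =
      (LinearMap.mul' k A).lTensor (M ⊗[k] A)
        ((TensorProduct.tensorTensorTensorComm k M A A A)
          (coactM k A M m ⊗ₜ[k] CoalgebraStruct.comul (R := k) (A := A) a)) := by
    simp [delta]
  rw [h2, h1, coassoc_apply]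
  have h3 := LinearMap.congr_fun (Pmap_assoc_symm k A M)
    (((CoalgebraStruct.comul (R := k) (A := A)).lTensor M (coactM k A M m)) ⊗ₜ[k]
      CoalgebraStruct.comul (R := k) (A := A) a)
  simp only [LinearMap.comp_apply, LinearEquiv.coe_coe, LinearMap.rTensor_tmul, Mu2_tmul] at h3
  rw [h3, mu_tmul, Hoch.Ind.coactAux, LinearMap.comp_apply, comul_lTensor_rmL]
  rfl

end Comod

section HopfMod

variable (k : Type u) [CommRing k] (A : Type v) [CommRing A] [HopfAlgebra k A]
variable (B : Type w) [CommRing B] [Algebra k B] [HopfRep.Comod k A B]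
variable (M : Type w') [AddCommGroup M] [Module k M] [Module B M] [IsScalarTower k B M]
  [HopfRep.Comod k A M] [TameAct.IsHopfMod k A B M]
variable (α : A →ₗ[k] B)

/-- `m ⊗ a ↦ α(a) • m`. -/
noncomputable def theta : M ⊗[k] A →ₗ[k] M :=
  TensorProduct.lift ((Algebra.lsmul k k M : B →ₐ[k] Module.End k M).toLinearMap ∘ₗ α).flip

@[simp] lemma theta_tmul (m : M) (a : A) : theta k A B M α (m ⊗ₜ[k] a) = α a • m := by
  simp [theta]

/-- the retraction `m ⊗ a ↦ Σ α(S(m₁) a) • m₀` of the coaction. -/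
noncomputable def lam : M ⊗[k] A →ₗ[k] M := theta k A B M α ∘ₗ kappa k A M

lemma theta_rTensor_aux :
    (theta k A B M α).rTensor A ∘ₗ (LinearMap.mul' k A).lTensor (M ⊗[k] A) ∘ₗ
        (TensorProduct.tensorTensorTensorComm k M A A A).toLinearMap =
      TensorProduct.lift ((TameAct.hmSMul k A B M ∘ₗ α.rTensor A).flip) := by
  ext m b a₁ a₂
  simp [mul_comm]

/-- `theta` intertwines the diagonal coaction with the coaction of `M`. -/
theorem coact_theta (hα : Hoch.IsComodHom A α) :
    coactM k A M ∘ₗ theta k A B M α = (theta k A B M α).rTensor A ∘ₗ delta k A M := by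
  ext m a
  simp only [AlgebraTensorModule.curry_apply, curry_apply, LinearMap.coe_restrictScalars,
    LinearMap.comp_apply, theta_tmul]
  have h2 : delta k A M (m ⊗ₜ[k] a) =
      (LinearMap.mul' k A).lTensor (M ⊗[k] A)
        ((TensorProduct.tensorTensorTensorComm k M A A A)
          (coactM k A M m ⊗ₜ[k] CoalgebraStruct.comul (R := k) (A := A) a)) := by
    simp [delta]
  have h1 := LinearMap.congr_fun (theta_rTensor_aux k A B M α)
    (coactM k A M m ⊗ₜ[k] CoalgebraStruct.comul (R := k) (A := A) a)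
  simp only [LinearMap.comp_apply, LinearEquiv.coe_coe, TensorProduct.lift.tmul,
    LinearMap.flip_apply] at h1
  rw [h2, h1]
  have h3 := LinearMap.congr_fun hα a
  simp only [LinearMap.comp_apply] at h3
  have h4 : HopfRep.Comod.coact (k := k) (A := A) (V := A) a =
      CoalgebraStruct.comul (R := k) (A := A) a := rfl
  rw [h4] at h3
  rw [← h3]
  exact TameAct.IsHopfMod.coact_smul (k := k) (A := A) (B := B) (M := M) (α a) m

/-- `lam` is a comodule map from the induced comodule `M ⊗ A` (coaction `id ⊗ Δ`) to `M`. -/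
theorem coact_lam (hα : Hoch.IsComodHom A α) :
    coactM k A M ∘ₗ lam k A B M α = (lam k A B M α).rTensor A ∘ₗ Hoch.Ind.coactAux k A M := by
  have hI : Hoch.Ind.coactAux k A M = (mu k A M).rTensor A ∘ₗ delta k A M ∘ₗ kappa k A M := by
    rw [← LinearMap.comp_assoc, ← coactAux_mu, LinearMap.comp_assoc, mu_kappa, LinearMap.comp_id]
  have hkm : (kappa k A M).rTensor A ∘ₗ (mu k A M).rTensor A = LinearMap.id := by
    rw [← LinearMap.rTensor_comp, kappa_mu, LinearMap.rTensor_id]
  rw [hI, lam, LinearMap.rTensor_comp]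
  calc coactM k A M ∘ₗ theta k A B M α ∘ₗ kappa k A M
      = (coactM k A M ∘ₗ theta k A B M α) ∘ₗ kappa k A M := by rw [LinearMap.comp_assoc]
    _ = ((theta k A B M α).rTensor A ∘ₗ delta k A M) ∘ₗ kappa k A M := by
        rw [coact_theta k A B M α hα]
    _ = ((theta k A B M α).rTensor A ∘ₗ ((kappa k A M).rTensor A ∘ₗ (mu k A M).rTensor A) ∘ₗ
          delta k A M) ∘ₗ kappa k A M := by rw [hkm, LinearMap.id_comp]
    _ = _ := by simp only [LinearMap.comp_assoc]

theorem isComodHom_lam (hα : Hoch.IsComodHom A α) :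
    Hoch.IsComodHom A
      ((lam k A B M α ∘ₗ (Hoch.Ind.equiv k A M).symm.toLinearMap : Hoch.Ind k A M →ₗ[k] M)) :=
  coact_lam k A B M α hα

theorem lam_coact (hα1 : α 1 = 1) (m : M) : lam k A B M α (coactM k A M m) = m := by
  rw [lam, LinearMap.comp_apply, kappa_coact, theta_tmul, hα1, one_smul]

theorem lam_comp_toInd (hα1 : α 1 = 1) :
    (lam k A B M α ∘ₗ (Hoch.Ind.equiv k A M).symm.toLinearMap) ∘ₗ Hoch.toInd k A M =
      LinearMap.id := by
  ext m
  exact lam_coact k A B M α hα1 m

/-- the Reynolds operator is `m ↦ lam (m ⊗ 1)`. -/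
theorem reynolds_eq (m : M) :
    TameAct.reynolds k A B M α m = lam k A B M α (m ⊗ₜ[k] (1 : A)) := by
  have h : ∀ y : M ⊗[k] A,
      TensorProduct.lift
        ((Algebra.lsmul k k M : B →ₐ[k] Module.End k M).toLinearMap ∘ₗ α ∘ₗ
          (HopfAlgebraStruct.antipode (R := k) (A := A))).flip y =
        theta k A B M α (SM k A M y) := by
    intro y
    induction y using TensorProduct.induction_on with
    | zero => simp
    | tmul m b => simp
    | add x y hx hy => simp only [map_add, hx, hy]
  rw [TameAct.reynolds, LinearMap.comp_apply, h, lam, LinearMap.comp_apply, kappa_tmul, rmL_one]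
  rfl

variable (N : Type w'') [AddCommGroup N] [Module k N] [Module B N] [IsScalarTower k B N]
  [HopfRep.Comod k A N] [TameAct.IsHopfMod k A B N]

/-- naturality of `lam` for `B`-linear comodule maps. -/
theorem lam_natural (g : M →ₗ[B] N) (hg : Hoch.IsComodHom A (g.restrictScalars k)) :
    lam k A B N α ∘ₗ (g.restrictScalars k).rTensor A = (g.restrictScalars k) ∘ₗ lam k A B M α := by
  ext m a
  simp only [AlgebraTensorModule.curry_apply, curry_apply, LinearMap.coe_restrictScalars,
    LinearMap.comp_apply, LinearMap.rTensor_tmul, lam, kappa_tmul]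
  have h1 := LinearMap.congr_fun hg m
  simp only [LinearMap.comp_apply, LinearMap.coe_restrictScalars] at h1
  have h2 : coactM k A N (g m) = (g.restrictScalars k).rTensor A (coactM k A M m) := h1
  rw [h2]
  generalize coactM k A M m = y
  induction y using TensorProduct.induction_on with
  | zero => simp
  | tmul m b => simp
  | add x y hx hy => simp only [map_add, hx, hy]

end HopfMod

section Extra

variable (k : Type u) [CommRing k] (A : Type v) [CommRing A] [HopfAlgebra k A]
variable (M : Type w') [AddCommGroup M] [Module k M] [HopfRep.Comod k A M]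
variable (N : Type w'') [AddCommGroup N] [Module k N]

/-- for any linear map `h : M → N`, `(h ⊗ id) ∘ ρ : M → N ⊗ A` is a comodule map to the induced
comodule. -/
theorem coactAux_rTensor_coact (h : M →ₗ[k] N) :
    Hoch.Ind.coactAux k A N ∘ₗ h.rTensor A ∘ₗ coactM k A M =
      (h.rTensor A ∘ₗ coactM k A M).rTensor A ∘ₗ coactM k A M := by
  have h1 : Hoch.Ind.coactAux k A N ∘ₗ h.rTensor A =
      (h.rTensor A).rTensor A ∘ₗ Hoch.Ind.coactAux k A M := by
    ext m a
    simp only [AlgebraTensorModule.curry_apply, curry_apply, LinearMap.coe_restrictScalars,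
      LinearMap.comp_apply, LinearMap.rTensor_tmul, Hoch.Ind.coactAux_tmul]
    generalize CoalgebraStruct.comul (R := k) (A := A) a = t
    induction t using TensorProduct.induction_on with
    | zero => simp
    | tmul x y => simp
    | add x y hx hy => simp only [TensorProduct.tmul_add, map_add, hx, hy]
  have h2 : Hoch.Ind.coactAux k A M ∘ₗ coactM k A M =
      (coactM k A M).rTensor A ∘ₗ coactM k A M := by
    ext m
    simp only [LinearMap.comp_apply, Hoch.Ind.coactAux, LinearEquiv.coe_coe]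
    rw [coassoc_apply]
  rw [← LinearMap.comp_assoc, h1, LinearMap.comp_assoc, h2, LinearMap.rTensor_comp,
    LinearMap.comp_assoc]

/-- every comodule is a Hopf module over the trivial comodule algebra `k`. -/
theorem isHopfMod_trivial :
    letI := HopfRep.Comod.trivial k A k
    TameAct.IsHopfMod k A k M := by
  letI := HopfRep.Comod.trivial k A k
  refine ⟨fun b m => ?_⟩
  have h1 : HopfRep.Comod.coact (k := k) (A := A) (V := k) b = b ⊗ₜ[k] (1 : A) := rfl
  rw [h1, map_smul]
  generalize HopfRep.Comod.coact (k := k) (A := A) m = y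
  induction y using TensorProduct.induction_on with
  | zero => simp
  | tmul m a => simp [TensorProduct.smul_tmul']
  | add x y hx hy => simp only [smul_add, map_add, hx, hy]

end Extra

end Groth.Agent.Lib.helper28.TotInt
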