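import Groth.Prelude.Def_HopfRep
import Groth.Prelude.Def_Hoch
import Mathlib

/-!
Comodules over a coalgebra `C` over a field `k` viewed as modules over the free algebra
`FreeAlgebra k (C →ₗ[k] k)` (helper28).

A functional `φ : C →ₗ[k] k` acts on a comodule `V` by `op φ = (id ⊗ φ) ∘ ρ`.  Subcomodules are
exactly the subspaces stable under all `op φ`, and comodule maps are exactly the linear maps commuting
with all `op φ`.  Hence Mathlib's theory of simple / semisimple modules applies.
-/

set_option autoImplicit false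
set_option linter.unusedSectionVars false
set_option linter.unusedVariables false
universe u v w w' w''

open TensorProduct

namespace Groth.Agent.Lib.helper28.ComodMod

section Basic

variable {k : Type u} {C : Type v} [Field k] [AddCommGroup C] [Module k C]
variable {V : Type w} [AddCommGroup V] [Module k V]
variable {V' : Type w'} [AddCommGroup V'] [Module k V']

/-- contraction of the second tensor factor against a functional -/
noncomputable def T (V : Type w) [AddCommGroup V] [Module k V] (φ : C →ₗ[k] k) :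
    V ⊗[k] C →ₗ[k] V :=
  (TensorProduct.rid k V).toLinearMap ∘ₗ φ.lTensor V

@[simp] lemma T_tmul (φ : C →ₗ[k] k) (x : V) (c : C) : T V φ (x ⊗ₜ[k] c) = φ c • x := by
  simp [T]

lemma T_rTensor (f : V →ₗ[k] V') (φ : C →ₗ[k] k) (t : V ⊗[k] C) :
    T V' φ (f.rTensor C t) = f (T V φ t) := by
  induction t using TensorProduct.induction_on with
  | zero => simp
  | tmul x c => simp
  | add a b ha hb => simp only [map_add, ha, hb]

/-- an element of `V ⊗ C` is zero as soon as all its contractions are zero. -/
theorem eq_zero_of_forall_T (t : V ⊗[k] C) (h : ∀ φ : C →ₗ[k] k, T V φ t = 0) : t = 0 := by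
  classical
  let b := Module.Basis.ofVectorSpace k C
  let e := TensorProduct.equivFinsuppOfBasisRight (M := V) b
  apply e.injective
  rw [map_zero]
  ext i
  rw [TensorProduct.equivFinsuppOfBasisRight_apply]
  exact h (b.coord i)

theorem eq_of_forall_T (t t' : V ⊗[k] C) (h : ∀ φ : C →ₗ[k] k, T V φ t = T V φ t') : t = t' := by
  rw [← sub_eq_zero]
  apply eq_zero_of_forall_T
  intro φ
  rw [map_sub, h φ, sub_self]

/-- coordinate criterion for membership in `X ⊗ C ⊆ V ⊗ C`. -/
theorem mem_range_rTensor_iff (X : Submodule k V) (t : V ⊗[k] C) :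
    t ∈ LinearMap.range (X.subtype.rTensor C) ↔ ∀ φ : C →ₗ[k] k, T V φ t ∈ X := by
  classical
  constructor
  · rintro ⟨y, rfl⟩ φ
    rw [T_rTensor]
    exact (T X φ y).2
  · intro h
    set b := Module.Basis.ofVectorSpace k C with hb
    let e := TensorProduct.equivFinsuppOfBasisRight (M := V) b
    have hsum : t = (e t).sum fun i m => m ⊗ₜ[k] b i := by
      rw [← TensorProduct.equivFinsuppOfBasisRight_symm_apply]
      exact (e.symm_apply_apply _).symm
    have hcoord : ∀ i, e t i = T V (b.coord i) t := by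
      intro i
      rw [TensorProduct.equivFinsuppOfBasisRight_apply]; rfl
    rw [hsum, Finsupp.sum]
    refine Submodule.sum_mem _ fun i _ => ?_
    exact ⟨(⟨e t i, by rw [hcoord]; exact h _⟩ : X) ⊗ₜ[k] b i, by simp⟩

end Basic

section Comod

variable {k : Type u} {C : Type v} [Field k] [AddCommGroup C] [Module k C] [Coalgebra k C]
variable {V : Type w} [AddCommGroup V] [Module k V] [HopfRep.Comod k C V]
variable {V' : Type w'} [AddCommGroup V'] [Module k V'] [HopfRep.Comod k C V']

/-- the operator on a comodule given by a functional on the coalgebra: `v ↦ Σ φ(v₁) v₀`. -/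
noncomputable def op (φ : C →ₗ[k] k) : V →ₗ[k] V :=
  T V φ ∘ₗ HopfRep.Comod.coact (k := k) (A := C) (V := V)

lemma op_apply (φ : C →ₗ[k] k) (v : V) :
    op φ v = T V φ (HopfRep.Comod.coact (k := k) (A := C) v) := rfl

/-- the counit acts as the identity. -/
lemma op_counit (v : V) : op (CoalgebraStruct.counit (R := k) (A := C)) v = v := by
  have hcu := LinearMap.congr_fun (HopfRep.Comod.counit_comp (k := k) (A := C) (V := V)) v
  simp only [LinearMap.comp_apply, LinearMap.flip_apply, TensorProduct.mk_apply] at hcu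
  simp only [op_apply, T, LinearMap.comp_apply, LinearEquiv.coe_coe]
  rw [hcu]; simp

theorem isSubcomod_iff (X : Submodule k V) :
    HopfRep.IsSubcomod (k := k) (A := C) X ↔ ∀ (φ : C →ₗ[k] k), ∀ x ∈ X, op φ x ∈ X := by
  constructor
  · intro h φ x hx
    exact (mem_range_rTensor_iff X _).1 (h x hx) φ
  · intro h x hx
    exact (mem_range_rTensor_iff X _).2 fun φ => h φ x hx

theorem isComodHom_iff (f : V →ₗ[k] V') :
    Hoch.IsComodHom C f ↔ ∀ (φ : C →ₗ[k] k) (v : V), f (op φ v) = op φ (f v) := by
  constructor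
  · intro h φ v
    have h1 := LinearMap.congr_fun h v
    simp only [LinearMap.comp_apply] at h1
    rw [op_apply, op_apply, h1, T_rTensor]
  · intro h
    apply LinearMap.ext
    intro v
    simp only [LinearMap.comp_apply]
    apply eq_of_forall_T
    intro φ
    rw [T_rTensor]
    exact (h φ v).symm

theorem isSubcomod_sSup (s : Set (Submodule k V))
    (hs : ∀ X ∈ s, HopfRep.IsSubcomod (k := k) (A := C) X) :
    HopfRep.IsSubcomod (k := k) (A := C) (sSup s) := by
  rw [isSubcomod_iff]
  intro φ
  change sSup s ≤ (sSup s).comap (op φ)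
  exact sSup_le fun X hX => le_trans
    (show X ≤ X.comap (op φ) from fun x hx => (isSubcomod_iff X).1 (hs X hX) φ x hx)
    (Submodule.comap_mono (le_sSup hX))

theorem isSubcomod_iSup {ι : Sort*} (S : ι → Submodule k V)
    (hs : ∀ i, HopfRep.IsSubcomod (k := k) (A := C) (S i)) :
    HopfRep.IsSubcomod (k := k) (A := C) (⨆ i, S i) := by
  apply isSubcomod_sSup
  rintro _ ⟨i, rfl⟩
  exact hs i

theorem isSubcomod_sInf (s : Set (Submodule k V))
    (hs : ∀ X ∈ s, HopfRep.IsSubcomod (k := k) (A := C) X) :
    HopfRep.IsSubcomod (k := k) (A := C) (sInf s) := by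
  rw [isSubcomod_iff]
  intro φ x hx
  rw [Submodule.mem_sInf] at hx ⊢
  intro X hX
  exact (isSubcomod_iff X).1 (hs X hX) φ x (hx X hX)

theorem isSubcomod_inf (X Y : Submodule k V) (hX : HopfRep.IsSubcomod (k := k) (A := C) X)
    (hY : HopfRep.IsSubcomod (k := k) (A := C) Y) :
    HopfRep.IsSubcomod (k := k) (A := C) (X ⊓ Y) := by
  rw [isSubcomod_iff]
  intro φ x hx
  exact ⟨(isSubcomod_iff X).1 hX φ x hx.1, (isSubcomod_iff Y).1 hY φ x hx.2⟩

theorem isSubcomod_bot : HopfRep.IsSubcomod (k := k) (A := C) (⊥ : Submodule k V) := by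
  rw [isSubcomod_iff]
  intro φ x hx
  rw [Submodule.mem_bot] at hx ⊢
  rw [hx, map_zero]

theorem isSubcomod_top : HopfRep.IsSubcomod (k := k) (A := C) (⊤ : Submodule k V) := by
  rw [isSubcomod_iff]
  intro φ x hx
  trivial

theorem isSubcomod_range (f : V →ₗ[k] V') (hf : Hoch.IsComodHom C f) :
    HopfRep.IsSubcomod (k := k) (A := C) (LinearMap.range f) := by
  rw [isSubcomod_iff]
  rintro φ _ ⟨v, rfl⟩
  exact ⟨op φ v, (isComodHom_iff f).1 hf φ v⟩

theorem isSubcomod_ker (f : V →ₗ[k] V') (hf : Hoch.IsComodHom C f) :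
    HopfRep.IsSubcomod (k := k) (A := C) (LinearMap.ker f) := by
  rw [isSubcomod_iff]
  intro φ x hx
  rw [LinearMap.mem_ker] at hx ⊢
  rw [(isComodHom_iff f).1 hf φ x, hx, map_zero]

end Comod

section Module

variable (k : Type u) (C : Type v) [Field k] [AddCommGroup C] [Module k C] [Coalgebra k C]

/-- the free algebra on the functionals of `C`. -/
abbrev R : Type (max u v) := FreeAlgebra k (C →ₗ[k] k)

/-- type synonym of a comodule, carrying the module structure over `R k C`. -/
def AsMod (V : Type w) [AddCommGroup V] [Module k V] [HopfRep.Comod k C V] : Type w := V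

variable (V : Type w) [AddCommGroup V] [Module k V] [HopfRep.Comod k C V]
variable (V' : Type w') [AddCommGroup V'] [Module k V'] [HopfRep.Comod k C V']

instance : AddCommGroup (AsMod k C V) := inferInstanceAs (AddCommGroup V)
instance : Module k (AsMod k C V) := inferInstanceAs (Module k V)

/-- the algebra map from the free algebra to the endomorphisms. -/
noncomputable def opHom : R k C →ₐ[k] Module.End k V :=
  FreeAlgebra.lift k (fun φ : C →ₗ[k] k => (op φ : V →ₗ[k] V))

noncomputable instance : Module (R k C) (AsMod k C V) :=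
  Module.compHom V (opHom k C V).toRingHom

variable {k C V V'}

lemma smul_def (r : R k C) (x : AsMod k C V) : r • x = opHom k C V r x := rfl

lemma ι_smul (φ : C →ₗ[k] k) (x : AsMod k C V) :
    (FreeAlgebra.ι k φ : R k C) • x = (op φ (x : V) : V) := by
  rw [smul_def, opHom, FreeAlgebra.lift_ι_apply]

lemma algebraMap_smul' (c : k) (x : AsMod k C V) :
    (algebraMap k (R k C) c) • x = (c • (x : V) : V) := by
  rw [smul_def, AlgHom.commutes]
  rfl

instance : IsScalarTower k (R k C) (AsMod k C V) where
  smul_assoc c r x := by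
    rw [smul_def, smul_def, map_smul]
    rfl

/-- induction principle: a property of `r • x` holding for generators. -/
theorem smul_induction {P : R k C → Prop} (h0 : ∀ c : k, P (algebraMap k (R k C) c))
    (h1 : ∀ φ : C →ₗ[k] k, P (FreeAlgebra.ι k φ)) (hmul : ∀ a b, P a → P b → P (a * b))
    (hadd : ∀ a b, P a → P b → P (a + b)) (r : R k C) : P r :=
  FreeAlgebra.induction k _ h0 h1 hmul hadd r

/-- the `R`-submodule attached to a subcomodule. -/
def toSub (X : Submodule k V) (hX : HopfRep.IsSubcomod (k := k) (A := C) X) :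
    Submodule (R k C) (AsMod k C V) where
  carrier := {x | (x : V) ∈ X}
  add_mem' := fun ha hb => X.add_mem ha hb
  zero_mem' := X.zero_mem
  smul_mem' := by
    intro r
    induction r using smul_induction with
    | h0 c =>
      intro x hx
      show (algebraMap k (R k C) c • x : AsMod k C V) ∈ {x : AsMod k C V | (x : V) ∈ X}
      rw [algebraMap_smul']
      exact X.smul_mem c hx
    | h1 φ =>
      intro x hx
      show ((FreeAlgebra.ι k φ : R k C) • x : AsMod k C V) ∈ {x : AsMod k C V | (x : V) ∈ X}
      rw [ι_smul]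
      exact (isSubcomod_iff X).1 hX φ x hx
    | hmul a b ha hb =>
      intro x hx
      rw [mul_smul]
      exact ha (hb hx)
    | hadd a b ha hb =>
      intro x hx
      rw [add_smul]
      exact X.add_mem (ha hx) (hb hx)

@[simp] lemma mem_toSub (X : Submodule k V) (hX : HopfRep.IsSubcomod (k := k) (A := C) X)
    (x : AsMod k C V) : x ∈ toSub X hX ↔ (x : V) ∈ X := Iff.rfl

/-- the subspace underlying an `R`-submodule. -/
def ofSub (N : Submodule (R k C) (AsMod k C V)) : Submodule k V where
  carrier := {v | (v : AsMod k C V) ∈ N}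
  add_mem' := fun ha hb => N.add_mem ha hb
  zero_mem' := N.zero_mem
  smul_mem' := by
    intro c x hx
    have := N.smul_mem (algebraMap k (R k C) c) hx
    rw [algebraMap_smul'] at this
    exact this

@[simp] lemma mem_ofSub (N : Submodule (R k C) (AsMod k C V)) (v : V) :
    v ∈ ofSub N ↔ (v : AsMod k C V) ∈ N := Iff.rfl

theorem isSubcomod_ofSub (N : Submodule (R k C) (AsMod k C V)) :
    HopfRep.IsSubcomod (k := k) (A := C) (ofSub N) := by
  rw [isSubcomod_iff]
  intro φ x hx
  have := N.smul_mem (FreeAlgebra.ι k φ : R k C) hx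
  rw [ι_smul] at this
  exact this

@[simp] lemma ofSub_toSub (X : Submodule k V) (hX : HopfRep.IsSubcomod (k := k) (A := C) X) :
    ofSub (toSub X hX) = X := by
  ext; rfl

@[simp] lemma toSub_ofSub (N : Submodule (R k C) (AsMod k C V)) :
    toSub (ofSub N) (isSubcomod_ofSub N) = N := by
  ext; rfl

lemma ofSub_le_iff (N N' : Submodule (R k C) (AsMod k C V)) : ofSub N ≤ ofSub N' ↔ N ≤ N' :=
  Iff.rfl

lemma ofSub_injective : Function.Injective (ofSub : Submodule (R k C) (AsMod k C V) → Submodule k V) := by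
  intro N N' h
  ext x
  exact (Submodule.ext_iff.1 h) x

@[simp] lemma ofSub_bot : ofSub (⊥ : Submodule (R k C) (AsMod k C V)) = ⊥ := by
  ext x
  simp only [mem_ofSub, Submodule.mem_bot]
  rfl

@[simp] lemma ofSub_top : ofSub (⊤ : Submodule (R k C) (AsMod k C V)) = ⊤ := by
  ext x
  constructor <;> intro _ <;> trivial

lemma ofSub_eq_bot_iff (N : Submodule (R k C) (AsMod k C V)) : ofSub N = ⊥ ↔ N = ⊥ := by
  rw [← ofSub_bot (k := k) (C := C) (V := V)]
  exact (ofSub_injective (k := k) (C := C) (V := V)).eq_iff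

lemma ofSub_eq_top_iff (N : Submodule (R k C) (AsMod k C V)) : ofSub N = ⊤ ↔ N = ⊤ := by
  rw [← ofSub_top (k := k) (C := C) (V := V)]
  exact (ofSub_injective (k := k) (C := C) (V := V)).eq_iff

lemma ofSub_inf (N N' : Submodule (R k C) (AsMod k C V)) : ofSub (N ⊓ N') = ofSub N ⊓ ofSub N' := by
  ext x; rfl

lemma ofSub_sup (N N' : Submodule (R k C) (AsMod k C V)) : ofSub (N ⊔ N') = ofSub N ⊔ ofSub N' := by
  apply le_antisymm
  · intro x hx
    have hx' : (x : AsMod k C V) ∈ N ⊔ N' := hx
    obtain ⟨y, hy, z, hz, hyz⟩ := (@Submodule.mem_sup (R k C) (AsMod k C V) _ _ _ x N N').1 hx'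
    have hxe : x = (y : V) + (z : V) := hyz.symm
    rw [hxe]
    exact Submodule.add_mem_sup (S := ofSub N) (T := ofSub N') hy hz
  · refine sup_le ?_ ?_
    · exact (ofSub_le_iff _ _).2 le_sup_left
    · exact (ofSub_le_iff _ _).2 le_sup_right

lemma ofSub_sSup (s : Set (Submodule (R k C) (AsMod k C V))) :
    ofSub (sSup s) = sSup (ofSub '' s) := by
  apply le_antisymm
  · have : sSup s ≤ toSub (sSup (ofSub '' s)) (isSubcomod_sSup _ (by
        rintro _ ⟨N, _, rfl⟩; exact isSubcomod_ofSub N)) := by
      refine sSup_le fun N hN => ?_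
      intro x hx
      rw [mem_toSub]
      exact (le_sSup (Set.mem_image_of_mem ofSub hN) : ofSub N ≤ _) hx
    intro x hx
    exact this hx
  · refine sSup_le ?_
    rintro _ ⟨N, hN, rfl⟩
    exact (ofSub_le_iff _ _).2 (le_sSup hN)

lemma ofSub_iSup {ι : Sort*} (N : ι → Submodule (R k C) (AsMod k C V)) :
    ofSub (⨆ i, N i) = ⨆ i, ofSub (N i) := by
  rw [iSup, ofSub_sSup, iSup, ← Set.range_comp]
  rfl

/-- the order isomorphism between subcomodules and `R`-submodules. -/
def subEquiv : {X : Submodule k V // HopfRep.IsSubcomod (k := k) (A := C) X} ≃o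
    Submodule (R k C) (AsMod k C V) where
  toFun X := toSub X.1 X.2
  invFun N := ⟨ofSub N, isSubcomod_ofSub N⟩
  left_inv X := Subtype.ext (ofSub_toSub X.1 X.2)
  right_inv N := toSub_ofSub N
  map_rel_iff' := Iff.rfl

/-- a comodule map as an `R`-linear map. -/
noncomputable def toLin (f : V →ₗ[k] V') (hf : Hoch.IsComodHom C f) : AsMod k C V →ₗ[R k C] AsMod k C V' where
  toFun := fun x => (f (x : V) : V')
  map_add' := f.map_add
  map_smul' := by
    intro r
    induction r using smul_induction with
    | h0 c =>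
      intro x
      simp only [RingHom.id_apply]
      rw [algebraMap_smul', algebraMap_smul']
      exact f.map_smul c x
    | h1 φ =>
      intro x
      simp only [RingHom.id_apply]
      rw [ι_smul, ι_smul]
      exact (isComodHom_iff f).1 hf φ x
    | hmul a b ha hb =>
      intro x
      simp only [RingHom.id_apply] at ha hb ⊢
      rw [mul_smul, mul_smul, ha, hb]
    | hadd a b ha hb =>
      intro x
      simp only [RingHom.id_apply] at ha hb ⊢
      rw [add_smul, add_smul, ← ha, ← hb]
      exact f.map_add _ _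

@[simp] lemma toLin_apply (f : V →ₗ[k] V') (hf : Hoch.IsComodHom C f) (x : AsMod k C V) :
    toLin f hf x = (f (x : V) : V') := rfl

/-- an `R`-linear map as a `k`-linear map. -/
noncomputable def ofLin (g : AsMod k C V →ₗ[R k C] AsMod k C V') : V →ₗ[k] V' where
  toFun := fun v => (g (v : AsMod k C V) : AsMod k C V')
  map_add' := g.map_add
  map_smul' := by
    intro c x
    have := g.map_smul (algebraMap k (R k C) c) x
    rw [algebraMap_smul', algebraMap_smul'] at this
    exact this

@[simp] lemma ofLin_apply (g : AsMod k C V →ₗ[R k C] AsMod k C V') (v : V) :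
    ofLin g v = (g (v : AsMod k C V) : AsMod k C V') := rfl

theorem isComodHom_ofLin (g : AsMod k C V →ₗ[R k C] AsMod k C V') :
    Hoch.IsComodHom C (ofLin g) := by
  rw [isComodHom_iff]
  intro φ v
  have := g.map_smul (FreeAlgebra.ι k φ : R k C) v
  rw [ι_smul, ι_smul] at this
  exact this

@[simp] lemma ofLin_toLin (f : V →ₗ[k] V') (hf : Hoch.IsComodHom C f) : ofLin (toLin f hf) = f := by
  ext; rfl

@[simp] lemma toLin_ofLin (g : AsMod k C V →ₗ[R k C] AsMod k C V') :
    toLin (ofLin g) (isComodHom_ofLin g) = g := by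
  ext; rfl

lemma ofSub_range (g : AsMod k C V →ₗ[R k C] AsMod k C V') :
    ofSub (LinearMap.range g) = LinearMap.range (ofLin g) := by
  ext x; rfl

lemma ofSub_ker (g : AsMod k C V →ₗ[R k C] AsMod k C V') :
    ofSub (LinearMap.ker g) = LinearMap.ker (ofLin g) := by
  ext x; rfl

/-- a linear equivalence commuting with the coactions, as an `R`-linear equivalence. -/
noncomputable def toEquiv (e : V ≃ₗ[k] V') (he : Hoch.IsComodHom C (e : V →ₗ[k] V')) :
    AsMod k C V ≃ₗ[R k C] AsMod k C V' :=
  LinearEquiv.ofBijective (toLin (e : V →ₗ[k] V') he) e.bijective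

/-- an `R`-linear equivalence as a `k`-linear equivalence. -/
noncomputable def ofEquiv (e : AsMod k C V ≃ₗ[R k C] AsMod k C V') : V ≃ₗ[k] V' :=
  LinearEquiv.ofBijective (ofLin (e : AsMod k C V →ₗ[R k C] AsMod k C V')) e.bijective

theorem isComodHom_ofEquiv (e : AsMod k C V ≃ₗ[R k C] AsMod k C V') :
    Hoch.IsComodHom C ((ofEquiv e : V ≃ₗ[k] V') : V →ₗ[k] V') :=
  isComodHom_ofLin _

variable (k C V)

theorem isSimpleModule_asMod_iff :
    IsSimpleModule (R k C) (AsMod k C V) ↔ HopfRep.IsSimpleComod k C V := by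
  constructor
  · intro h
    refine ⟨?_, fun W hW => ?_⟩
    · exact IsSimpleModule.nontrivial (R k C) (AsMod k C V)
    · rcases eq_bot_or_eq_top (toSub W hW) with h1 | h1
      · left
        rw [← ofSub_toSub W hW, h1, ofSub_bot]
      · right
        rw [← ofSub_toSub W hW, h1, ofSub_top]
  · rintro ⟨hnt, h⟩
    have : Nontrivial (AsMod k C V) := hnt
    refine { toIsSimpleOrder := { eq_bot_or_eq_top := fun N => ?_ } }
    rcases h (ofSub N) (isSubcomod_ofSub N) with h1 | h1
    · left; exact (ofSub_eq_bot_iff N).1 h1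
    · right; exact (ofSub_eq_top_iff N).1 h1

theorem isSemisimpleModule_asMod_iff :
    IsSemisimpleModule (R k C) (AsMod k C V) ↔ HopfRep.IsSemisimpleComod k C V := by
  constructor
  · intro h W hW
    obtain ⟨N', hN'⟩ := exists_isCompl (toSub W hW)
    refine ⟨ofSub N', isSubcomod_ofSub N', ?_⟩
    rw [isCompl_iff, disjoint_iff, codisjoint_iff] at hN' ⊢
    constructor
    · conv_lhs => rw [← ofSub_toSub W hW]
      rw [← ofSub_inf, hN'.1, ofSub_bot]
    · conv_lhs => rw [← ofSub_toSub W hW]
      rw [← ofSub_sup, hN'.2, ofSub_top]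
  · intro h
    refine { toComplementedLattice := ⟨fun N => ?_⟩ }
    obtain ⟨W', hW', hc⟩ := h (ofSub N) (isSubcomod_ofSub N)
    refine ⟨toSub W' hW', ?_⟩
    rw [isCompl_iff, disjoint_iff, codisjoint_iff] at hc ⊢
    constructor
    · apply ofSub_injective
      rw [ofSub_inf, ofSub_toSub, hc.1, ofSub_bot]
    · apply ofSub_injective
      rw [ofSub_sup, ofSub_toSub, hc.2, ofSub_top]

variable {k C V}

theorem isSimpleModule_toSub_iff (W : Submodule k V)
    (hW : HopfRep.IsSubcomod (k := k) (A := C) W) :
    IsSimpleModule (R k C) (toSub W hW) ↔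
      (W ≠ ⊥ ∧ ∀ W' : Submodule k V, HopfRep.IsSubcomod (k := k) (A := C) W' → W' ≤ W →
        W' = ⊥ ∨ W' = W) := by
  rw [isSimpleModule_iff_isAtom]
  constructor
  · intro hatom
    refine ⟨?_, ?_⟩
    · intro h
      apply hatom.1
      apply ofSub_injective
      rw [ofSub_toSub, h, ofSub_bot]
    · intro W' hW' hle
      have hle' : toSub W' hW' ≤ toSub W hW := by
        intro x hx
        exact hle hx
      rcases hatom.le_iff.1 hle' with h | h
      · left
        rw [← ofSub_toSub W' hW', h, ofSub_bot]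
      · right
        rw [← ofSub_toSub W' hW', h, ofSub_toSub]
  · rintro ⟨hne, hmin⟩
    refine ⟨?_, ?_⟩
    · intro h
      apply hne
      rw [← ofSub_toSub W hW, h, ofSub_bot]
    · intro b hb
      have hle : ofSub b ≤ W := by
        intro x hx
        exact hb.le hx
      rcases hmin (ofSub b) (isSubcomod_ofSub b) hle with h | h
      · exact (ofSub_eq_bot_iff b).1 h
      · exfalso
        apply hb.ne
        apply ofSub_injective
        rw [h, ofSub_toSub]

theorem iSupIndep_ofSub_iff {ι : Type*} (N : ι → Submodule (R k C) (AsMod k C V)) :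
    iSupIndep (fun i => ofSub (N i)) ↔ iSupIndep N := by
  rw [iSupIndep_def, iSupIndep_def]
  refine forall_congr' fun j => ?_
  rw [disjoint_iff, disjoint_iff]
  have h2 : (⨆ (j') (_ : j' ≠ j), ofSub (N j')) = ofSub (⨆ (j') (_ : j' ≠ j), N j') := by
    rw [ofSub_iSup]
    congr 1
    ext j'
    rw [ofSub_iSup]
  rw [h2, ← ofSub_inf, ofSub_eq_bot_iff]

end Module

end Groth.Agent.Lib.helper28.ComodMod
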