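import Groth.Agent.Lib.helper28.ComodMod
import Groth.Agent.Lib.helper28.TotInt
import Groth.Agent.Lib.helper12.Comod
import Groth.Agent.S12926
import Groth.Agent.S18812
import Groth.Prelude.Def_ComodSub
import Mathlib

/-!
Linear reductivity over a field in terms of total integrals (helper28).

`IsLinearlyReductive k A ↔ ∃ α : A → k` comodule map to the trivial comodule with `α 1 = 1`.
-/

set_option autoImplicit false
set_option linter.unusedSectionVars false
set_option linter.unusedVariables false
universe u v w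

open TensorProduct

namespace Groth.Agent.Lib.helper28.LinRed

open Groth.Agent.Lib.helper28.ComodMod

section
variable (k : Type u) [Field k] (A : Type v) [CommRing A] [HopfAlgebra k A]

/-- existence of a total integral `A → k`. -/
def HasTotInt : Prop :=
  ∃ α : A →ₗ[k] k,
    @Hoch.IsComodHom k _ A _ _ _ A _ _ _ k _ _ (HopfRep.Comod.trivial k A k) α ∧ α 1 = 1

variable {k A}

/-- if all finite-dimensional comodules are semisimple, then all comodules are. -/
theorem all_semisimple (hG : HopfRep.IsLinearlyReductive k A)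
    (V : Type v) [AddCommGroup V] [Module k V] [c : HopfRep.Comod k A V] :
    HopfRep.IsSemisimpleComod k A V := by
  classical
  rw [← isSemisimpleModule_asMod_iff k A V]
  have hex : ∀ v : V, ∃ W : Submodule k V, Module.Finite k W ∧ v ∈ W ∧
      HopfRep.IsSubcomod (k := k) (A := A) W :=
    fun v => Groth.Agent.H12Comod.exists_finite_subcomod (k := k) (C := A) v
  choose W hfin hmem hW using hex
  have hp : ∀ v : V, IsSemisimpleModule (R k A) (toSub (W v) (hW v)) := by
    intro v
    letI cW : HopfRep.Comod k A ↥(W v) := ComodSub.Comod.restr c (W v) (hW v)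
    have hss : HopfRep.IsSemisimpleComod k A ↥(W v) := @hG ↥(W v) _ _ cW (hfin v)
    rw [← isSemisimpleModule_asMod_iff k A ↥(W v)] at hss
    have hr : LinearMap.range (toLin (W v).subtype (ComodSub.isComodHom_subtype c (W v) (hW v))) =
        toSub (W v) (hW v) := by
      ext x
      constructor
      · rintro ⟨y, rfl⟩
        exact y.2
      · intro hx
        exact ⟨⟨x, hx⟩, rfl⟩
    rw [← hr]
    exact IsSemisimpleModule.range _
  refine isSemisimpleModule_of_isSemisimpleModule_submodule' hp ?_
  rw [eq_top_iff]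
  intro x _
  exact (le_iSup (fun v => toSub (W v) (hW v)) x) (hmem x)

theorem hasTotInt_of_isLinearlyReductive (hG : HopfRep.IsLinearlyReductive k A) :
    HasTotInt k A := by
  have hss := all_semisimple hG A
  have h1 : HopfRep.IsSubcomod (k := k) (A := A) (Submodule.span k {(1 : A)}) := by
    intro w hw
    obtain ⟨c, rfl⟩ := Submodule.mem_span_singleton.1 hw
    refine ⟨(⟨c • 1, hw⟩ : Submodule.span k {(1 : A)}) ⊗ₜ[k] (1 : A), ?_⟩
    have : HopfRep.Comod.coact (k := k) (A := A) (V := A) (c • (1 : A)) =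
        CoalgebraStruct.comul (R := k) (A := A) (c • (1 : A)) := rfl
    rw [this, map_smul, Bialgebra.comul_one, LinearMap.rTensor_tmul, Submodule.subtype_apply,
      Algebra.TensorProduct.one_def, TensorProduct.smul_tmul']
  obtain ⟨H, hH, hc⟩ := hss _ h1
  exact Groth.Agent.S12926.result k A H hH hc

theorem isLinearlyReductive_of_hasTotInt (h : HasTotInt k A) :
    HopfRep.IsLinearlyReductive k A := by
  obtain ⟨α, hα, h1⟩ := h
  intro V _ _ _ _
  exact Groth.Agent.S18812.result k A α hα h1 V

theorem isLinearlyReductive_iff_hasTotInt :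
    HopfRep.IsLinearlyReductive k A ↔ HasTotInt k A :=
  ⟨hasTotInt_of_isLinearlyReductive, isLinearlyReductive_of_hasTotInt⟩

end

section BaseChange

variable (k : Type u) (K : Type v) [Field k] [Field K] [Algebra k K]
  (A : Type w) [CommRing A] [HopfAlgebra k A]

/-- `a ↦ 1 ⊗ a`. -/
noncomputable def iota : A →ₗ[k] K ⊗[k] A := TensorProduct.mk k K A 1

@[simp] lemma iota_apply (a : A) : iota k K A a = (1 : K) ⊗ₜ[k] a := rfl

lemma comul_iota (a : A) :
    CoalgebraStruct.comul (R := K) (A := K ⊗[k] A) ((1 : K) ⊗ₜ[k] a) =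
      TensorProduct.AlgebraTensorModule.tensorTensorTensorComm k K k K K K A A
        (((1 : K) ⊗ₜ[K] (1 : K)) ⊗ₜ[k] CoalgebraStruct.comul (R := k) (A := A) a) := by
  rw [TensorProduct.comul_tmul]
  rfl

variable {k K A}

lemma tmulK_eq (c : K) (y : K ⊗[k] A) : c ⊗ₜ[K] y = (1 : K) ⊗ₜ[K] (c • y) := by
  rw [← TensorProduct.smul_tmul, smul_eq_mul, mul_one]

/-- base change of a total integral. -/
theorem hasTotInt_baseChange (h : HasTotInt k A) : HasTotInt K (K ⊗[k] A) := by
  obtain ⟨α, hα, h1⟩ := h
  set β : K ⊗[k] A →ₗ[K] K :=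
    (TensorProduct.AlgebraTensorModule.rid k K K).toLinearMap ∘ₗ (α.baseChange K) with hβ
  have hβ1 : ∀ a : A, β ((1 : K) ⊗ₜ[k] a) = algebraMap k K (α a) := by
    intro a
    simp [hβ, Algebra.algebraMap_eq_smul_one]
  have hα' : ∀ a : A, α.rTensor A (CoalgebraStruct.comul (R := k) (A := A) a) =
      α a ⊗ₜ[k] (1 : A) := by
    intro a
    have := LinearMap.congr_fun hα a
    simp only [LinearMap.comp_apply] at this
    exact this.symm
  have key : ∀ t : A ⊗[k] A,
      β.rTensor (K ⊗[k] A) (TensorProduct.AlgebraTensorModule.tensorTensorTensorComm k K k K K K A A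
        (((1 : K) ⊗ₜ[K] (1 : K)) ⊗ₜ[k] t)) =
      (1 : K) ⊗ₜ[K] iota k K A (TensorProduct.lid k A (α.rTensor A t)) := by
    intro t
    induction t using TensorProduct.induction_on with
    | zero => simp
    | tmul a₁ a₂ =>
      simp only [TensorProduct.AlgebraTensorModule.tensorTensorTensorComm_tmul,
        LinearMap.rTensor_tmul, hβ1, TensorProduct.lid_tmul, iota_apply, map_smul]
      rw [tmulK_eq, algebraMap_smul, ← TensorProduct.tmul_smul]
    | add x y hx hy => simp only [TensorProduct.tmul_add, map_add, hx, hy]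
  refine ⟨β, ?_, ?_⟩
  · show (TensorProduct.mk K K (K ⊗[k] A)).flip 1 ∘ₗ β =
      β.rTensor (K ⊗[k] A) ∘ₗ CoalgebraStruct.comul (R := K) (A := K ⊗[k] A)
    apply TensorProduct.AlgebraTensorModule.curry_injective
    ext a
    simp only [TensorProduct.AlgebraTensorModule.curry_apply, LinearMap.restrictScalars_comp,
      TensorProduct.curry_apply, LinearMap.coe_restrictScalars, LinearMap.comp_apply,
      LinearMap.flip_apply, TensorProduct.mk_apply]
    rw [comul_iota, key, hα', hβ1, TensorProduct.lid_tmul, iota_apply, tmulK_eq,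
      algebraMap_smul, Algebra.TensorProduct.one_def, ← TensorProduct.tmul_smul]
  · rw [Algebra.TensorProduct.one_def, hβ1, h1, map_one]

/-- descent of a total integral along a field extension. -/
theorem hasTotInt_of_baseChange (h : HasTotInt K (K ⊗[k] A)) : HasTotInt k A := by
  obtain ⟨β, hβ, h1⟩ := h
  obtain ⟨π, hπ⟩ := LinearMap.exists_leftInverse_of_injective (Algebra.linearMap k K)
    (LinearMap.ker_eq_bot.2 (FaithfulSMul.algebraMap_injective k K))
  have hπ1 : π 1 = 1 := by
    have := LinearMap.congr_fun hπ 1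
    simpa using this
  set α : A →ₗ[k] k := π ∘ₗ (β.restrictScalars k) ∘ₗ iota k K A with hα
  have hα_apply : ∀ a, α a = π (β ((1 : K) ⊗ₜ[k] a)) := fun a => rfl
  set Ξ : K ⊗[K] (K ⊗[k] A) →ₗ[k] k ⊗[k] A :=
    π.rTensor A ∘ₗ ((TensorProduct.lid K (K ⊗[k] A)).toLinearMap.restrictScalars k) with hΞ
  have hΞ_tmul : ∀ (c : K) (a : A), Ξ (c ⊗ₜ[K] ((1 : K) ⊗ₜ[k] a)) = π c ⊗ₜ[k] a := by
    intro c a
    simp [hΞ, TensorProduct.smul_tmul']
  have hβ' : ∀ x : K ⊗[k] A, β x ⊗ₜ[K] (1 : K ⊗[k] A) =
      β.rTensor (K ⊗[k] A) (CoalgebraStruct.comul (R := K) (A := K ⊗[k] A) x) := by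
    intro x
    have := LinearMap.congr_fun hβ x
    simp only [LinearMap.comp_apply] at this
    exact this
  have key : ∀ t : A ⊗[k] A,
      Ξ (β.rTensor (K ⊗[k] A) (TensorProduct.AlgebraTensorModule.tensorTensorTensorComm k K k K K K A A
        (((1 : K) ⊗ₜ[K] (1 : K)) ⊗ₜ[k] t))) = α.rTensor A t := by
    intro t
    induction t using TensorProduct.induction_on with
    | zero => simp
    | tmul a₁ a₂ =>
      simp only [TensorProduct.AlgebraTensorModule.tensorTensorTensorComm_tmul,
        LinearMap.rTensor_tmul, hΞ_tmul, hα_apply]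
    | add x y hx hy => simp only [TensorProduct.tmul_add, map_add, hx, hy]
  refine ⟨α, ?_, ?_⟩
  · show (TensorProduct.mk k k A).flip 1 ∘ₗ α =
      α.rTensor A ∘ₗ CoalgebraStruct.comul (R := k) (A := A)
    ext a
    simp only [LinearMap.comp_apply, LinearMap.flip_apply, TensorProduct.mk_apply]
    have h2 := congrArg Ξ (hβ' ((1 : K) ⊗ₜ[k] a))
    rw [comul_iota, key, Algebra.TensorProduct.one_def, hΞ_tmul] at h2
    rw [← h2, hα_apply]
  · rw [hα_apply, ← Algebra.TensorProduct.one_def, h1, hπ1]

/-- linear reductivity is insensitive to extension of the base field. -/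
theorem isLinearlyReductive_baseChange_iff (k K A : Type u) [Field k] [Field K] [Algebra k K]
    [CommRing A] [HopfAlgebra k A] :
    HopfRep.IsLinearlyReductive k A ↔ HopfRep.IsLinearlyReductive K (K ⊗[k] A) := by
  rw [isLinearlyReductive_iff_hasTotInt, isLinearlyReductive_iff_hasTotInt]
  exact ⟨hasTotInt_baseChange, hasTotInt_of_baseChange⟩

end BaseChange

section Transport

variable {k : Type u} [Field k] {A : Type v} [CommRing A] [HopfAlgebra k A]
  {A' : Type w} [CommRing A'] [HopfAlgebra k A']

/-- total integrals transport along bialgebra isomorphisms. -/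
theorem hasTotInt_of_bialgEquiv (e : A ≃ₐc[k] A') (h : HasTotInt k A') : HasTotInt k A := by
  obtain ⟨γ, hγ, h1⟩ := h
  set el : A →ₗ[k] A' := ((e : A →ₗc[k] A') : A →ₗ[k] A') with hel
  set er : A' →ₗ[k] A := ((e.symm : A' →ₗc[k] A) : A' →ₗ[k] A) with her
  have hel_apply : ∀ a, el a = e a := fun a => rfl
  have her_apply : ∀ a, er a = e.symm a := fun a => rfl
  have hγ' : ∀ a' : A', γ.rTensor A' (CoalgebraStruct.comul (R := k) (A := A') a') =
      γ a' ⊗ₜ[k] (1 : A') := by
    intro a'
    have := LinearMap.congr_fun hγ a'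
    simp only [LinearMap.comp_apply] at this
    exact this.symm
  have hcomul : ∀ a : A, TensorProduct.map el el (CoalgebraStruct.comul (R := k) (A := A) a) =
      CoalgebraStruct.comul (R := k) (A := A') (el a) :=
    fun a => CoalgHomClass.map_comp_comul_apply (e : A →ₗc[k] A') a
  have hfact : (γ ∘ₗ el).rTensor A = er.lTensor k ∘ₗ γ.rTensor A' ∘ₗ TensorProduct.map el el := by
    ext x y
    simp [hel_apply, her_apply]
  refine ⟨γ ∘ₗ el, ?_, ?_⟩
  · show (TensorProduct.mk k k A).flip 1 ∘ₗ (γ ∘ₗ el) =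
      (γ ∘ₗ el).rTensor A ∘ₗ CoalgebraStruct.comul (R := k) (A := A)
    ext a
    simp only [LinearMap.comp_apply, LinearMap.flip_apply, TensorProduct.mk_apply]
    rw [hfact, LinearMap.comp_apply, LinearMap.comp_apply, hcomul, hγ', LinearMap.lTensor_tmul,
      her_apply, map_one]
  · rw [LinearMap.comp_apply, hel_apply, map_one, h1]

end Transport

section MonoidAlgebra

variable (K : Type u) [Field K] (G : Type v) [CommGroup G]

/-- the group algebra of a commutative group has a total integral: the coefficient of `1`. -/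
theorem hasTotInt_monoidAlgebra : HasTotInt K (MonoidAlgebra K G) := by
  classical
  set γ : MonoidAlgebra K G →ₗ[K] K :=
    (Finsupp.lapply (1 : G)) ∘ₗ (MonoidAlgebra.coeffLinearEquiv K).toLinearMap with hγ
  have hγs : ∀ (g : G) (c : K), γ (MonoidAlgebra.single g c) = if g = 1 then c else 0 := by
    intro g c
    simp [hγ, MonoidAlgebra.coeffLinearEquiv, Finsupp.single_apply]
  refine ⟨γ, ?_, ?_⟩
  · show (TensorProduct.mk K K (MonoidAlgebra K G)).flip 1 ∘ₗ γ =
      γ.rTensor (MonoidAlgebra K G) ∘ₗ CoalgebraStruct.comul (R := K) (A := MonoidAlgebra K G)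
    ext g
    simp only [LinearMap.comp_apply, MonoidAlgebra.lsingle_apply, LinearMap.flip_apply,
      TensorProduct.mk_apply, MonoidAlgebra.comul_single, CommSemiring.comul_apply,
      TensorProduct.map_tmul, LinearMap.rTensor_tmul, hγs]
    by_cases hg : g = 1
    · subst hg
      simp [MonoidAlgebra.one_def]
    · simp [hg]
  · rw [MonoidAlgebra.one_def, hγs, if_pos rfl]

end MonoidAlgebra

end Groth.Agent.Lib.helper28.LinRed
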