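import Mathlib

/-!
# Finite generation and projectivity from quotients, over complete rings

* `finite_of_quotient_finite`: `W` `J`-adically precomplete, `P` `J`-adically separated,
  `P/JP` finite ⇒ `P` finite.
* `projective_of_quotients`: `W` complete and separated for a decreasing sequence of ideals `I n`,
  `P` finite and separated for `I n • ⊤`, all `P/I_n P` projective over `W/I_n` ⇒ `P` projective.
-/

namespace Groth.Agent.Lib.helper28.ProjLim

open Submodule

section Finite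

variable {W : Type*} [CommRing W] (J : Ideal W)
variable {P : Type*} [AddCommGroup P] [Module W P]

theorem pow_smul_top_le {k : ℕ} (x : Fin k → P)
    (hN : span W (Set.range x) ⊔ (J • ⊤ : Submodule W P) = ⊤) (j : ℕ) :
    (J ^ j • ⊤ : Submodule W P) ≤ J ^ j • span W (Set.range x) ⊔ J ^ (j + 1) • ⊤ := by
  conv_lhs => rw [← hN]
  rw [Submodule.smul_sup, ← Submodule.mul_smul, ← pow_succ]

theorem exists_step {k : ℕ} (x : Fin k → P)
    (hN : span W (Set.range x) ⊔ (J • ⊤ : Submodule W P) = ⊤) (j : ℕ) (r : P)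
    (hr : r ∈ (J ^ j • ⊤ : Submodule W P)) :
    ∃ b : Fin k → W, (∀ i, b i ∈ J ^ j) ∧ r - ∑ i, b i • x i ∈ (J ^ (j + 1) • ⊤ : Submodule W P) := by
  have := pow_smul_top_le J x hN j hr
  obtain ⟨n', hn', r', hr', rfl⟩ := Submodule.mem_sup.1 this
  obtain ⟨a, ha, rfl⟩ := (Submodule.mem_ideal_smul_span_iff_exists_sum _ x n').1 hn'
  refine ⟨fun i => a i, ha, ?_⟩
  have : (a.sum fun i c => c • x i) = ∑ i, a i • x i := by
    rw [Finsupp.sum_fintype]; simp
  rw [this, add_sub_cancel_left]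
  exact hr'

theorem finite_of_quotient_finite [IsPrecomplete J W]
    (sep : ∀ y : P, (∀ j, y ∈ (J ^ j • ⊤ : Submodule W P)) → y = 0)
    [hfin : Module.Finite W (P ⧸ (J • ⊤ : Submodule W P))] : Module.Finite W P := by
  obtain ⟨k, s, hs⟩ := Module.Finite.exists_fin (R := W) (M := P ⧸ (J • ⊤ : Submodule W P))
  have hsurj := Submodule.mkQ_surjective (J • ⊤ : Submodule W P)
  choose x hx using fun i => hsurj (s i)
  have hN : span W (Set.range x) ⊔ (J • ⊤ : Submodule W P) = ⊤ := by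
    rw [sup_comm, ← Submodule.map_mkQ_eq_top, Submodule.map_span, ← Set.range_comp]
    have : (⇑(J • ⊤ : Submodule W P).mkQ ∘ x) = s := funext hx
    rw [this, hs]
  suffices htop : span W (Set.range x) = ⊤ from
    ⟨htop ▸ Submodule.fg_span (Set.finite_range x)⟩
  rw [eq_top_iff]
  intro y _
  choose b hb1 hb2 using exists_step J x hN
  -- recursive construction
  let g : (j : ℕ) → {a : Fin k → W // y - ∑ i, a i • x i ∈ (J ^ j • ⊤ : Submodule W P)} :=
    fun j => Nat.rec ⟨0, by simp⟩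
      (fun j a => ⟨a.1 + b j _ a.2, by
        have := hb2 j _ a.2
        have e : y - ∑ i, (a.1 + b j _ a.2) i • x i =
            (y - ∑ i, a.1 i • x i) - ∑ i, b j _ a.2 i • x i := by
          simp only [Pi.add_apply, add_smul, Finset.sum_add_distrib]; abel
        rw [e]; exact this⟩) j
  have hg : ∀ j i, (g (j+1)).1 i - (g j).1 i ∈ J ^ j := by
    intro j i
    have : (g (j+1)).1 = (g j).1 + b j _ (g j).2 := rfl
    rw [this, Pi.add_apply, add_sub_cancel_left]
    exact hb1 j _ _ i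
  have hlim : ∀ i, ∃ A : W, ∀ j, (g j).1 i ≡ A [SMOD (J ^ j • ⊤ : Submodule W W)] := by
    intro i
    have hc : AdicCompletion.IsAdicCauchy J W (fun j => (g j).1 i) := by
      rw [AdicCompletion.isAdicCauchy_iff]
      intro j
      refine SModEq.symm ?_
      rw [SModEq.sub_mem, smul_eq_mul, Ideal.mul_top]
      exact hg j i
    exact IsPrecomplete.prec (I := J) inferInstance (fun {m n} hmn => hc hmn)
  choose A hA using hlim
  have : y - ∑ i, A i • x i = 0 := by
    apply sep
    intro j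
    have e : y - ∑ i, A i • x i = (y - ∑ i, (g j).1 i • x i) + ∑ i, ((g j).1 i - A i) • x i := by
      simp only [sub_smul, Finset.sum_sub_distrib]; abel
    rw [e]
    refine Submodule.add_mem _ (g j).2 (Submodule.sum_mem _ fun i _ => ?_)
    have := hA i j
    rw [SModEq.sub_mem, smul_eq_mul, Ideal.mul_top] at this
    exact Submodule.smul_mem_smul this mem_top
  rw [sub_eq_zero] at this
  rw [this]
  exact Submodule.sum_mem _ fun i _ => Submodule.smul_mem _ _ (subset_span ⟨i, rfl⟩)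

end Finite

section Proj

variable {W : Type*} [CommRing W]
variable {P : Type*} [AddCommGroup P] [Module W P]

theorem apply_mem_smul_top {M N : Type*} [AddCommGroup M] [Module W M] [AddCommGroup N] [Module W N]
    (I : Ideal W) (f : M →ₗ[W] N) {x : M} (hx : x ∈ (I • ⊤ : Submodule W M)) :
    f x ∈ (I • ⊤ : Submodule W N) := by
  have : f x ∈ (I • ⊤ : Submodule W M).map f := ⟨x, hx, rfl⟩
  rw [Submodule.map_smul''] at this
  exact Submodule.smul_mono le_rfl le_top this

theorem mem_smul_top_pi {k : ℕ} (I : Ideal W) (x : Fin k → W) :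
    x ∈ (I • ⊤ : Submodule W (Fin k → W)) ↔ ∀ i, x i ∈ I := by
  constructor
  · intro hx i
    have := apply_mem_smul_top I (LinearMap.proj (R := W) (φ := fun _ : Fin k => W) i) hx
    rwa [smul_eq_mul, Ideal.mul_top] at this
  · intro h
    rw [pi_eq_sum_univ x]
    refine Submodule.sum_mem _ fun i _ => Submodule.smul_mem_smul (h i) mem_top

variable {k : ℕ}

/-- `σ` represents a section of `φ` modulo `I`. -/
def Good (I : Ideal W) (φ : (Fin k → W) →ₗ[W] P) (σ : (Fin k → W) →ₗ[W] (Fin k → W)) : Prop :=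
  (∀ x, φ (σ x) - φ x ∈ (I • ⊤ : Submodule W P)) ∧
  (∀ x, φ x ∈ (I • ⊤ : Submodule W P) → σ x ∈ (I • ⊤ : Submodule W (Fin k → W)))

theorem exists_good (I : Ideal W) (φ : (Fin k → W) →ₗ[W] P) (hφ : Function.Surjective φ)
    [Module.Projective (W ⧸ I) (P ⧸ (I • ⊤ : Submodule W P))] : ∃ τ, Good I φ τ := by
  have hle : (I • ⊤ : Submodule W (Fin k → W)) ≤ (I • ⊤ : Submodule W P).comap φ :=
    fun x hx => apply_mem_smul_top I φ hx
  let φ' : ((Fin k → W) ⧸ (I • ⊤ : Submodule W (Fin k → W))) →ₗ[W] (P ⧸ (I • ⊤ : Submodule W P)) :=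
    Submodule.mapQ _ _ φ hle
  have hmk : Function.Surjective (algebraMap W (W ⧸ I)) := Ideal.Quotient.mk_surjective
  let φ'' := φ'.extendScalarsOfSurjective hmk
  have hφ'' : Function.Surjective φ'' := by
    intro y
    obtain ⟨y, rfl⟩ := Submodule.mkQ_surjective _ y
    obtain ⟨x, rfl⟩ := hφ y
    exact ⟨Submodule.Quotient.mk x, rfl⟩
  obtain ⟨t, ht⟩ := Module.projective_lifting_property φ'' LinearMap.id hφ''
  let θ : ((Fin k → W) ⧸ (I • ⊤ : Submodule W (Fin k → W))) →ₗ[W]
      ((Fin k → W) ⧸ (I • ⊤ : Submodule W (Fin k → W))) := (t ∘ₗ φ'').restrictScalars W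
  obtain ⟨τ, hτ⟩ := Module.projective_lifting_property
    (Submodule.mkQ (I • ⊤ : Submodule W (Fin k → W))) (θ ∘ₗ Submodule.mkQ _)
    (Submodule.mkQ_surjective _)
  have hτ' : ∀ x, (Submodule.Quotient.mk (τ x) : (Fin k → W) ⧸ (I • ⊤ : Submodule W (Fin k → W))) =
      t (φ'' (Submodule.Quotient.mk x)) := fun x => LinearMap.congr_fun hτ x
  have ht' : ∀ y, φ'' (t y) = y := fun y => LinearMap.congr_fun ht y
  have hφmk : ∀ x, φ'' (Submodule.Quotient.mk x) = Submodule.Quotient.mk (φ x) := fun x => rfl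
  refine ⟨τ, fun x => ?_, fun x hx => ?_⟩
  · rw [← Submodule.Quotient.eq, ← hφmk, hτ', ht', hφmk]
  · rw [← Submodule.Quotient.mk_eq_zero, hτ', hφmk, (Submodule.Quotient.mk_eq_zero _).2 hx,
      map_zero]

theorem Good.mono {I I' : Ideal W} (hI : I' ≤ I) {φ : (Fin k → W) →ₗ[W] P}
    (hφ : Function.Surjective φ) {τ : (Fin k → W) →ₗ[W] (Fin k → W)}
    (h : Good I' φ τ) : Good I φ τ := by
  refine ⟨fun x => Submodule.smul_mono_left hI (h.1 x), fun x hx => ?_⟩
  have : (I • ⊤ : Submodule W P) = (I • ⊤ : Submodule W (Fin k → W)).map φ := by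
    rw [Submodule.map_smul'', Submodule.map_top, LinearMap.range_eq_top.2 hφ]
  rw [this] at hx
  obtain ⟨z, hz, hzx⟩ := hx
  have h1 : τ (x - z) ∈ (I • ⊤ : Submodule W (Fin k → W)) := by
    apply Submodule.smul_mono_left hI
    apply h.2
    rw [map_sub, hzx, sub_self]
    exact Submodule.zero_mem _
  have h2 := apply_mem_smul_top I τ hz
  have e : τ x = τ (x - z) + τ z := by rw [← map_add, sub_add_cancel]
  rw [e]; exact Submodule.add_mem _ h1 h2

/-- the corrected lift -/
def comb (σ τ : (Fin k → W) →ₗ[W] (Fin k → W)) : (Fin k → W) →ₗ[W] (Fin k → W) :=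
  τ + (LinearMap.id - τ) ∘ₗ σ ∘ₗ τ

theorem comb_apply (σ τ : (Fin k → W) →ₗ[W] (Fin k → W)) (x : Fin k → W) :
    comb σ τ x = τ x + (σ (τ x) - τ (σ (τ x))) := rfl

theorem Good.combine {I I' : Ideal W} (hI : I' ≤ I) {φ : (Fin k → W) →ₗ[W] P}
    (hφ : Function.Surjective φ) {σ τ : (Fin k → W) →ₗ[W] (Fin k → W)}
    (hσ : Good I φ σ) (hτ : Good I' φ τ) :
    Good I' φ (comb σ τ) ∧
      ∀ x, comb σ τ x - σ x ∈ (I • ⊤ : Submodule W (Fin k → W)) := by
  have hτI := hτ.mono hI hφ
  refine ⟨⟨fun x => ?_, fun x hx => ?_⟩, fun x => ?_⟩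
  · have e : φ (comb σ τ x) - φ x =
        (φ (τ x) - φ x) - (φ (τ (σ (τ x))) - φ (σ (τ x))) := by
      rw [comb_apply]
      simp only [map_add, map_sub]
      abel
    rw [e]
    exact Submodule.sub_mem _ (hτ.1 x) (hτ.1 _)
  · have h1 := hτ.2 x hx
    have e : comb σ τ x = τ x + ((LinearMap.id - τ) ∘ₗ σ) (τ x) := rfl
    rw [e]
    exact Submodule.add_mem _ h1 (apply_mem_smul_top I' _ h1)
  · -- modulo I: σ τ x ≡ σ x, τ σ τ x ≡ τ τ x ≡ τ x
    have a1 : σ (τ x - x) ∈ (I • ⊤ : Submodule W (Fin k → W)) := by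
      apply hσ.2; rw [map_sub]; exact hτI.1 x
    have a2 : τ (σ (τ x) - τ x) ∈ (I • ⊤ : Submodule W (Fin k → W)) := by
      apply hτI.2; rw [map_sub]; exact hσ.1 _
    have a3 : τ (τ x - x) ∈ (I • ⊤ : Submodule W (Fin k → W)) := by
      apply hτI.2; rw [map_sub]; exact hτI.1 x
    have e : comb σ τ x - σ x =
        σ (τ x - x) - τ (σ (τ x) - τ x) - τ (τ x - x) := by
      rw [comb_apply]
      simp only [map_sub]
      abel
    rw [e]
    exact Submodule.sub_mem _ (Submodule.sub_mem _ a1 a2) a3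

theorem projective_of_quotients (I : ℕ → Ideal W) (anti : ∀ n, I (n + 1) ≤ I n)
    (hc : ∀ c : ℕ → W, (∀ n, c (n + 1) - c n ∈ I n) → ∃ L, ∀ n, L - c n ∈ I n)
    (hsepW : ∀ w : W, (∀ n, w ∈ I n) → w = 0)
    [Module.Finite W P]
    (hsepP : ∀ y : P, (∀ n, y ∈ (I n • ⊤ : Submodule W P)) → y = 0)
    (hproj : ∀ n, Module.Projective (W ⧸ I n) (P ⧸ (I n • ⊤ : Submodule W P))) :
    Module.Projective W P := by
  obtain ⟨k, φ, hφ⟩ := Module.Finite.exists_fin' W P
  have hex : ∀ n, ∃ τ, Good (I n) φ τ := fun n => exists_good (I n) φ hφ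
  choose τ hτ using hex
  let σ : ℕ → ((Fin k → W) →ₗ[W] (Fin k → W)) := fun n => Nat.rec (τ 0) (fun n s => comb s (τ (n + 1))) n
  have hσsucc : ∀ n, σ (n + 1) = comb (σ n) (τ (n + 1)) := fun n => rfl
  have hσ : ∀ n, Good (I n) φ (σ n) := by
    intro n
    induction n with
    | zero => exact hτ 0
    | succ n ih => rw [hσsucc]; exact (Good.combine (anti n) hφ ih (hτ (n + 1))).1
  have hdiff : ∀ n x, σ (n + 1) x - σ n x ∈ (I n • ⊤ : Submodule W (Fin k → W)) := by
    intro n x
    rw [hσsucc]; exact (Good.combine (anti n) hφ (hσ n) (hτ (n + 1))).2 x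
  -- limits of the matrix entries
  have hlim : ∀ j i : Fin k, ∃ L : W, ∀ n, L - σ n (Pi.single j 1) i ∈ I n := by
    intro j i
    apply hc
    intro n
    have := (mem_smul_top_pi (I n) _).1 (hdiff n (Pi.single j 1)) i
    simpa using this
  choose L hL using hlim
  let σ' : (Fin k → W) →ₗ[W] (Fin k → W) := (Pi.basisFun W (Fin k)).constr W (fun j => L j)
  have hσ'e : ∀ j, σ' (Pi.single j 1) = L j := by
    intro j
    have := (Pi.basisFun W (Fin k)).constr_basis W (fun j => L j) j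
    rwa [Pi.basisFun_apply] at this
  have hσ' : ∀ n x, σ' x - σ n x ∈ (I n • ⊤ : Submodule W (Fin k → W)) := by
    intro n x
    have e : σ' x - σ n x = ∑ j, x j • ((σ' - σ n) (Pi.single j 1)) := by
      rw [← LinearMap.sub_apply, LinearMap.pi_apply_eq_sum_univ (σ' - σ n) x]
      refine Finset.sum_congr rfl fun j _ => ?_
      congr 2
      ext i
      simp [Pi.single_apply, eq_comm]
    rw [e]
    refine Submodule.sum_mem _ fun j _ => Submodule.smul_mem _ _ ?_
    rw [mem_smul_top_pi]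
    intro i
    rw [LinearMap.sub_apply, hσ'e, Pi.sub_apply]
    exact hL j i n
  have h1 : ∀ x, φ (σ' x) = φ x := by
    intro x
    rw [← sub_eq_zero]
    apply hsepP
    intro n
    have e : φ (σ' x) - φ x = φ (σ' x - σ n x) + (φ (σ n x) - φ x) := by
      rw [map_sub]; abel
    rw [e]
    exact Submodule.add_mem _ (apply_mem_smul_top (I n) φ (hσ' n x)) ((hσ n).1 x)
  have h2 : ∀ x, φ x = 0 → σ' x = 0 := by
    intro x hx
    ext i
    apply hsepW
    intro n
    have a := hσ' n x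
    have b := (hσ n).2 x (by rw [hx]; exact Submodule.zero_mem _)
    have := (mem_smul_top_pi (I n) _).1 (Submodule.add_mem _ a b) i
    simpa using this
  have hker : LinearMap.ker φ ≤ LinearMap.ker σ' := fun x hx => h2 x hx
  let s : P →ₗ[W] (Fin k → W) :=
    (Submodule.liftQ (LinearMap.ker φ) σ' hker) ∘ₗ (φ.quotKerEquivOfSurjective hφ).symm.toLinearMap
  have hs : ∀ x, s (φ x) = σ' x := by
    intro x
    have : (φ.quotKerEquivOfSurjective hφ).symm (φ x) = Submodule.Quotient.mk x := by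
      rw [LinearEquiv.symm_apply_eq]; rfl
    simp only [s, LinearMap.comp_apply, LinearEquiv.coe_coe, this, Submodule.liftQ_apply]
  refine Module.Projective.of_split s φ ?_
  ext y
  obtain ⟨x, rfl⟩ := hφ y
  simp only [LinearMap.comp_apply, LinearMap.id_apply, hs, h1]

end Proj

end Groth.Agent.Lib.helper28.ProjLim
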