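import Mathlib

/-!
Endomorphisms of a flat deformation over an Artinian local ring are scalars (helper28).
-/

namespace Groth.Agent.Lib.helper28.DefEnd

open scoped BigOperators

/-- Flatness via the equational criterion: if `t • w ∈ I • F`, then `w` is a combination of
elements with coefficients `a` such that `t * a ∈ I`. -/
lemma exists_sum_of_smul_mem {R F : Type*} [CommRing R] [AddCommGroup F] [Module R F]
    [Module.Flat R F] (I : Ideal R) (t : R) (w : F)
    (h : t • w ∈ I • (⊤ : Submodule R F)) :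
    ∃ (k : ℕ) (a : Fin k → R) (y : Fin k → F), w = ∑ l, a l • y l ∧ ∀ l, t * a l ∈ I := by
  classical
  have h' : t • w ∈ I • Submodule.span R (Set.range (id : F → F)) := by
    simpa using h
  obtain ⟨c, hcI, hc⟩ := (Submodule.mem_ideal_smul_span_iff_exists_sum I (id : F → F) _).mp h'
  -- relation indexed by Option c.support
  let f : Option c.support → R := fun o => o.elim t (fun i => - c i)
  let x : Option c.support → F := fun o => o.elim w (fun i => (i : F))
  have hrel : ∑ o, f o • x o = 0 := by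
    rw [Fintype.sum_option]
    simp only [f, x, Option.elim_none, Option.elim_some, neg_smul, Finset.sum_neg_distrib]
    rw [← hc, Finsupp.sum, ← Finset.sum_coe_sort c.support]
    simp
  obtain ⟨k, A, y, hx, hA⟩ := Module.Flat.isTrivialRelation_of_sum_smul_eq_zero hrel
  refine ⟨k, A none, y, hx none, fun l => ?_⟩
  have := hA l
  rw [Fintype.sum_option] at this
  simp only [f, Option.elim_none, Option.elim_some, neg_mul, Finset.sum_neg_distrib] at this
  rw [add_neg_eq_zero] at this
  rw [this]
  exact Ideal.sum_mem _ fun i _ => I.mul_mem_right _ (hcI i)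

/-- In a local ring: if `t ∉ I` and `t • w ∈ I • F` with `F` flat, then `w ∈ m • F`. -/
lemma mem_maximalIdeal_smul_of_smul_mem {R F : Type*} [CommRing R] [IsLocalRing R]
    [AddCommGroup F] [Module R F] [Module.Flat R F] (I : Ideal R) (t : R) (ht : t ∉ I) (w : F)
    (h : t • w ∈ I • (⊤ : Submodule R F)) :
    w ∈ IsLocalRing.maximalIdeal R • (⊤ : Submodule R F) := by
  obtain ⟨k, a, y, rfl, ha⟩ := exists_sum_of_smul_mem I t w h
  refine Submodule.sum_mem _ fun l _ => Submodule.smul_mem_smul ?_ trivial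
  rw [IsLocalRing.mem_maximalIdeal, mem_nonunits_iff]
  intro hu
  apply ht
  have := I.mul_mem_right (↑hu.unit⁻¹ : R) (ha l)
  rwa [mul_assoc, IsUnit.mul_val_inv, mul_one] at this

section main

variable {K : Type*} [Field K] {D : Type*} [Ring D] [Algebra K D]
variable {E : Type*} [AddCommGroup E] [Module K E] [Module D E] [IsScalarTower K D E]
variable {R : Type*} [CommRing R] [Algebra K R] [IsLocalRing R]
variable {F : Type*} [AddCommGroup F] [Module K F] [Module R F] [Module D F]
  [IsScalarTower K R F] [IsScalarTower K D F] [SMulCommClass R D F] [Module.Flat R F]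

omit [IsLocalRing R] [Module K F] [IsScalarTower K R F] [IsScalarTower K D F] [Module.Flat R F] in
/-- `I • F` is stable under `D`. -/
lemma dsmul_mem (I : Ideal R) (d : D) (z : F) (hz : z ∈ I • (⊤ : Submodule R F)) :
    d • z ∈ I • (⊤ : Submodule R F) := by
  refine Submodule.smul_induction_on hz ?_ ?_
  · intro a ha f _
    rw [← smul_comm a d f]
    exact Submodule.smul_mem_smul ha trivial
  · intro x y hx hy
    rw [smul_add]; exact Submodule.add_mem _ hx hy

/-- One step: improving the approximation of `φ` by a scalar along `I' ⋖ I`. -/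
lemma step (hE : ∀ ψ : E →ₗ[D] E, ∃ c : K, ∀ y : E, ψ y = c • y)
    (res : R →ₐ[K] K)
    (θ : F →ₗ[D] E) (hθ : ∀ (r : R) (x : F), θ (r • x) = res r • θ x)
    (hsurj : Function.Surjective θ)
    (hker : ∀ x : F, θ x = 0 ↔ x ∈ IsLocalRing.maximalIdeal R • (⊤ : Submodule R F))
    (ψ : F →ₗ[R] F) (hψ : ∀ (d : D) (x : F), ψ (d • x) = d • ψ x)
    (I I' : Ideal R) (t : R) (htI : t ∈ I) (htI' : t ∉ I') (hsup : I = I' ⊔ Ideal.span {t})
    (hmI : IsLocalRing.maximalIdeal R * I ≤ I')
    (hψI : ∀ x, ψ x ∈ I • (⊤ : Submodule R F)) :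
    ∃ c : K, ∀ x, ψ x - (algebraMap K R c * t) • x ∈ I' • (⊤ : Submodule R F) := by
  classical
  set m := IsLocalRing.maximalIdeal R with hm
  -- (1) decomposition
  have hdec : ∀ x, ∃ w z, z ∈ I' • (⊤ : Submodule R F) ∧ ψ x = t • w + z := by
    intro x
    have h1 := hψI x
    rw [hsup, Submodule.sup_smul, Submodule.mem_sup] at h1
    obtain ⟨z, hz, y, hy, hzy⟩ := h1
    rw [Submodule.ideal_span_singleton_smul] at hy
    obtain ⟨w, -, rfl⟩ := (Submodule.mem_smul_pointwise_iff_exists _ _ _).mp hy
    exact ⟨w, z, hz, by rw [← hzy, add_comm]⟩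
  -- (3) ψ (mF) ⊆ I'F
  have hψm : ∀ x, x ∈ m • (⊤ : Submodule R F) → ψ x ∈ I' • (⊤ : Submodule R F) := by
    intro x hx
    refine Submodule.smul_induction_on hx ?_ ?_
    · intro a ha f _
      rw [map_smul]
      have h1 : a • ψ f ∈ m • (I • (⊤ : Submodule R F)) := Submodule.smul_mem_smul ha (hψI f)
      rw [← Submodule.mul_smul] at h1
      exact Submodule.smul_mono_left hmI h1
    · intro x y hx hy
      rw [map_add]; exact Submodule.add_mem _ hx hy
  -- (4) key
  have hkey : ∀ w : F, t • w ∈ I' • (⊤ : Submodule R F) → θ w = 0 := by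
    intro w hw
    rw [hker]
    exact mem_maximalIdeal_smul_of_smul_mem I' t htI' w hw
  -- (5) the induced endomorphism of E
  choose W Z hZ hWZ using hdec
  choose sec hsec using hsurj
  have hP : ∀ x w z, z ∈ I' • (⊤ : Submodule R F) → ψ x = t • w + z →
      θ (W (sec (θ x))) = θ w := by
    intro x w z hz hx
    have h0 : θ (sec (θ x) - x) = 0 := by rw [map_sub, hsec, sub_self]
    have h1 : ψ (sec (θ x) - x) ∈ I' • (⊤ : Submodule R F) := hψm _ ((hker _).mp h0)
    have h2 : t • (W (sec (θ x)) - w) = ψ (sec (θ x) - x) - (Z (sec (θ x)) - z) := by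
      rw [map_sub, hWZ (sec (θ x)), hx, smul_sub]
      abel
    have h3 : θ (W (sec (θ x)) - w) = 0 := by
      apply hkey
      rw [h2]
      exact Submodule.sub_mem _ h1 (Submodule.sub_mem _ (hZ _) hz)
    rw [map_sub, sub_eq_zero] at h3
    exact h3
  let g : E →ₗ[D] E :=
    { toFun := fun e => θ (W (sec e))
      map_add' := fun e e' => by
        have h1 := hP (sec e + sec e') (W (sec e) + W (sec e')) (Z (sec e) + Z (sec e'))
          (Submodule.add_mem _ (hZ _) (hZ _))
          (by rw [map_add, hWZ (sec e), hWZ (sec e'), smul_add]; abel)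
        rw [map_add, hsec, hsec] at h1
        rw [h1, map_add]
      map_smul' := fun d e => by
        have h1 := hP (d • sec e) (d • W (sec e)) (d • Z (sec e))
          (dsmul_mem I' d _ (hZ _))
          (by rw [hψ, hWZ (sec e), smul_add, ← smul_comm t d])
        rw [map_smul, hsec] at h1
        rw [h1, map_smul, RingHom.id_apply] }
  obtain ⟨c, hc⟩ := hE g
  refine ⟨c, fun x => ?_⟩
  have hg : θ (W x) = c • θ x := by
    have h1 := hP x (W x) (Z x) (hZ x) (hWZ x)
    rw [← hc, ← h1]
    rfl
  have h4 : θ (W x - algebraMap K R c • x) = 0 := by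
    rw [map_sub, hθ, hg, AlgHom.commutes]
    simp
  have h5 : t • (W x - algebraMap K R c • x) ∈ I' • (⊤ : Submodule R F) := by
    have h6 : t • (W x - algebraMap K R c • x) ∈ I • (m • (⊤ : Submodule R F)) :=
      Submodule.smul_mem_smul htI ((hker _).mp h4)
    rw [← Submodule.mul_smul, mul_comm] at h6
    exact Submodule.smul_mono_left hmI h6
  have h7 : ψ x - (algebraMap K R c * t) • x = t • (W x - algebraMap K R c • x) + Z x := by
    rw [hWZ x, smul_sub, smul_smul, mul_comm]
    abel
  rw [h7]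
  exact Submodule.add_mem _ h5 (hZ x)

/-- Existence of a "coatom below `I`" with the properties needed for `step`. -/
lemma exists_coatom_below [IsNoetherianRing R] (I : Ideal R) (hI : I ≠ ⊥) :
    ∃ (I' : Ideal R) (t : R), I' < I ∧ t ∈ I ∧ t ∉ I' ∧ I = I' ⊔ Ideal.span {t} ∧
      IsLocalRing.maximalIdeal R * I ≤ I' := by
  classical
  have hne : {N : Ideal R | N < I}.Nonempty := ⟨⊥, bot_lt_iff_ne_bot.mpr hI⟩
  obtain ⟨I', hI'lt, hI'max⟩ := (wellFounded_gt (α := Ideal R)).has_min _ hne
  have hI'lt' : I' < I := hI'lt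
  obtain ⟨t, htI, htI'⟩ := SetLike.exists_of_lt hI'lt'
  have hmax : ∀ N : Ideal R, I' < N → N ≤ I → N = I := by
    intro N h1 h2
    rcases lt_or_eq_of_le h2 with h3 | h3
    · exact absurd h1 (hI'max N h3)
    · exact h3
  refine ⟨I', t, hI'lt', htI, htI', ?_, ?_⟩
  · symm
    apply hmax
    · rw [lt_iff_le_and_ne]
      refine ⟨le_sup_left, fun h => htI' ?_⟩
      rw [h]
      exact Ideal.mem_sup_right (Ideal.subset_span rfl)
    · exact sup_le hI'lt'.le ((Ideal.span_singleton_le_iff_mem I).mpr htI)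
  · by_contra hnot
    have h1 : I' ⊔ IsLocalRing.maximalIdeal R * I = I := by
      apply hmax
      · rw [lt_iff_le_and_ne]
        refine ⟨le_sup_left, fun h => hnot ?_⟩
        rw [h]
        exact le_sup_right
      · exact sup_le hI'lt'.le Ideal.mul_le_right
    have h2 : I ≤ I' := by
      apply Submodule.le_of_le_smul_of_le_jacobson_bot (I := IsLocalRing.maximalIdeal R)
        (IsNoetherian.noetherian I)
      · rw [IsLocalRing.jacobson_eq_maximalIdeal ⊥ bot_ne_top]
      · rw [Ideal.smul_eq_mul, h1]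
    exact absurd hI'lt' (not_lt_of_ge h2)

/-- **Endomorphisms of a deformation are scalars**. -/
theorem end_eq_scalar [IsArtinianRing R] [Nontrivial E]
    (hE : ∀ ψ : E →ₗ[D] E, ∃ c : K, ∀ y : E, ψ y = c • y)
    (res : R →ₐ[K] K)
    (θ : F →ₗ[D] E) (hθ : ∀ (r : R) (x : F), θ (r • x) = res r • θ x)
    (hsurj : Function.Surjective θ)
    (hker : ∀ x : F, θ x = 0 ↔ x ∈ IsLocalRing.maximalIdeal R • (⊤ : Submodule R F))
    (φ : F →ₗ[R] F) (hφ : ∀ (d : D) (x : F), φ (d • x) = d • φ x) :
    ∃! r : R, ∀ x : F, φ x = r • x := by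
  classical
  -- existence
  have hex : ∃ r : R, ∀ x : F, φ x = r • x := by
    let S : Set (Ideal R) := {I | ∃ r : R, ∀ x, φ x - r • x ∈ I • (⊤ : Submodule R F)}
    have hS : S.Nonempty := ⟨⊤, 0, fun x => by simp⟩
    obtain ⟨I, hIS, hImin⟩ := (wellFounded_lt (α := Ideal R)).has_min S hS
    obtain ⟨r, hr⟩ := hIS
    by_cases hI : I = ⊥
    · refine ⟨r, fun x => ?_⟩
      have := hr x
      rw [hI, Submodule.bot_smul, Submodule.mem_bot, sub_eq_zero] at this
      exact this
    · exfalso
      obtain ⟨I', t, hlt, htI, htI', hsup, hmI⟩ := exists_coatom_below I hI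
      let ψ : F →ₗ[R] F := φ - r • LinearMap.id
      have hψ : ∀ (d : D) (x : F), ψ (d • x) = d • ψ x := by
        intro d x
        simp only [ψ, LinearMap.sub_apply, LinearMap.smul_apply, LinearMap.id_apply, hφ, smul_sub]
        rw [smul_comm r d x]
      obtain ⟨c, hc⟩ := step hE res θ hθ hsurj hker ψ hψ I I' t htI htI' hsup hmI
        (fun x => by simpa [ψ] using hr x)
      apply hImin I' ⟨r + algebraMap K R c * t, fun x => ?_⟩ hlt
      have := hc x
      simp only [ψ, LinearMap.sub_apply, LinearMap.smul_apply, LinearMap.id_apply] at this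
      rw [add_smul, ← sub_sub]
      exact this
  obtain ⟨r, hr⟩ := hex
  refine ⟨r, hr, fun r' hr' => ?_⟩
  by_contra hne
  have h0 : ∀ w : F, (r' - r) • w ∈ (⊥ : Ideal R) • (⊤ : Submodule R F) := by
    intro w
    rw [sub_smul, ← hr, ← hr', sub_self]
    exact Submodule.zero_mem _
  have h1 : ∀ w : F, θ w = 0 := by
    intro w
    rw [hker]
    apply mem_maximalIdeal_smul_of_smul_mem ⊥ (r' - r) _ w (h0 w)
    rw [Ideal.mem_bot, sub_eq_zero]
    exact hne
  obtain ⟨e, he⟩ := exists_ne (0 : E)
  obtain ⟨w, rfl⟩ := hsurj e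
  exact he (h1 w)

end main

end Groth.Agent.Lib.helper28.DefEnd
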