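import Mathlib
import Groth.Agent.Lib.helper28.DefEnd
import Groth.Agent.Lib.helper24.NilFlat

/-!
Flat modules over an Artinian local ring: an endomorphism is injective iff it is injective modulo
any proper ideal, and then its cokernel is flat (helper28).
-/

namespace Groth.Agent.Lib.helper28.ArtFlat

open TensorProduct Function
open Groth.Agent.Lib.helper28.DefEnd

section Atom

variable {R : Type*} [CommRing R] [IsLocalRing R] [IsArtinianRing R]

/-- Above a proper ideal of an Artinian local ring there is an ideal `J'` with `J'/J` simple. -/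
lemma exists_atom_above (J : Ideal R) (hJ : J ≠ ⊤) :
    ∃ (J' : Ideal R) (t : R), J < J' ∧ t ∈ J' ∧ t ∉ J ∧ J' = J ⊔ Ideal.span {t} ∧
      IsLocalRing.maximalIdeal R * J' ≤ J := by
  classical
  have hne : {N : Ideal R | J < N}.Nonempty := ⟨⊤, lt_top_iff_ne_top.mpr hJ⟩
  obtain ⟨J', hJ'lt, hJ'min⟩ := (wellFounded_lt (α := Ideal R)).has_min _ hne
  have hJ'lt' : J < J' := hJ'lt
  obtain ⟨t, htJ', htJ⟩ := SetLike.exists_of_lt hJ'lt'
  have hmin : ∀ N : Ideal R, J < N → N ≤ J' → N = J' := by
    intro N h1 h2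
    rcases lt_or_eq_of_le h2 with h3 | h3
    · exact absurd h3 (hJ'min N h1)
    · exact h3
  refine ⟨J', t, hJ'lt', htJ', htJ, ?_, ?_⟩
  · symm
    apply hmin
    · rw [lt_iff_le_and_ne]
      refine ⟨le_sup_left, fun h => htJ ?_⟩
      rw [h]
      exact Ideal.mem_sup_right (Ideal.subset_span rfl)
    · exact sup_le hJ'lt'.le ((Ideal.span_singleton_le_iff_mem J').mpr htJ')
  · by_contra hnot
    have h1 : J ⊔ IsLocalRing.maximalIdeal R * J' = J' := by
      apply hmin
      · rw [lt_iff_le_and_ne]
        refine ⟨le_sup_left, fun h => hnot ?_⟩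
        rw [h]
        exact le_sup_right
      · exact sup_le hJ'lt'.le Ideal.mul_le_right
    have h2 : J' ≤ J := by
      apply Submodule.le_of_le_smul_of_le_jacobson_bot (I := IsLocalRing.maximalIdeal R)
        (IsNoetherian.noetherian J')
      · rw [IsLocalRing.jacobson_eq_maximalIdeal ⊥ bot_ne_top]
      · rw [Ideal.smul_eq_mul, h1]
    exact absurd hJ'lt' (not_lt_of_ge h2)

end Atom

section Main

variable {R : Type*} [CommRing R] [IsLocalRing R] [IsArtinianRing R]
variable {F : Type*} [AddCommGroup F] [Module R F] (φ : F →ₗ[R] F)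

/-- `φ` is injective modulo `J`. -/
def InjMod (J : Ideal R) : Prop :=
  ∀ x : F, φ x ∈ J • (⊤ : Submodule R F) → x ∈ J • (⊤ : Submodule R F)

omit [IsLocalRing R] [IsArtinianRing R] in
lemma map_mem (J : Ideal R) (z : F) (hz : z ∈ J • (⊤ : Submodule R F)) :
    φ z ∈ J • (⊤ : Submodule R F) := by
  refine Submodule.smul_induction_on hz ?_ ?_
  · intro a ha f _
    rw [map_smul]
    exact Submodule.smul_mem_smul ha trivial
  · intro x y hx hy
    rw [map_add]; exact Submodule.add_mem _ hx hy

omit [IsLocalRing R] [IsArtinianRing R] in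
lemma injective_iff_injMod_bot : Injective φ ↔ InjMod φ ⊥ := by
  rw [injective_iff_map_eq_zero]
  unfold InjMod
  simp only [Submodule.bot_smul, Submodule.mem_bot]

variable [Module.Flat R F]

lemma injMod_maximalIdeal_of_injMod (I : Ideal R) (hI : I ≠ ⊤) (h : InjMod φ I) :
    InjMod φ (IsLocalRing.maximalIdeal R) := by
  obtain ⟨J', t, hlt, htJ', htI, hsup, hm⟩ := exists_atom_above I hI
  intro x hx
  have h1 : t • φ x ∈ I • (⊤ : Submodule R F) := by
    have h2 : t • φ x ∈ J' • (IsLocalRing.maximalIdeal R • (⊤ : Submodule R F)) :=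
      Submodule.smul_mem_smul htJ' hx
    rw [← Submodule.mul_smul, mul_comm] at h2
    exact Submodule.smul_mono_left hm h2
  rw [← map_smul] at h1
  exact mem_maximalIdeal_smul_of_smul_mem I t htI x (h _ h1)

lemma injMod_of_injMod_maximalIdeal (h : InjMod φ (IsLocalRing.maximalIdeal R)) (J : Ideal R) :
    InjMod φ J := by
  induction J using (wellFounded_gt (α := Ideal R)).induction with
  | _ J ih =>
  by_cases hJ : J = ⊤
  · intro x _
    rw [hJ, Submodule.top_smul]
    trivial
  obtain ⟨J', t, hlt, htJ', htJ, hsup, hm⟩ := exists_atom_above J hJ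
  intro x hx
  have h1 : x ∈ J' • (⊤ : Submodule R F) :=
    ih J' hlt x (Submodule.smul_mono_left hlt.le hx)
  rw [hsup, Submodule.sup_smul, Submodule.mem_sup] at h1
  obtain ⟨z, hz, y, hy, hzy⟩ := h1
  rw [Submodule.ideal_span_singleton_smul] at hy
  obtain ⟨w, -, rfl⟩ := (Submodule.mem_smul_pointwise_iff_exists _ _ _).mp hy
  -- `t • φ w ∈ J F`
  have h2 : t • φ w ∈ J • (⊤ : Submodule R F) := by
    have : t • φ w = φ x - φ z := by rw [← hzy, map_add, map_smul]; abel
    rw [this]
    exact Submodule.sub_mem _ hx (map_mem φ J z hz)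
  have h3 : φ w ∈ IsLocalRing.maximalIdeal R • (⊤ : Submodule R F) :=
    mem_maximalIdeal_smul_of_smul_mem J t htJ (φ w) h2
  have h4 : w ∈ IsLocalRing.maximalIdeal R • (⊤ : Submodule R F) := h w h3
  have h5 : t • w ∈ J • (⊤ : Submodule R F) := by
    have h6 : t • w ∈ J' • (IsLocalRing.maximalIdeal R • (⊤ : Submodule R F)) :=
      Submodule.smul_mem_smul htJ' h4
    rw [← Submodule.mul_smul, mul_comm] at h6
    exact Submodule.smul_mono_left hm h6
  rw [← hzy]
  exact Submodule.add_mem _ hz h5

/-- For a flat module over an Artinian local ring and a proper ideal `I`, an endomorphism is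
injective iff it is injective modulo `I`. -/
theorem injective_iff_injMod (I : Ideal R) (hI : I ≠ ⊤) : Injective φ ↔ InjMod φ I := by
  rw [injective_iff_injMod_bot]
  constructor
  · intro h
    exact injMod_of_injMod_maximalIdeal φ (injMod_maximalIdeal_of_injMod φ ⊥ bot_ne_top h) I
  · intro h
    exact injMod_of_injMod_maximalIdeal φ (injMod_maximalIdeal_of_injMod φ I hI h) ⊥

end Main

section Coker

universe u v

variable {R : Type u} [CommRing R]

/-- The multiplication map `I ⊗ N → N`. -/
noncomputable def mu (I : Ideal R) (N : Type v) [AddCommGroup N] [Module R N] : I ⊗[R] N →ₗ[R] N :=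
  (TensorProduct.lid R N).toLinearMap ∘ₗ LinearMap.rTensor N I.subtype

@[simp]
theorem mu_tmul (I : Ideal R) (N : Type v) [AddCommGroup N] [Module R N] (r : I) (n : N) :
    mu I N (r ⊗ₜ n) = (r : R) • n := by
  simp [mu]

theorem mu_nat (I : Ideal R) {N N' : Type v} [AddCommGroup N] [Module R N] [AddCommGroup N']
    [Module R N'] (f : N →ₗ[R] N') (u : I ⊗[R] N) :
    f (mu I N u) = mu I N' (LinearMap.lTensor I f u) := by
  induction u with
  | zero => simp
  | tmul r n => simp
  | add a b ha hb => simp only [map_add, ha, hb]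

theorem mu_mem (I : Ideal R) (N : Type v) [AddCommGroup N] [Module R N] (u : I ⊗[R] N) :
    mu I N u ∈ I • (⊤ : Submodule R N) := by
  induction u with
  | zero => simp
  | tmul r n => rw [mu_tmul]; exact Submodule.smul_mem_smul r.2 trivial
  | add a b ha hb => rw [map_add]; exact Submodule.add_mem _ ha hb

theorem exists_mu (I : Ideal R) (N : Type v) [AddCommGroup N] [Module R N] (n : N)
    (hn : n ∈ I • (⊤ : Submodule R N)) : ∃ u : I ⊗[R] N, mu I N u = n := by
  refine Submodule.smul_induction_on hn ?_ ?_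
  · intro r hr m _
    exact ⟨(⟨r, hr⟩ : I) ⊗ₜ m, by simp⟩
  · rintro x y ⟨a, rfl⟩ ⟨b, rfl⟩
    exact ⟨a + b, map_add _ _ _⟩

theorem mu_injective (I : Ideal R) (N : Type v) [AddCommGroup N] [Module R N] [Module.Flat R N] :
    Injective (mu I N) := by
  unfold mu
  rw [LinearMap.coe_comp]
  exact (TensorProduct.lid R N).injective.comp
    (Module.Flat.rTensor_preserves_injective_linearMap _ I.subtype_injective)

variable [IsLocalRing R] [IsArtinianRing R]
variable {F : Type v} [AddCommGroup F] [Module R F] [Module.Flat R F] (φ : F →ₗ[R] F)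

/-- If `φ` is injective modulo the maximal ideal then its cokernel is flat. -/
theorem flat_quotient_range (h : InjMod φ (IsLocalRing.maximalIdeal R)) :
    Module.Flat R (F ⧸ LinearMap.range φ) := by
  have hnil : IsNilpotent (IsLocalRing.maximalIdeal R) := by
    have := IsArtinianRing.isNilpotent_jacobson_bot (R := R)
    rwa [IsLocalRing.jacobson_eq_maximalIdeal ⊥ bot_ne_top] at this
  have hfield : Module.Flat (R ⧸ IsLocalRing.maximalIdeal R)
      ((R ⧸ IsLocalRing.maximalIdeal R) ⊗[R] (F ⧸ LinearMap.range φ)) := by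
    let _ : Field (R ⧸ IsLocalRing.maximalIdeal R) :=
      Ideal.Quotient.field (IsLocalRing.maximalIdeal R)
    infer_instance
  apply Groth.Agent.Lib.helper24.NilFlat.flat_of_isNilpotent (IsLocalRing.maximalIdeal R)
    (F ⧸ LinearMap.range φ) hnil
  have hmuinj : Injective (mu (IsLocalRing.maximalIdeal R) (F ⧸ LinearMap.range φ)) := by
    rw [injective_iff_map_eq_zero]
    intro z hz
    obtain ⟨y, rfl⟩ := LinearMap.lTensor_surjective (IsLocalRing.maximalIdeal R)
      (Submodule.mkQ_surjective (LinearMap.range φ)) z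
    rw [← mu_nat] at hz
    obtain ⟨x, hx⟩ : mu (IsLocalRing.maximalIdeal R) F y ∈ LinearMap.range φ :=
      (Submodule.Quotient.mk_eq_zero _).mp hz
    have hx' : x ∈ IsLocalRing.maximalIdeal R • (⊤ : Submodule R F) := by
      apply h
      rw [hx]
      exact mu_mem _ _ _
    obtain ⟨y', rfl⟩ := exists_mu _ _ x hx'
    rw [mu_nat] at hx
    have hy : y = LinearMap.lTensor (IsLocalRing.maximalIdeal R) φ y' :=
      (mu_injective _ F hx).symm
    rw [hy, ← LinearMap.lTensor_comp_apply]
    have : (Submodule.mkQ (LinearMap.range φ)) ∘ₗ φ = 0 := by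
      ext w
      simp
    rw [this, LinearMap.lTensor_zero, LinearMap.zero_apply]
  unfold mu at hmuinj
  rw [LinearMap.coe_comp] at hmuinj
  exact Function.Injective.of_comp hmuinj

/-- If `φ` is injective modulo a proper ideal then its cokernel is flat. -/
theorem flat_quotient_range' (I : Ideal R) (hI : I ≠ ⊤) (h : InjMod φ I) :
    Module.Flat R (F ⧸ LinearMap.range φ) :=
  flat_quotient_range φ (injMod_maximalIdeal_of_injMod φ I hI h)

end Coker

end Groth.Agent.Lib.helper28.ArtFlat
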