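import Mathlib
import Groth.Agent.Lib.helper28.ArtFlat

/-!
Regular sequences on flat modules over an Artinian local base: regularity can be tested modulo a
proper ideal of the base, and the quotient by a regular sequence stays flat (helper28).
-/

namespace Groth.Agent.Lib.helper28.ArtReg

open Function Submodule RingTheory.Sequence
open scoped Pointwise
open Groth.Agent.Lib.helper28.ArtFlat

universe u v w

section

variable {R : Type u} [CommRing R] (I : Ideal R)
variable {S : Type v} [CommRing S] [Algebra R S]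

/-- The submodule `I M` of an `S`-module `M`, as an `S`-submodule. -/
abbrev ISub (M : Type w) [AddCommGroup M] [Module S M] : Submodule S M :=
  (I.map (algebraMap R S)) • (⊤ : Submodule S M)

/-- `M / I M` as an `S`-module. -/
abbrev Mbar (M : Type w) [AddCommGroup M] [Module S M] : Type w := M ⧸ ISub (S := S) I M

variable {M : Type w} [AddCommGroup M] [Module S M] [Module R M] [IsScalarTower R S M]

lemma mem_ISub_iff (x : M) : x ∈ ISub (S := S) I M ↔ x ∈ I • (⊤ : Submodule R M) := by
  have := Ideal.smul_restrictScalars (R := R) (S := S) (M := M) I (⊤ : Submodule S M)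
  rw [Submodule.restrictScalars_top] at this
  rw [← this, Submodule.restrictScalars_mem]

/-- multiplication by `r : S` as an `R`-linear endomorphism -/
noncomputable abbrev phi (r : S) : M →ₗ[R] M := (Algebra.lsmul R R M : S →ₐ[R] Module.End R M) r

lemma isSMulRegular_iff_injective (r : S) : IsSMulRegular M r ↔ Injective (phi (R := R) (S := S) (M := M) r) :=
  Iff.rfl

lemma isSMulRegular_Mbar_iff (r : S) :
    IsSMulRegular (Mbar (S := S) I M) r ↔ InjMod (phi (R := R) (S := S) (M := M) r) I := by
  rw [isSMulRegular_quotient_iff_mem_of_smul_mem]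
  unfold InjMod
  constructor
  · intro h x hx
    rw [← mem_ISub_iff (S := S)] at hx ⊢
    exact h x hx
  · intro h x hx
    rw [mem_ISub_iff (S := S)] at hx ⊢
    exact h x hx

lemma range_phi (r : S) : LinearMap.range (phi (R := R) (S := S) (M := M) r) =
    (r • (⊤ : Submodule S M)).restrictScalars R := by
  ext x
  rw [Submodule.restrictScalars_mem, Submodule.mem_smul_pointwise_iff_exists, LinearMap.mem_range]
  constructor
  · rintro ⟨y, rfl⟩
    exact ⟨y, trivial, rfl⟩
  · rintro ⟨y, -, rfl⟩
    exact ⟨y, rfl⟩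

variable [IsLocalRing R] [IsArtinianRing R]

lemma isSMulRegular_iff_Mbar [Module.Flat R M] (hI : I ≠ ⊤) (r : S) :
    IsSMulRegular M r ↔ IsSMulRegular (Mbar (S := S) I M) r := by
  rw [isSMulRegular_Mbar_iff, isSMulRegular_iff_injective (R := R)]
  exact injective_iff_injMod _ I hI

lemma flat_quotSMulTop [Module.Flat R M] (r : S) (h : IsSMulRegular M r) :
    Module.Flat R (QuotSMulTop r M) := by
  have h1 : InjMod (phi (R := R) (S := S) (M := M) r) (IsLocalRing.maximalIdeal R) :=
    (injective_iff_injMod _ _ (Ideal.IsMaximal.ne_top inferInstance)).mp h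
  have h2 := flat_quotient_range _ h1
  exact Module.Flat.of_linearEquiv
    ((Submodule.quotEquivOfEq _ _ (range_phi (R := R) (S := S) (M := M) r)).trans
      (Submodule.Quotient.restrictScalarsEquiv R (r • (⊤ : Submodule S M)))).symm

end

section Main

variable {R : Type u} [CommRing R] (I : Ideal R)
variable {S : Type v} [CommRing S] [Algebra R S]

/-- `(M / I M) / r (M / I M) ≃ (M / r M) / I (M / r M)`. -/
noncomputable def equivC (M : Type w) [AddCommGroup M] [Module S M] (r : S) :
    QuotSMulTop r (Mbar (S := S) I M) ≃ₗ[S] Mbar (S := S) I (QuotSMulTop r M) :=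
  (quotEquivOfEq (r • (⊤ : Submodule S (Mbar (S := S) I M)))
      ((r • (⊤ : Submodule S M)).map (ISub (S := S) I M).mkQ)
      (by rw [map_pointwise_smul, Submodule.map_top, range_mkQ])) ≪≫ₗ
    quotientQuotientEquivQuotientSup (ISub (S := S) I M) (r • (⊤ : Submodule S M)) ≪≫ₗ
    quotEquivOfEq _ _ (sup_comm _ _) ≪≫ₗ
    (quotientQuotientEquivQuotientSup (r • (⊤ : Submodule S M)) (ISub (S := S) I M)).symm ≪≫ₗ
    quotEquivOfEq ((ISub (S := S) I M).map (r • (⊤ : Submodule S M)).mkQ)
      (ISub (S := S) I (QuotSMulTop r M))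
      (by rw [map_smul'', Submodule.map_top, range_mkQ])

variable [IsLocalRing R] [IsArtinianRing R]

/-- Regularity of a sequence on a flat module over an Artinian local base can be tested modulo a
proper ideal of the base; the quotient is then flat again. -/
theorem isWeaklyRegular_iff_Mbar (hI : I ≠ ⊤) (rs : List S) :
    ∀ (M : Type w) [AddCommGroup M] [Module S M] [Module R M] [IsScalarTower R S M]
      [Module.Flat R M],
      (IsWeaklyRegular M rs ↔ IsWeaklyRegular (Mbar (S := S) I M) rs) ∧
      (IsWeaklyRegular M rs →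
        Module.Flat R (M ⧸ (Ideal.ofList rs • (⊤ : Submodule S M)))) := by
  induction rs with
  | nil =>
    intro M _ _ _ _ _
    refine ⟨⟨fun _ => IsWeaklyRegular.nil _ _, fun _ => IsWeaklyRegular.nil _ _⟩, fun _ => ?_⟩
    have h0 : (Ideal.ofList ([] : List S) • (⊤ : Submodule S M)) = ⊥ := by
      rw [Ideal.ofList_nil, Submodule.bot_smul]
    exact Module.Flat.of_linearEquiv
      (((Submodule.quotEquivOfEqBot _ h0).restrictScalars R))
  | cons r rs ih =>
    intro M _ _ _ _ _
    rw [isWeaklyRegular_cons_iff, isWeaklyRegular_cons_iff]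
    refine ⟨?_, ?_⟩
    · constructor
      · rintro ⟨h1, h2⟩
        have hflat : Module.Flat R (QuotSMulTop r M) := flat_quotSMulTop (R := R) r h1
        refine ⟨(isSMulRegular_iff_Mbar (R := R) I hI r).mp h1, ?_⟩
        rw [(equivC (S := S) I M r).isWeaklyRegular_congr]
        exact ((ih (QuotSMulTop r M)).1).mp h2
      · rintro ⟨h1, h2⟩
        have h1' : IsSMulRegular M r := (isSMulRegular_iff_Mbar (R := R) I hI r).mpr h1
        have hflat : Module.Flat R (QuotSMulTop r M) := flat_quotSMulTop (R := R) r h1'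
        refine ⟨h1', ?_⟩
        rw [(equivC (S := S) I M r).isWeaklyRegular_congr] at h2
        exact ((ih (QuotSMulTop r M)).1).mpr h2
    · rintro ⟨h1, h2⟩
      have hflat : Module.Flat R (QuotSMulTop r M) := flat_quotSMulTop (R := R) r h1
      have := (ih (QuotSMulTop r M)).2 h2
      exact Module.Flat.of_linearEquiv
        ((quotOfListConsSMulTopEquivQuotSMulTopInner M r rs).restrictScalars R)

end Main

section Nakayama

variable {S : Type v} [CommRing S] {M : Type w} [AddCommGroup M] [Module S M]

/-- Nakayama for a nilpotent ideal. -/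
lemma eq_top_of_sup_smul_top_of_pow_eq_bot (K : Ideal S) (n : ℕ) (hK : K ^ n = ⊥)
    (T : Submodule S M) (h : (⊤ : Submodule S M) = T ⊔ K • ⊤) : T = ⊤ := by
  have key : ∀ k : ℕ, (⊤ : Submodule S M) ≤ T ⊔ K ^ k • (⊤ : Submodule S M) := by
    intro k
    induction k with
    | zero => rw [pow_zero, Ideal.one_eq_top, Submodule.top_smul]; exact le_sup_right
    | succ k ih =>
      calc (⊤ : Submodule S M) = T ⊔ K • ⊤ := h
        _ ≤ T ⊔ K • (T ⊔ K ^ k • (⊤ : Submodule S M)) :=
          sup_le_sup_left (Submodule.smul_mono le_rfl ih) _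
        _ ≤ T ⊔ K ^ (k + 1) • (⊤ : Submodule S M) := by
          rw [Submodule.smul_sup, ← Submodule.mul_smul, ← pow_succ']
          refine sup_le le_sup_left (sup_le ?_ le_sup_right)
          exact (Submodule.smul_le_right).trans le_sup_left
  have := key n
  rw [hK, Submodule.bot_smul, sup_bot_eq] at this
  exact top_le_iff.mp this

end Nakayama

section Reg

variable {R : Type u} [CommRing R] (I : Ideal R)
variable {S : Type v} [CommRing S] [Algebra R S]
variable [IsLocalRing R] [IsArtinianRing R]

lemma exists_map_pow_eq_bot (hI : I ≠ ⊤) : ∃ n : ℕ, (I.map (algebraMap R S)) ^ n = ⊥ := by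
  have hnil : IsNilpotent (IsLocalRing.maximalIdeal R) := by
    have := IsArtinianRing.isNilpotent_jacobson_bot (R := R)
    rwa [IsLocalRing.jacobson_eq_maximalIdeal ⊥ bot_ne_top] at this
  obtain ⟨n, hn⟩ := hnil
  refine ⟨n, ?_⟩
  have h1 : I ^ n = ⊥ := by
    rw [eq_bot_iff]
    calc I ^ n ≤ IsLocalRing.maximalIdeal R ^ n := Ideal.pow_right_mono (IsLocalRing.le_maximalIdeal hI) n
      _ = ⊥ := hn
  rw [← Ideal.map_pow, h1, Ideal.map_bot]

lemma top_eq_ofList_smul_iff_Mbar (hI : I ≠ ⊤) (rs : List S)
    (M : Type w) [AddCommGroup M] [Module S M] :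
    (⊤ : Submodule S M) = Ideal.ofList rs • ⊤ ↔
      (⊤ : Submodule S (Mbar (S := S) I M)) = Ideal.ofList rs • ⊤ := by
  have hmap : (Ideal.ofList rs • (⊤ : Submodule S M)).map (ISub (S := S) I M).mkQ =
      Ideal.ofList rs • (⊤ : Submodule S (Mbar (S := S) I M)) := by
    rw [map_smul'', Submodule.map_top, range_mkQ]
  constructor
  · intro h
    rw [← hmap, ← h, Submodule.map_top, range_mkQ]
  · intro h
    rw [← hmap] at h
    have h2 := congrArg (Submodule.comap (ISub (S := S) I M).mkQ) h
    rw [Submodule.comap_top, Submodule.comap_map_mkQ] at h2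
    obtain ⟨n, hn⟩ := exists_map_pow_eq_bot (S := S) I hI
    symm
    apply eq_top_of_sup_smul_top_of_pow_eq_bot (I.map (algebraMap R S)) n hn
    exact h2.trans (sup_comm _ _)

theorem isRegular_iff_Mbar (hI : I ≠ ⊤) (rs : List S)
    (M : Type w) [AddCommGroup M] [Module S M] [Module R M] [IsScalarTower R S M]
    [Module.Flat R M] :
    IsRegular M rs ↔ IsRegular (Mbar (S := S) I M) rs := by
  rw [isRegular_iff, isRegular_iff, (isWeaklyRegular_iff_Mbar (R := R) I hI rs M).1,
    ne_eq, ne_eq, top_eq_ofList_smul_iff_Mbar (R := R) I hI rs M]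

end Reg

end Groth.Agent.Lib.helper28.ArtReg
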