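import Mathlib
import Groth.Prelude.Def_HopfRep

/-!
helper28 library: basic constructions with comodules (`HopfRep.Comod`): corestriction of the
coaction along a coalgebra map.
-/

set_option autoImplicit false
set_option linter.unusedSectionVars false
universe u v v' w

open TensorProduct

namespace Groth.Agent.Lib.helper28.Comod

variable {k : Type u} [CommRing k]
  {C : Type v} [AddCommGroup C] [Module k C] [Coalgebra k C]
  {D : Type v'} [AddCommGroup D] [Module k D] [Coalgebra k D]

theorem assoc_lTensor_tmul (i : C →ₗ[k] D) {V : Type w} [AddCommGroup V] [Module k V]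
    (x : V ⊗[k] C) (c : C) :
    TensorProduct.assoc k V D D ((i.lTensor V x) ⊗ₜ[k] i c) =
      (TensorProduct.map i i).lTensor V (TensorProduct.assoc k V C C (x ⊗ₜ[k] c)) := by
  induction x using TensorProduct.induction_on with
  | zero => simp
  | tmul v c' => simp
  | add x y hx hy =>
    rw [map_add, TensorProduct.add_tmul, map_add, hx, hy, TensorProduct.add_tmul, map_add, map_add]

/-- Push a `C`-comodule structure forward along a coalgebra map `C → D`. -/
@[reducible] noncomputable def push (i : C →ₗc[k] D) (V : Type w) [AddCommGroup V] [Module k V]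
    [HopfRep.Comod k C V] : HopfRep.Comod k D V where
  coact := (i : C →ₗ[k] D).lTensor V ∘ₗ HopfRep.Comod.coact (k := k) (A := C)
  coassoc := by
    ext v
    simp only [LinearMap.comp_apply, LinearEquiv.coe_coe]
    have hC := congrArg (fun g => g v) (HopfRep.Comod.coassoc (k := k) (A := C) (V := V))
    simp only [LinearMap.comp_apply, LinearEquiv.coe_coe] at hC
    have key : ∀ x : V ⊗[k] C,
        TensorProduct.assoc k V D D
          (((i : C →ₗ[k] D).lTensor V ∘ₗ HopfRep.Comod.coact (k := k) (A := C)).rTensor D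
            ((i : C →ₗ[k] D).lTensor V x)) =
        (TensorProduct.map (i : C →ₗ[k] D) (i : C →ₗ[k] D)).lTensor V
          (TensorProduct.assoc k V C C
            ((HopfRep.Comod.coact (k := k) (A := C)).rTensor C x)) := by
      intro x
      induction x using TensorProduct.induction_on with
      | zero => simp
      | tmul v' c =>
        simp only [LinearMap.lTensor_tmul, LinearMap.rTensor_tmul, LinearMap.comp_apply]
        exact assoc_lTensor_tmul (i : C →ₗ[k] D) _ c
      | add x y hx hy => simp only [map_add, hx, hy]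
    rw [key, hC, ← LinearMap.lTensor_comp_apply, ← LinearMap.lTensor_comp_apply,
      CoalgHomClass.map_comp_comul]
  counit_comp := by
    rw [← LinearMap.comp_assoc, ← LinearMap.lTensor_comp, CoalgHomClass.counit_comp]
    exact HopfRep.Comod.counit_comp

theorem isSubcomod_push (i : C →ₗc[k] D) (V : Type w) [AddCommGroup V] [Module k V]
    [HopfRep.Comod k C V] (W : Submodule k V)
    (hW : HopfRep.IsSubcomod (k := k) (A := C) W) :
    @HopfRep.IsSubcomod k D _ _ _ _ V _ _ (push i V) W := by
  intro w hw
  obtain ⟨y, hy⟩ := hW w hw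
  refine ⟨(i : C →ₗ[k] D).lTensor W y, ?_⟩
  show _ = (i : C →ₗ[k] D).lTensor V (HopfRep.Comod.coact (k := k) (A := C) w)
  rw [← hy, ← LinearMap.comp_apply, ← LinearMap.comp_apply, LinearMap.rTensor_comp_lTensor,
    LinearMap.lTensor_comp_rTensor]

theorem assoc_rTensor_lTensor (i : C →ₗ[k] D) {V : Type w} [AddCommGroup V] [Module k V]
    (ρC : V →ₗ[k] V ⊗[k] C) (x : V ⊗[k] C) :
    TensorProduct.assoc k V D D ((i.lTensor V ∘ₗ ρC).rTensor D (i.lTensor V x)) =
      (TensorProduct.map i i).lTensor V (TensorProduct.assoc k V C C (ρC.rTensor C x)) := by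
  induction x using TensorProduct.induction_on with
  | zero => simp
  | tmul v' c =>
    simp only [LinearMap.lTensor_tmul, LinearMap.rTensor_tmul, LinearMap.comp_apply]
    exact assoc_lTensor_tmul i _ c
  | add x y hx hy => simp only [map_add, hx, hy]

/-- Pull a `D`-comodule structure back along an injective coalgebra map `C → D` (over a field),
when the coaction takes values in `V ⊗ C`. -/
theorem exists_pull {k : Type u} [Field k]
    {C : Type v} [AddCommGroup C] [Module k C] [Coalgebra k C]
    {D : Type v'} [AddCommGroup D] [Module k D] [Coalgebra k D]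
    (i : C →ₗc[k] D) (hi : Function.Injective i)
    (V : Type w) [AddCommGroup V] [Module k V] [HopfRep.Comod k D V]
    (h : ∀ v : V, HopfRep.Comod.coact (k := k) (A := D) v ∈
      LinearMap.range ((i : C →ₗ[k] D).lTensor V)) :
    ∃ c : HopfRep.Comod k C V,
      (i : C →ₗ[k] D).lTensor V ∘ₗ c.coact = HopfRep.Comod.coact (k := k) (A := D) := by
  have hinj : Function.Injective ((i : C →ₗ[k] D).lTensor V) :=
    Module.Flat.lTensor_preserves_injective_linearMap _ hi
  have hinj2 : Function.Injective
      ((TensorProduct.map (i : C →ₗ[k] D) (i : C →ₗ[k] D)).lTensor V) :=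
    Module.Flat.lTensor_preserves_injective_linearMap _
      (TensorProduct.map_injective_of_flat_flat _ _ hi hi)
  obtain ⟨ρC, hρ⟩ : ∃ ρC : V →ₗ[k] V ⊗[k] C, ∀ v : V, (i : C →ₗ[k] D).lTensor V (ρC v) =
      HopfRep.Comod.coact (k := k) (A := D) v := by
    refine ⟨(LinearEquiv.ofInjective ((i : C →ₗ[k] D).lTensor V) hinj).symm.toLinearMap ∘ₗ
      (HopfRep.Comod.coact (k := k) (A := D)).codRestrict
        (LinearMap.range ((i : C →ₗ[k] D).lTensor V)) h, fun v => ?_⟩
    simp only [LinearMap.comp_apply, LinearEquiv.coe_coe,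
      LinearEquiv.ofInjective_symm_apply, LinearMap.codRestrict_apply]
  have hρ' : (i : C →ₗ[k] D).lTensor V ∘ₗ ρC = HopfRep.Comod.coact (k := k) (A := D) :=
    LinearMap.ext hρ
  refine ⟨{ coact := ρC, coassoc := ?_, counit_comp := ?_ }, hρ'⟩
  · ext v
    apply hinj2
    simp only [LinearMap.comp_apply, LinearEquiv.coe_coe]
    have hD := congrArg (fun g => g v) (HopfRep.Comod.coassoc (k := k) (A := D) (V := V))
    simp only [LinearMap.comp_apply, LinearEquiv.coe_coe] at hD
    rw [← assoc_rTensor_lTensor, hρ', hρ, hD, ← hρ, ← LinearMap.lTensor_comp_apply,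
      ← LinearMap.lTensor_comp_apply, CoalgHomClass.map_comp_comul]
  · have h1 : (CoalgebraStruct.counit (R := k) (A := C)).lTensor V ∘ₗ ρC =
        (CoalgebraStruct.counit (R := k) (A := D)).lTensor V ∘ₗ
          ((i : C →ₗ[k] D).lTensor V ∘ₗ ρC) := by
      rw [← LinearMap.comp_assoc, ← LinearMap.lTensor_comp, CoalgHomClass.counit_comp]
    rw [h1, hρ']
    exact HopfRep.Comod.counit_comp

end Groth.Agent.Lib.helper28.Comod
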