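import Mathlib

/-!
helper28: the map `θ : W_n(B/p) → B`, `x ↦ Σ_{i<n} p^i x_i^(p^(n-i))`: surjectivity when Frobenius
of `B/p` is surjective and `p^n = 0`.
-/

set_option autoImplicit false

namespace Groth.Agent.Lib.helper28.DPowTheta

variable {B : Type*} [CommRing B] (p : ℕ)

/-- If Frobenius is surjective on `B/p`, every element is a `p^m`-th power modulo `p`. -/
lemma exists_pow_add_mul
    (hF : Function.Surjective (fun y : B ⧸ (Ideal.span {(p : B)}) => y ^ p)) (m : ℕ) (b : B) :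
    ∃ y c : B, b = y ^ p ^ m + (p : B) * c := by
  induction m generalizing b with
  | zero => exact ⟨b, 0, by simp⟩
  | succ m ih =>
    obtain ⟨y, c, hb⟩ := ih b
    obtain ⟨zbar, hz⟩ := hF (Ideal.Quotient.mk _ y)
    obtain ⟨z, rfl⟩ := Ideal.Quotient.mk_surjective zbar
    simp only at hz
    rw [← map_pow, Ideal.Quotient.eq, Ideal.mem_span_singleton] at hz
    obtain ⟨d, hd⟩ := hz
    -- y = z^p - p d
    have hy : y = z ^ p - (p : B) * d := by rw [← hd]; ring
    have h1 : z ^ p - y ∣ (z ^ p) ^ p ^ m - y ^ p ^ m := sub_dvd_pow_sub_pow _ _ _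
    rw [hd] at h1
    obtain ⟨e, he⟩ := h1
    refine ⟨z, c - d * e, ?_⟩
    rw [hb, pow_succ', pow_mul]
    have : y ^ p ^ m = (z ^ p) ^ p ^ m - (p : B) * d * e := by rw [← he]; ring
    rw [this]
    ring

/-- prepend an element to a sequence -/
def consSeq (y : B) (x : ℕ → B) : ℕ → B
  | 0 => y
  | (j + 1) => x j

@[simp] lemma consSeq_zero (y : B) (x : ℕ → B) : consSeq y x 0 = y := rfl
@[simp] lemma consSeq_succ (y : B) (x : ℕ → B) (j : ℕ) : consSeq y x (j + 1) = x j := rfl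

/-- Every element of `B` is of the form `Σ_{i<n} p^i x_i^(p^(n-i)) + p^n c`. -/
lemma exists_sum_add
    (hF : Function.Surjective (fun y : B ⧸ (Ideal.span {(p : B)}) => y ^ p)) (n : ℕ) (b : B) :
    ∃ (x : ℕ → B) (c : B),
      b = ∑ i ∈ Finset.range n, (p : B) ^ i * (x i) ^ (p ^ (n - i)) + (p : B) ^ n * c := by
  induction n generalizing b with
  | zero => exact ⟨fun _ => 0, b, by simp⟩
  | succ n ih =>
    obtain ⟨y, b₁, hb⟩ := exists_pow_add_mul p hF (n + 1) b
    obtain ⟨x, c, hb₁⟩ := ih b₁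
    refine ⟨consSeq y x, c, ?_⟩
    rw [Finset.sum_range_succ', hb, hb₁]
    simp only [Nat.succ_sub_succ_eq_sub, pow_zero, one_mul, Nat.sub_zero, consSeq_zero, consSeq_succ]
    rw [mul_add, Finset.mul_sum]
    have : ∀ i ∈ Finset.range n, (p : B) * ((p : B) ^ i * x i ^ p ^ (n - i)) =
        (p : B) ^ (i + 1) * x i ^ p ^ (n - i) := fun i _ => by ring
    rw [Finset.sum_congr rfl this]
    ring

/-- Surjectivity of `x ↦ Σ_{i<n} p^i x_i^(p^(n-i))` on Witt vectors of `B`. -/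
lemma exists_wittVector [hp : Fact p.Prime] (n : ℕ) (hpn : (p : B) ^ n = 0)
    (hF : Function.Surjective (fun y : B ⧸ (Ideal.span {(p : B)}) => y ^ p)) (b : B) :
    ∃ x : WittVector p B, ∑ i : Fin n, (p : B) ^ (i : ℕ) * (x.coeff i) ^ (p ^ (n - i)) = b := by
  obtain ⟨x, c, hb⟩ := exists_sum_add p hF n b
  refine ⟨WittVector.mk p x, ?_⟩
  rw [hb, hpn, zero_mul, add_zero, Finset.sum_range]
  rfl

end Groth.Agent.Lib.helper28.DPowTheta
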