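import Mathlib

/-! Eilenberg–Watts: a functor `Mod_A ⥤ Mod_B` preserving finite colimits and coproducts is
`F(A) ⊗_A -`. Main: `KK F`, `instModA`, `eta`, `eta_tmul`, `eta_nat`, `eta_surj`, `eta_inj`, `etaEquiv`. -/
set_option autoImplicit false
open CategoryTheory Limits TensorProduct
namespace Groth.Agent.Lib.helper28.EW
universe u
variable {A B : Type u} [CommRing A] [CommRing B] (F : ModuleCat.{u} A ⥤ ModuleCat.{u} B)
  [PreservesFiniteColimits F]

theorem additive : F.Additive := by
  have := preservesBinaryBiproducts_of_preservesBinaryCoproducts F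
  exact Functor.additive_of_preservesBinaryBiproducts F

/-- `f_m : A → M`, `1 ↦ m`. -/
def fm (M : ModuleCat.{u} A) (m : M) : ModuleCat.of A A ⟶ M :=
  ModuleCat.ofHom (LinearMap.toSpanSingleton A M m)

theorem fm_add (M : ModuleCat.{u} A) (m m' : M) : fm M (m + m') = fm M m + fm M m' := by
  apply ModuleCat.hom_ext; ext; simp [fm]

theorem fm_zero (M : ModuleCat.{u} A) : fm M (0 : M) = 0 := by
  apply ModuleCat.hom_ext; ext; simp [fm]

theorem fm_one : fm (ModuleCat.of A A) (1 : A) = 𝟙 _ := by
  apply ModuleCat.hom_ext; ext; simp [fm]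

theorem fm_comp (M : ModuleCat.{u} A) (a : A) (m : M) :
    fm (ModuleCat.of A A) a ≫ fm M m = fm M (a • m) := by
  apply ModuleCat.hom_ext; ext; simp [fm]

theorem fm_nat {M N : ModuleCat.{u} A} (f : M ⟶ N) (m : M) : fm M m ≫ f = fm N (f.hom m) := by
  apply ModuleCat.hom_ext; ext; simp [fm]

/-- The underlying type of `F(A)`. -/
def KK : Type u := F.obj (ModuleCat.of A A)

instance : AddCommGroup (KK F) := inferInstanceAs (AddCommGroup (F.obj (ModuleCat.of A A)))
instance : Module B (KK F) := inferInstanceAs (Module B (F.obj (ModuleCat.of A A)))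

def rho : A →+* Module.End B (KK F) where
  toFun a := (F.map (fm (ModuleCat.of A A) a)).hom
  map_one' := by rw [fm_one, F.map_id]; rfl
  map_mul' a b := by
    have : fm (ModuleCat.of A A) (a * b) = fm (ModuleCat.of A A) b ≫ fm (ModuleCat.of A A) a := by
      rw [fm_comp, smul_eq_mul, mul_comm]
    rw [this, F.map_comp]; rfl
  map_zero' := by
    have := additive F
    rw [fm_zero, F.map_zero]; rfl
  map_add' a b := by
    have := additive F
    rw [fm_add, F.map_add]; rfl

instance instModA : Module A (KK F) := Module.compHom (KK F) (rho F)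

theorem smul_def (a : A) (k : KK F) : a • k = (F.map (fm (ModuleCat.of A A) a)).hom k := rfl

instance : SMulCommClass A B (KK F) where
  smul_comm a b k := by
    rw [smul_def, smul_def]
    exact (F.map (fm (ModuleCat.of A A) a)).hom.map_smul b k

/-- The bi-additive map underlying `η`. -/
def etaAdd (M : ModuleCat.{u} A) : KK F →+ M →+ F.obj M :=
  AddMonoidHom.mk' (fun k => AddMonoidHom.mk' (fun m => (F.map (fm M m)).hom k)
    (fun m m' => by
      have := additive F
      rw [fm_add, F.map_add]; rfl))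
    (fun k k' => by
      ext m
      exact (F.map (fm M m)).hom.map_add k k')

def etaHom (M : ModuleCat.{u} A) : KK F ⊗[A] M →+ F.obj M :=
  TensorProduct.liftAddHom (etaAdd F M) (fun a k m => by
    show (F.map (fm M m)).hom ((F.map (fm (ModuleCat.of A A) a)).hom k) = (F.map (fm M (a • m))).hom k
    rw [← fm_comp, F.map_comp]; rfl)

theorem etaHom_tmul (M : ModuleCat.{u} A) (k : KK F) (m : M) :
    etaHom F M (k ⊗ₜ m) = (F.map (fm M m)).hom k := rfl

def eta (M : ModuleCat.{u} A) : KK F ⊗[A] M →ₗ[B] F.obj M where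
  toFun := etaHom F M
  map_add' := map_add _
  map_smul' b x := by
    induction x using TensorProduct.induction_on with
    | zero => simp
    | tmul k m =>
      rw [TensorProduct.smul_tmul', etaHom_tmul, etaHom_tmul]
      exact (F.map (fm M m)).hom.map_smul b k
    | add x y hx hy =>
      rw [smul_add, map_add, map_add, hx, hy, smul_add]

theorem eta_tmul (M : ModuleCat.{u} A) (k : KK F) (m : M) :
    eta F M (k ⊗ₜ m) = (F.map (fm M m)).hom k := rfl

theorem eta_nat {M N : ModuleCat.{u} A} (f : M ⟶ N) (x : KK F ⊗[A] M) :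
    eta F N (LinearMap.lTensor (KK F) f.hom x) = (F.map f).hom (eta F M x) := by
  induction x using TensorProduct.induction_on with
  | zero => simp
  | tmul k m =>
    rw [LinearMap.lTensor_tmul, eta_tmul, eta_tmul, ← fm_nat, F.map_comp]; rfl
  | add x y hx hy => rw [map_add, map_add, map_add, map_add, hx, hy]


section part2
variable {A B : Type u} [CommRing A] [CommRing B] (F : ModuleCat.{u} A ⥤ ModuleCat.{u} B)
  [PreservesFiniteColimits F]

theorem eta_A_eq (x : KK F ⊗[A] (ModuleCat.of A A : ModuleCat.{u} A)) :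
    eta F (ModuleCat.of A A) x = TensorProduct.rid A (KK F) x := by
  induction x using TensorProduct.induction_on with
  | zero => rw [map_zero, map_zero]; rfl
  | tmul k a =>
    rw [eta_tmul]
    show _ = TensorProduct.rid A (KK F) (k ⊗ₜ[A] (a : A))
    rw [TensorProduct.rid_tmul]; rfl
  | add x y hx hy => rw [map_add, map_add, hx, hy]; rfl

theorem eta_A_inj : Function.Injective (eta F (ModuleCat.of A A)) := by
  intro x y h
  rw [eta_A_eq, eta_A_eq] at h
  exact (TensorProduct.rid A (KK F)).injective h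

/-- injectivity on free modules -/
theorem eta_free_inj (I : Type u) :
    Function.Injective (eta F (ModuleCat.of A (I →₀ A))) := by
  classical
  rw [injective_iff_map_eq_zero]
  intro t ht
  have h1 : ∀ i : I, LinearMap.lTensor (KK F) (Finsupp.lapply (R := A) (M := A) i) t = 0 := by
    intro i
    apply eta_A_inj F
    have := eta_nat F (ModuleCat.ofHom (Finsupp.lapply (R := A) (M := A) i) :
      ModuleCat.of A (I →₀ A) ⟶ ModuleCat.of A A) t
    rw [ht, map_zero] at this
    rw [map_zero]
    exact this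
  apply (TensorProduct.finsuppScalarRight A A (KK F) I).injective
  rw [map_zero]
  ext i
  rw [TensorProduct.finsuppScalarRight_apply, h1 i, map_zero]
  rfl

/-- the cofan of copies of `A`. -/
noncomputable def cofanJ (J : Type u) : Cofan (fun _ : J => (ModuleCat.of A A : ModuleCat.{u} A)) :=
  Cofan.mk (ModuleCat.of A (J →₀ A)) (fun j => ModuleCat.ofHom (Finsupp.lsingle j))

noncomputable def cofanJ_isColimit (J : Type u) : IsColimit (cofanJ (A := A) J) :=
  mkCofanColimit _ (fun s => ModuleCat.ofHom (Finsupp.lsum A (fun j => (s.inj j).hom)))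
    (fun s j => by
      apply ModuleCat.hom_ext
      ext
      simp [cofanJ])
    (fun s m hm => by
      apply ModuleCat.hom_ext
      apply Finsupp.lhom_ext'
      intro j
      have := congrArg ModuleCat.Hom.hom (hm j)
      rw [ModuleCat.hom_comp] at this
      simp only [cofanJ, Cofan.mk_pt, Cofan.inj, Cofan.mk_ι_app, ModuleCat.hom_ofHom] at this
      exact this.trans (Finsupp.lsum_comp_lsingle (S := A) (fun j => (s.inj j).hom) j).symm)

def leg {J : Type u} {D : Discrete J ⥤ ModuleCat.{u} B} (c : Cocone D) (j : J) :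
    D.obj ⟨j⟩ ⟶ c.pt := c.ι.app ⟨j⟩

theorem jointly_surj {J : Type u} {D : Discrete J ⥤ ModuleCat.{u} B} (c : Cocone D)
    (hc : IsColimit c) :
    (⨆ j : J, LinearMap.range (leg c j).hom) = ⊤ := by
  set N : Submodule B c.pt := ⨆ j : J, LinearMap.range (leg c j).hom with hN
  have h1 : (ModuleCat.ofHom N.mkQ : c.pt ⟶ ModuleCat.of B (c.pt ⧸ N)) = 0 := by
    apply hc.hom_ext
    rintro ⟨j⟩
    rw [comp_zero]
    apply ModuleCat.hom_ext
    ext y
    simp only [ModuleCat.hom_comp, ModuleCat.hom_ofHom, LinearMap.coe_comp, Function.comp_apply,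
      Submodule.mkQ_apply, ModuleCat.hom_zero, LinearMap.zero_apply]
    rw [Submodule.Quotient.mk_eq_zero]
    exact (le_iSup (fun j : J => LinearMap.range (leg c j).hom) j) ⟨y, rfl⟩
  rw [eq_top_iff]
  intro y _
  have := congrArg (fun f => f.hom y) h1
  simp only [ModuleCat.hom_ofHom, Submodule.mkQ_apply, ModuleCat.hom_zero,
    LinearMap.zero_apply] at this
  exact (Submodule.Quotient.mk_eq_zero _).1 this

variable (hsum : ∀ J : Type u, PreservesColimitsOfShape (Discrete J) F)
include hsum

theorem free_span (J : Type u) :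
    (⨆ j : J, LinearMap.range (F.map (ModuleCat.ofHom (Finsupp.lsingle j) :
      ModuleCat.of A A ⟶ ModuleCat.of A (J →₀ A))).hom) = ⊤ := by
  have := hsum J
  exact jointly_surj _ (isColimitOfPreserves F (cofanJ_isColimit (A := A) J))

theorem eta_surj (M : ModuleCat.{u} A) : Function.Surjective (eta F M) := by
  classical
  let Sg : ModuleCat.of A (M →₀ A) ⟶ M :=
    ModuleCat.ofHom (Finsupp.lsum A (fun m : M => LinearMap.toSpanSingleton A M m))
  have hSgsurj : Function.Surjective Sg.hom := by
    intro m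
    refine ⟨Finsupp.single m 1, ?_⟩
    simp [Sg]
  have hepi : Epi Sg := (ModuleCat.epi_iff_surjective _).2 hSgsurj
  have hepi' : Epi (F.map Sg) := inferInstance
  have hFsurj : Function.Surjective (F.map Sg).hom := (ModuleCat.epi_iff_surjective _).1 hepi'
  have hjs := free_span F hsum (M : Type u)
  have hle : (⨆ j : (M : Type u), LinearMap.range (F.map (ModuleCat.ofHom (Finsupp.lsingle j) :
      ModuleCat.of A A ⟶ ModuleCat.of A ((M : Type u) →₀ A))).hom)
      ≤ (LinearMap.range (eta F M)).comap (F.map Sg).hom := by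
    refine iSup_le fun m => ?_
    rintro _ ⟨k, rfl⟩
    rw [Submodule.mem_comap]
    refine ⟨(k : KK F) ⊗ₜ[A] m, ?_⟩
    refine (eta_tmul F M (k : KK F) m).trans ?_
    have h2 : fm M m = (ModuleCat.ofHom (Finsupp.lsingle m) :
        ModuleCat.of A A ⟶ ModuleCat.of A ((M : Type u) →₀ A)) ≫ Sg := by
      apply ModuleCat.hom_ext
      ext
      simp [fm, Sg]
    rw [h2, F.map_comp]
    rfl
  rw [hjs, top_le_iff] at hle
  intro y
  obtain ⟨z, rfl⟩ := hFsurj y
  have : z ∈ (LinearMap.range (eta F M)).comap (F.map Sg).hom := by rw [hle]; trivial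
  exact this

end part2

section part3
variable {A B : Type u} [CommRing A] [CommRing B] (F : ModuleCat.{u} A ⥤ ModuleCat.{u} B)
  [PreservesFiniteColimits F]
variable (hsum : ∀ J : Type u, PreservesColimitsOfShape (Discrete J) F)
include hsum

theorem eta_inj (M : ModuleCat.{u} A) : Function.Injective (eta F M) := by
  classical
  rw [injective_iff_map_eq_zero]
  intro t ht
  -- presentation
  let π : ((M : Type u) →₀ A) →ₗ[A] M := Finsupp.lsum A (fun m : M => LinearMap.toSpanSingleton A M m)
  have hπsurj : Function.Surjective π := by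
    intro m
    refine ⟨Finsupp.single m 1, ?_⟩
    simp [π]
  let N : Submodule A ((M : Type u) →₀ A) := LinearMap.ker π
  let d : ((N : Type u) →₀ A) →ₗ[A] ((M : Type u) →₀ A) :=
    Finsupp.lsum A (fun n : N => LinearMap.toSpanSingleton A _ (n : (M : Type u) →₀ A))
  have hπd : π ∘ₗ d = 0 := by
    apply Finsupp.lhom_ext'
    intro n
    ext
    simp only [LinearMap.coe_comp, Function.comp_apply, Finsupp.lsingle_apply, LinearMap.zero_comp,
      LinearMap.zero_apply, d, Finsupp.lsum_single, LinearMap.toSpanSingleton_apply, one_smul]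
    exact n.2
  have hrange : ∀ x, π x = 0 → ∃ y, d y = x := by
    intro x hx
    refine ⟨Finsupp.single (⟨x, hx⟩ : N) 1, ?_⟩
    simp [d]
  let S : ShortComplex (ModuleCat.{u} A) :=
    ShortComplex.mk (ModuleCat.ofHom d) (ModuleCat.ofHom π)
      (by rw [← ModuleCat.ofHom_comp, hπd]; rfl)
  have hS : S.Exact := by
    rw [ShortComplex.moduleCat_exact_iff]
    intro x hx
    exact hrange x hx
  have hepi : Epi S.g := (ModuleCat.epi_iff_surjective _).2 hπsurj
  have hFS : (S.map F).Exact :=
    hS.map_of_epi_of_preservesCokernel F hepi inferInstance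
  rw [ShortComplex.moduleCat_exact_iff] at hFS
  -- chase
  obtain ⟨t0, rfl⟩ := LinearMap.lTensor_surjective (KK F) hπsurj t
  have h1 : (F.map (ModuleCat.ofHom π)).hom (eta F (ModuleCat.of A ((M : Type u) →₀ A)) t0) = 0 := by
    rw [← ht]
    exact (eta_nat F (ModuleCat.ofHom π : ModuleCat.of A ((M : Type u) →₀ A) ⟶ M) t0).symm
  obtain ⟨y1, hy1⟩ := hFS _ h1
  obtain ⟨t1, rfl⟩ := eta_surj F hsum (ModuleCat.of A ((N : Type u) →₀ A)) y1
  have h2 : eta F (ModuleCat.of A ((M : Type u) →₀ A)) (LinearMap.lTensor (KK F) d t1) =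
      eta F (ModuleCat.of A ((M : Type u) →₀ A)) t0 := by
    rw [← hy1]
    exact eta_nat F (ModuleCat.ofHom d : ModuleCat.of A ((N : Type u) →₀ A) ⟶
      ModuleCat.of A ((M : Type u) →₀ A)) t1
  have h3 := eta_free_inj F (M : Type u) h2
  rw [← h3, ← LinearMap.comp_apply, ← LinearMap.lTensor_comp, hπd, LinearMap.lTensor_zero,
    LinearMap.zero_apply]

noncomputable def etaEquiv (M : ModuleCat.{u} A) : (KK F ⊗[A] M) ≃ₗ[B] F.obj M :=
  LinearEquiv.ofBijective (eta F M) ⟨eta_inj F hsum M, eta_surj F hsum M⟩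

theorem etaEquiv_apply (M : ModuleCat.{u} A) (x : KK F ⊗[A] M) :
    etaEquiv F hsum M x = eta F M x := rfl

end part3

end Groth.Agent.Lib.helper28.EW
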