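import Mathlib

/-!
# Lifting `F`-equivariant maps modulo an `F`-nilpotent ideal (helper28)

`W` a commutative ring with an endomorphism `σ`, `P₁` free with basis `b₁`, `F₁ : P₁ → P₁` and
`F₂ : P₂ → P₂` `σ`-semilinear, with `F₁ ∘ b₁` again a basis.  The operator
`U α := (F₁ b₁ i ↦ F₂ (α (b₁ i)))` on `Hom(P₁, P₂)` has the `F`-equivariant maps as fixed points
and maps `Hom(P₁, 𝔠 P₂)` to `Hom(P₁, σ(𝔠) P₂)`.
-/

namespace Groth.Agent.Lib.helper28.FLift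

variable {W : Type*} [CommRing W] {σ : W →+* W}
variable {P₁ : Type*} [AddCommGroup P₁] [Module W P₁]
variable {P₂ : Type*} [AddCommGroup P₂] [Module W P₂]
variable {ι : Type*} (b₁ : Module.Basis ι W P₁)
variable (F₁ : P₁ →ₛₗ[σ] P₁) (F₂ : P₂ →ₛₗ[σ] P₂)
variable (hli : LinearIndependent W (fun i => F₁ (b₁ i)))
variable (hsp : Submodule.span W (Set.range fun i => F₁ (b₁ i)) = ⊤)

/-- The basis `F₁ ∘ b₁`. -/
noncomputable def c₁ : Module.Basis ι W P₁ := Module.Basis.mk hli hsp.ge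

theorem c₁_apply (i : ι) : c₁ b₁ F₁ hli hsp i = F₁ (b₁ i) := by
  simp [c₁]

/-- The operator `U`. -/
noncomputable def U (α : P₁ →ₗ[W] P₂) : P₁ →ₗ[W] P₂ :=
  (c₁ b₁ F₁ hli hsp).constr ℕ (fun i => F₂ (α (b₁ i)))

theorem U_c₁ (α : P₁ →ₗ[W] P₂) (i : ι) :
    U b₁ F₁ F₂ hli hsp α (F₁ (b₁ i)) = F₂ (α (b₁ i)) := by
  rw [← c₁_apply b₁ F₁ hli hsp i, U, Module.Basis.constr_basis]

theorem U_F (α : P₁ →ₗ[W] P₂) (x : P₁) :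
    U b₁ F₁ F₂ hli hsp α (F₁ x) = F₂ (α x) := by
  have h : ((U b₁ F₁ F₂ hli hsp α).comp F₁ : P₁ →ₛₗ[σ] P₂) = F₂.comp α :=
    b₁.ext fun i => by simpa using U_c₁ b₁ F₁ F₂ hli hsp α i
  exact LinearMap.congr_fun h x

theorem U_eq_iff (α : P₁ →ₗ[W] P₂) :
    U b₁ F₁ F₂ hli hsp α = α ↔ ∀ x, F₂ (α x) = α (F₁ x) := by
  constructor
  · intro h x
    rw [← U_F b₁ F₁ F₂ hli hsp α x, h]
  · intro h
    refine (c₁ b₁ F₁ hli hsp).ext fun i => ?_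
    rw [c₁_apply, U_c₁, h]

theorem U_add (α β : P₁ →ₗ[W] P₂) :
    U b₁ F₁ F₂ hli hsp (α + β) = U b₁ F₁ F₂ hli hsp α + U b₁ F₁ F₂ hli hsp β := by
  refine (c₁ b₁ F₁ hli hsp).ext fun i => ?_
  rw [c₁_apply, LinearMap.add_apply, U_c₁, U_c₁, U_c₁, LinearMap.add_apply, map_add]

/-- `U` as an additive map. -/
noncomputable def UHom : (P₁ →ₗ[W] P₂) →+ (P₁ →ₗ[W] P₂) :=
  AddMonoidHom.mk' (U b₁ F₁ F₂ hli hsp) (U_add b₁ F₁ F₂ hli hsp)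

theorem UHom_apply (α : P₁ →ₗ[W] P₂) : UHom b₁ F₁ F₂ hli hsp α = U b₁ F₁ F₂ hli hsp α := rfl

/-- `α` has image in `𝔠 • P₂`. -/
def Hc (𝔠 : Ideal W) (α : P₁ →ₗ[W] P₂) : Prop :=
  ∀ x, α x ∈ 𝔠 • (⊤ : Submodule W P₂)

omit [Module W P₁] in
theorem F₂_mem (𝔠 : Ideal W) (y : P₂) (hy : y ∈ 𝔠 • (⊤ : Submodule W P₂)) :
    F₂ y ∈ (𝔠.map σ) • (⊤ : Submodule W P₂) := by
  refine Submodule.smul_induction_on hy ?_ ?_
  · intro r hr n _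
    rw [map_smulₛₗ]
    exact Submodule.smul_mem_smul (Ideal.mem_map_of_mem σ hr) Submodule.mem_top
  · intro u v hu hv
    rw [map_add]; exact Submodule.add_mem _ hu hv

include hsp in
theorem Hc_of_basis (𝔠 : Ideal W) (α : P₁ →ₗ[W] P₂)
    (h : ∀ i, α (F₁ (b₁ i)) ∈ 𝔠 • (⊤ : Submodule W P₂)) : Hc 𝔠 α := by
  intro x
  have hx : x ∈ Submodule.span W (Set.range fun i => F₁ (b₁ i)) := hsp ▸ Submodule.mem_top
  have : Submodule.span W (Set.range fun i => F₁ (b₁ i)) ≤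
      (𝔠 • (⊤ : Submodule W P₂)).comap α := by
    rw [Submodule.span_le]
    rintro _ ⟨i, rfl⟩
    exact h i
  exact this hx

theorem Hc_U (𝔠 : Ideal W) (α : P₁ →ₗ[W] P₂) (h : Hc 𝔠 α) :
    Hc (𝔠.map σ) (U b₁ F₁ F₂ hli hsp α) := by
  refine Hc_of_basis b₁ F₁ hsp _ _ fun i => ?_
  rw [U_c₁]
  exact F₂_mem F₂ 𝔠 _ (h _)

theorem Hc_mono {𝔠 𝔡 : Ideal W} (h : 𝔠 ≤ 𝔡) (α : P₁ →ₗ[W] P₂) (hα : Hc 𝔠 α) : Hc 𝔡 α :=
  fun x => Submodule.smul_mono_left h (hα x)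

theorem Hc_bot (α : P₁ →ₗ[W] P₂) (hα : Hc ⊥ α) : α = 0 := by
  ext x
  have := hα x
  rw [Submodule.bot_smul] at this
  simpa using this

theorem Hc_add {𝔠 : Ideal W} {α β : P₁ →ₗ[W] P₂} (hα : Hc 𝔠 α) (hβ : Hc 𝔠 β) : Hc 𝔠 (α + β) :=
  fun x => Submodule.add_mem _ (hα x) (hβ x)

theorem Hc_sub {𝔠 : Ideal W} {α β : P₁ →ₗ[W] P₂} (hα : Hc 𝔠 α) (hβ : Hc 𝔠 β) : Hc 𝔠 (α - β) :=
  fun x => Submodule.sub_mem _ (hα x) (hβ x)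

theorem Hc_sum {𝔠 : Ideal W} {κ : Type*} (s : Finset κ) (f : κ → (P₁ →ₗ[W] P₂))
    (h : ∀ k ∈ s, Hc 𝔠 (f k)) : Hc 𝔠 (∑ k ∈ s, f k) := by
  intro x
  rw [LinearMap.sum_apply]
  exact Submodule.sum_mem _ fun k hk => h k hk x

theorem Hc_iterate (𝔠 : Ideal W) (α : P₁ →ₗ[W] P₂) (h : Hc 𝔠 α) (k : ℕ) :
    Hc (𝔠.map (σ ^ k)) ((⇑(UHom b₁ F₁ F₂ hli hsp))^[k] α) := by
  induction k with
  | zero =>
    have : 𝔠.map (σ ^ 0) = 𝔠 := by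
      rw [pow_zero]; exact Ideal.map_id 𝔠
    rw [this]; exact h
  | succ k ih =>
    rw [Function.iterate_succ_apply', UHom_apply]
    have := Hc_U b₁ F₁ F₂ hli hsp _ _ ih
    rwa [Ideal.map_map, ← RingHom.mul_def, ← pow_succ'] at this

variable (𝔠 : Ideal W) (h𝔠 : ∀ x ∈ 𝔠, σ x ∈ 𝔠) (K : ℕ) (hK : ∀ x ∈ 𝔠, (⇑σ)^[K] x = 0)

include hK in
theorem iterate_eq_zero (α : P₁ →ₗ[W] P₂) (h : Hc 𝔠 α) :
    (⇑(UHom b₁ F₁ F₂ hli hsp))^[K] α = 0 := by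
  apply Hc_bot
  have := Hc_iterate b₁ F₁ F₂ hli hsp 𝔠 α h K
  have hbot : 𝔠.map (σ ^ K) = ⊥ := by
    rw [Ideal.map_eq_bot_iff_le_ker]
    intro x hx
    rw [RingHom.mem_ker, RingHom.coe_pow]
    exact hK x hx
  rwa [hbot] at this

include h𝔠 in
theorem Hc_iterate_stable (α : P₁ →ₗ[W] P₂) (h : Hc 𝔠 α) (k : ℕ) :
    Hc 𝔠 ((⇑(UHom b₁ F₁ F₂ hli hsp))^[k] α) := by
  induction k with
  | zero => exact h
  | succ k ih =>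
    rw [Function.iterate_succ_apply', UHom_apply]
    refine Hc_mono ?_ _ (Hc_U b₁ F₁ F₂ hli hsp _ _ ih)
    rw [Ideal.map_le_iff_le_comap]
    exact fun x hx => h𝔠 x hx

include hli hsp h𝔠 hK in
/-- Existence of an `F`-equivariant lift. -/
theorem exists_lift (α₀ : P₁ →ₗ[W] P₂)
    (hα₀ : ∀ x : P₁, F₂ (α₀ x) - α₀ (F₁ x) ∈ 𝔠 • (⊤ : Submodule W P₂)) :
    ∃ α : P₁ →ₗ[W] P₂, (∀ x : P₁, α x - α₀ x ∈ 𝔠 • (⊤ : Submodule W P₂)) ∧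
      ∀ x : P₁, F₂ (α x) = α (F₁ x) := by
  set UH := UHom b₁ F₁ F₂ hli hsp with hUH
  set δ₀ : P₁ →ₗ[W] P₂ := UH α₀ - α₀ with hδ₀
  have hδ : Hc 𝔠 δ₀ := by
    refine Hc_of_basis b₁ F₁ hsp _ _ fun i => ?_
    rw [hδ₀, LinearMap.sub_apply, hUH, UHom_apply, U_c₁]
    exact hα₀ _
  refine ⟨α₀ + ∑ i ∈ Finset.range K, (⇑UH)^[i] δ₀, ?_, ?_⟩
  · intro x
    have : Hc 𝔠 (∑ i ∈ Finset.range K, (⇑UH)^[i] δ₀) :=
      Hc_sum _ _ fun k _ => Hc_iterate_stable b₁ F₁ F₂ hli hsp 𝔠 h𝔠 δ₀ hδ k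
    simpa using this x
  · rw [← U_eq_iff b₁ F₁ F₂ hli hsp, ← UHom_apply, ← hUH, map_add, map_sum]
    have h1 : ∀ i, UH ((⇑UH)^[i] δ₀) = (⇑UH)^[i + 1] δ₀ := fun i =>
      (Function.iterate_succ_apply' _ _ _).symm
    simp only [h1]
    have h2 : ∑ i ∈ Finset.range K, (⇑UH)^[i + 1] δ₀
        = ∑ i ∈ Finset.range K, (⇑UH)^[i] δ₀ + ((⇑UH)^[K] δ₀ - (⇑UH)^[0] δ₀) := by
      rw [← Finset.sum_range_sub (fun i => (⇑UH)^[i] δ₀) K, ← Finset.sum_add_distrib]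
      refine Finset.sum_congr rfl fun i _ => by abel
    rw [h2, iterate_eq_zero b₁ F₁ F₂ hli hsp 𝔠 K hK δ₀ hδ, Function.iterate_zero, id_eq, hδ₀]
    abel

include hli hsp hK in
/-- Uniqueness of the `F`-equivariant lift. -/
theorem lift_unique (α α' : P₁ →ₗ[W] P₂)
    (hd : ∀ x : P₁, α x - α' x ∈ 𝔠 • (⊤ : Submodule W P₂))
    (hα : ∀ x : P₁, F₂ (α x) = α (F₁ x)) (hα' : ∀ x : P₁, F₂ (α' x) = α' (F₁ x)) :
    α = α' := by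
  set UH := UHom b₁ F₁ F₂ hli hsp with hUH
  have hδ : Hc 𝔠 (α - α') := fun x => by simpa using hd x
  have hfix : UH (α - α') = α - α' := by
    rw [map_sub, hUH, UHom_apply, UHom_apply, (U_eq_iff b₁ F₁ F₂ hli hsp α).mpr hα,
      (U_eq_iff b₁ F₁ F₂ hli hsp α').mpr hα']
  have hit : ∀ k, (⇑UH)^[k] (α - α') = α - α' := fun k => Function.iterate_fixed hfix k
  have := iterate_eq_zero b₁ F₁ F₂ hli hsp 𝔠 K hK (α - α') hδ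
  rw [← hUH, hit] at this
  exact sub_eq_zero.mp this

end Groth.Agent.Lib.helper28.FLift
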