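import Mathlib

/-!
# Nilpotence of the Witt vector Frobenius on `W(𝔞)` (helper28)

If `p ^ m = 0` in `S` and `𝔞` is an ideal all of whose elements satisfy `a ^ N = 0`, then
`F ^ (m + N)` kills every Witt vector over `S` whose coefficients lie in `𝔞`.
-/

namespace Groth.Agent.Lib.helper28.FrobNil

open WittVector MvPolynomial

variable (p : ℕ) [hp : Fact p.Prime]

theorem constantCoeff_frobeniusPoly (n : ℕ) : constantCoeff (frobeniusPoly p n) = 0 := by
  have h := coeff_frobenius (p := p) (0 : WittVector p ℤ) n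
  rw [map_zero, WittVector.zero_coeff] at h
  have h2 : (WittVector.coeff (0 : WittVector p ℤ)) = (0 : ℕ → ℤ) := by
    funext i; exact WittVector.zero_coeff p ℤ i
  rw [h2, aeval_zero] at h
  simpa using h.symm

theorem constantCoeff_frobeniusPolyAux (n : ℕ) : constantCoeff (frobeniusPolyAux p n) = 0 := by
  have h := constantCoeff_frobeniusPoly p n
  rw [frobeniusPoly, map_add, map_mul, map_pow, constantCoeff_X, constantCoeff_C,
    zero_pow hp.out.ne_zero, zero_add] at h
  rcases mul_eq_zero.mp h with h | h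
  · exact absurd h (by exact_mod_cast hp.out.ne_zero)
  · exact h

omit hp in
theorem aeval_mem_of_constantCoeff_eq_zero {S : Type*} [CommRing S] (I : Ideal S) (x : ℕ → S)
    (hx : ∀ n, x n ∈ I) (f : MvPolynomial ℕ ℤ) (hf : constantCoeff f = 0) :
    aeval x f ∈ I := by
  rw [aeval_def, eval₂_eq]
  refine Ideal.sum_mem _ fun d hd => ?_
  have hd0 : d ≠ 0 := by
    rintro rfl
    rw [mem_support_iff] at hd
    exact hd (by simpa [constantCoeff_eq] using hf)
  obtain ⟨i, hi⟩ : ∃ i, d i ≠ 0 := by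
    by_contra hcon
    exact hd0 (Finsupp.ext fun i => by
      by_contra hi
      exact hcon ⟨i, hi⟩)
  refine Ideal.mul_mem_left _ _ ?_
  have hi' : i ∈ d.support := Finsupp.mem_support_iff.mpr hi
  rw [← Finset.mul_prod_erase _ _ hi']
  refine Ideal.mul_mem_right _ _ ?_
  obtain ⟨k, hk⟩ := Nat.exists_eq_succ_of_ne_zero hi
  rw [hk, pow_succ]
  exact Ideal.mul_mem_left _ _ (hx i)

variable {p}
variable {S : Type*} [CommRing S]

/-- One Frobenius step: coefficients in `I` go to coefficients in `J` as soon as `J` contains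
the `p`-th powers and the `p`-multiples of elements of `I`. -/
theorem frobenius_coeff_mem (I J : Ideal S) (h1 : ∀ a ∈ I, a ^ p ∈ J)
    (h2 : ∀ a ∈ I, (p : S) * a ∈ J) (x : WittVector p S) (hx : ∀ n, x.coeff n ∈ I) (n : ℕ) :
    (frobenius x).coeff n ∈ J := by
  rw [coeff_frobenius, frobeniusPoly, map_add, map_mul, map_pow, aeval_X, aeval_C]
  refine Ideal.add_mem _ (h1 _ (hx n)) ?_
  have := h2 _ (aeval_mem_of_constantCoeff_eq_zero I x.coeff hx _
    (constantCoeff_frobeniusPolyAux p n))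
  simpa using this

variable (p)

/-- The ideal generated by the `p ^ i * a ^ (p ^ j)` with `a ∈ I` and `i + j = k`. -/
def Ik (I : Ideal S) (k : ℕ) : Ideal S :=
  Ideal.span {y | ∃ a ∈ I, ∃ i j : ℕ, i + j = k ∧ y = (p : S) ^ i * a ^ (p ^ j)}

omit hp in
theorem le_Ik_zero (I : Ideal S) : I ≤ Ik p I 0 := by
  intro a ha
  refine Ideal.subset_span ⟨a, ha, 0, 0, rfl, by simp⟩

omit hp in
theorem p_mul_mem_Ik (I : Ideal S) (k : ℕ) : ∀ a ∈ Ik p I k, (p : S) * a ∈ Ik p I (k + 1) := by
  intro a ha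
  refine Submodule.span_induction (p := fun a _ => (p : S) * a ∈ Ik p I (k + 1)) ?_ ?_ ?_ ?_ ha
  · rintro y ⟨a, ha, i, j, hij, rfl⟩
    refine Ideal.subset_span ⟨a, ha, i + 1, j, by omega, by ring⟩
  · simp
  · intro u v _ _ hu hv
    rw [mul_add]; exact Ideal.add_mem _ hu hv
  · intro s u _ hu
    rw [smul_eq_mul, mul_left_comm]; exact Ideal.mul_mem_left _ _ hu

theorem pow_p_mem_Ik (I : Ideal S) (k : ℕ) : ∀ a ∈ Ik p I k, a ^ p ∈ Ik p I (k + 1) := by
  intro a ha
  refine Submodule.span_induction (p := fun a _ => a ^ p ∈ Ik p I (k + 1)) ?_ ?_ ?_ ?_ ha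
  · rintro y ⟨a, ha, i, j, hij, rfl⟩
    have : ((p : S) ^ i * a ^ (p ^ j)) ^ p
        = (p : S) ^ (i * p - i) * ((p : S) ^ i * a ^ (p ^ (j + 1))) := by
      rw [mul_pow, ← pow_mul, ← pow_mul, ← mul_assoc, ← pow_add, pow_succ]
      congr 2
      have : i ≤ i * p := Nat.le_mul_of_pos_right _ hp.out.pos
      omega
    rw [this]
    refine Ideal.mul_mem_left _ _ (Ideal.subset_span ⟨a, ha, i, j + 1, by omega, rfl⟩)
  · rw [zero_pow hp.out.ne_zero]; exact Ideal.zero_mem _
  · intro u v hu' _ hu hv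
    obtain ⟨r, hr⟩ := exists_add_pow_prime_eq hp.out u v
    rw [hr]
    refine Ideal.add_mem _ (Ideal.add_mem _ hu hv) ?_
    rw [mul_assoc, mul_assoc]
    have := p_mul_mem_Ik p I k u hu'
    rw [← mul_assoc]
    exact Ideal.mul_mem_right _ _ this
  · intro s u _ hu
    rw [smul_eq_mul, mul_pow]; exact Ideal.mul_mem_left _ _ hu

omit hp in
theorem Ik_eq_bot (I : Ideal S) (m N : ℕ) (hm : (p : S) ^ m = 0) (hN : ∀ a ∈ I, a ^ N = 0)
    (hp1 : 1 < p) : Ik p I (m + N) = ⊥ := by
  rw [Ik, Ideal.span_eq_bot]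
  rintro y ⟨a, ha, i, j, hij, rfl⟩
  by_cases hi : m ≤ i
  · rw [← Nat.sub_add_cancel hi, pow_add, hm, mul_zero, zero_mul]
  · have hj : N ≤ p ^ j := by
      have : j < p ^ j := Nat.lt_pow_self hp1
      omega
    rw [← Nat.sub_add_cancel hj, pow_add, hN a ha, mul_zero, mul_zero]

theorem iterate_frobenius_coeff_mem (I : Ideal S) (x : WittVector p S)
    (hx : ∀ n, x.coeff n ∈ I) (k : ℕ) :
    ∀ n, ((⇑(frobenius : WittVector p S →+* WittVector p S))^[k] x).coeff n ∈ Ik p I k := by
  induction k with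
  | zero => intro n; exact le_Ik_zero p I (hx n)
  | succ k ih =>
    intro n
    rw [Function.iterate_succ_apply']
    exact frobenius_coeff_mem _ _ (pow_p_mem_Ik p I k) (p_mul_mem_Ik p I k) _ ih n

/-- Frobenius is nilpotent on Witt vectors with coefficients in a bounded-nil ideal, when `p` is
nilpotent. -/
theorem iterate_frobenius_eq_zero (I : Ideal S) (m N : ℕ) (hm : (p : S) ^ m = 0)
    (hN : ∀ a ∈ I, a ^ N = 0) (x : WittVector p S) (hx : ∀ n, x.coeff n ∈ I) :
    (⇑(frobenius : WittVector p S →+* WittVector p S))^[m + N] x = 0 := by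
  ext n
  have := iterate_frobenius_coeff_mem p I x hx (m + N) n
  rw [Ik_eq_bot p I m N hm hN hp.out.one_lt] at this
  simpa using this

/-- Version for the kernel of `W(φ)`. -/
theorem iterate_frobenius_eq_zero_of_mem_ker {R : Type*} [CommRing R] (φ : S →+* R)
    (m N : ℕ) (hm : (p : S) ^ m = 0) (hN : ∀ a : S, φ a = 0 → a ^ N = 0)
    (x : WittVector p S) (hx : x ∈ RingHom.ker (WittVector.map (p := p) φ)) :
    (⇑(frobenius : WittVector p S →+* WittVector p S))^[m + N] x = 0 := by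
  refine iterate_frobenius_eq_zero p (RingHom.ker φ) m N hm (fun a ha => hN a ha) x fun n => ?_
  rw [RingHom.mem_ker] at hx ⊢
  have := congrArg (fun y => WittVector.coeff y n) hx
  simpa [WittVector.map_coeff] using this

end Groth.Agent.Lib.helper28.FrobNil
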