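import Groth.Prelude.Def_W4c6eohyperellchar2Gc
import Mathlib

/-!
# Basic computations in the explicit Dieudonné-type module `GcMod c k`
-/

set_option autoImplicit false

namespace Groth.Agent.Lib.helper28.Gc

open W4c6eohyperellchar2

variable (c : ℕ) (k : Type*) [Field k] [CharP k 2] [PerfectRing k 2]

omit [CharP k 2] [PerfectRing k 2] in
theorem coefX_X (n m : ℕ) :
    coefX (X c k n) m = if (m = n ∧ 1 ≤ m ∧ m ≤ c) then 1 else 0 := by
  unfold coefX X
  by_cases h : 1 ≤ m ∧ m ≤ c
  · rw [dif_pos h]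
    simp only
    by_cases h2 : m = n
    · rw [if_pos (by omega), if_pos ⟨h2, h⟩]
    · rw [if_neg (by omega), if_neg (fun h3 => h2 h3.1)]
  · rw [dif_neg h, if_neg (fun h3 => h h3.2)]

omit [CharP k 2] [PerfectRing k 2] in
theorem coefY_X (n m : ℕ) : coefY (X c k n) m = 0 := by
  unfold coefY X
  split_ifs <;> rfl

omit [CharP k 2] [PerfectRing k 2] in
theorem coefX_Y (n m : ℕ) : coefX (Y c k n) m = 0 := by
  unfold coefX Y
  split_ifs <;> rfl

omit [CharP k 2] [PerfectRing k 2] in
theorem coefY_Y (n m : ℕ) :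
    coefY (Y c k n) m = if (m = n ∧ 1 ≤ m ∧ m ≤ c) then 1 else 0 := by
  unfold coefY Y
  by_cases h : 1 ≤ m ∧ m ≤ c
  · rw [dif_pos h]
    simp only
    by_cases h2 : m = n
    · rw [if_pos (by omega), if_pos ⟨h2, h⟩]
    · rw [if_neg (by omega), if_neg (fun h3 => h2 h3.1)]
  · rw [dif_neg h, if_neg (fun h3 => h h3.2)]

omit [CharP k 2] [PerfectRing k 2] in
theorem F_X_even (n : ℕ) (hn : n ≤ c) (h : Even n) : F c k (X c k n) = X c k (n / 2) := by
  obtain ⟨r, rfl⟩ := h
  unfold F
  refine Prod.ext (funext fun i => ?_) (funext fun i => ?_)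
  · simp only [coefX_X]
    show _ = if i.val + 1 = (r + r) / 2 then (1 : k) else 0
    by_cases h1 : i.val + 1 = r
    · rw [if_pos (by omega), if_pos (by omega), one_pow]
    · rw [if_neg (by omega), if_neg (by omega)]
      simp
  · simp only [coefX_X]
    show _ = (0 : k)
    rw [if_neg (by omega)]
    simp

omit [CharP k 2] [PerfectRing k 2] in
theorem F_X_odd (n : ℕ) (hn : n ≤ c) (h : Odd n) :
    F c k (X c k n) = Y c k (c - (n - 1) / 2) := by
  obtain ⟨r, rfl⟩ := h
  unfold F
  refine Prod.ext (funext fun i => ?_) (funext fun i => ?_)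
  · simp only [coefX_X]
    show _ = (0 : k)
    rw [if_neg (by omega)]
    simp
  · simp only [coefX_X]
    show _ = if i.val + 1 = c - (2 * r + 1 - 1) / 2 then (1 : k) else 0
    have hi := i.2
    by_cases h1 : i.val + 1 = c - r
    · rw [if_pos (by omega), if_pos (by omega), one_pow]
    · rw [if_neg (by omega), if_neg (by omega)]
      simp

omit [CharP k 2] [PerfectRing k 2] in
theorem F_Y (n : ℕ) : F c k (Y c k n) = 0 := by
  unfold F
  refine Prod.ext (funext fun i => ?_) (funext fun i => ?_)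
  · simp only [coefX_Y]; simp
  · simp only [coefX_Y]; simp

theorem V_Y (n : ℕ) : V c k (Y c k n) = Y c k (2 * n) := by
  unfold V
  refine Prod.ext rfl (funext fun i => ?_)
  simp only [coefY_Y, coefX_Y]
  show _ = if i.val + 1 = 2 * n then (1 : k) else 0
  have hi := i.2
  by_cases h1 : i.val + 1 = 2 * n
  · rw [if_pos (by omega), if_pos (by omega), if_pos h1, map_one]
  · rw [if_neg h1]
    by_cases h2 : (i.val + 1) % 2 = 0
    · rw [if_pos h2, if_neg (by omega), map_zero]
    · rw [if_neg h2, map_zero]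

theorem V_X (n : ℕ) (hn : n ≤ c) (h : c < 2 * n) :
    V c k (X c k n) = Y c k (2 * c - 2 * n + 1) := by
  unfold V
  refine Prod.ext rfl (funext fun i => ?_)
  simp only [coefY_X, coefX_X]
  show _ = if i.val + 1 = 2 * c - 2 * n + 1 then (1 : k) else 0
  have hi := i.2
  by_cases h1 : i.val + 1 = 2 * c - 2 * n + 1
  · rw [if_pos h1, if_neg (by omega), if_pos (by omega), map_one]
  · rw [if_neg h1]
    by_cases h2 : (i.val + 1) % 2 = 0
    · rw [if_pos h2, map_zero]
    · rw [if_neg h2, if_neg (by omega), map_zero]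

omit [CharP k 2] [PerfectRing k 2] in
theorem F_iterate_X (a l : ℕ) (h : 2 ^ a * l ≤ c) :
    (F c k)^[a] (X c k (2 ^ a * l)) = X c k l := by
  induction a with
  | zero => simp
  | succ a ih =>
    rw [Function.iterate_succ_apply]
    have h1 : 2 ^ (a + 1) * l = 2 * (2 ^ a * l) := by ring
    rw [h1] at h ⊢
    rw [F_X_even c k _ h ⟨2 ^ a * l, by ring⟩]
    have h2 : 2 * (2 ^ a * l) / 2 = 2 ^ a * l := by omega
    rw [h2]
    exact ih (by omega)

theorem V_iterate_Y (n m : ℕ) : (V c k)^[n] (Y c k m) = Y c k (2 ^ n * m) := by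
  induction n generalizing m with
  | zero => simp
  | succ n ih =>
    rw [Function.iterate_succ_apply, V_Y, ih]
    congr 1
    ring

omit [CharP k 2] [PerfectRing k 2] in
theorem eq_sum_basis (v : GcMod c k) :
    v = ∑ i : Fin c, (v.1 i • X c k (i.val + 1)) + ∑ i : Fin c, (v.2 i • Y c k (i.val + 1)) := by
  refine Prod.ext (funext fun j => ?_) (funext fun j => ?_)
  · simp only [Prod.fst_add, Prod.fst_sum, Prod.smul_fst, Pi.add_apply, Finset.sum_apply,
      Pi.smul_apply, X, Y, Pi.zero_apply, smul_eq_mul, mul_zero, Finset.sum_const_zero, add_zero]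
    rw [Finset.sum_eq_single j]
    · simp
    · intro b _ hb
      rw [if_neg, mul_zero]
      intro h
      apply hb
      exact Fin.ext (by omega)
    · intro h; exact absurd (Finset.mem_univ j) h
  · simp only [Prod.snd_add, Prod.snd_sum, Prod.smul_snd, Pi.add_apply, Finset.sum_apply,
      Pi.smul_apply, X, Y, Pi.zero_apply, smul_eq_mul, mul_zero, Finset.sum_const_zero, zero_add]
    rw [Finset.sum_eq_single j]
    · simp
    · intro b _ hb
      rw [if_neg, mul_zero]
      intro h
      apply hb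
      exact Fin.ext (by omega)
    · intro h; exact absurd (Finset.mem_univ j) h

omit [CharP k 2] [PerfectRing k 2] in
theorem eq_top_of_basis_mem (N : Submodule k (GcMod c k))
    (hX : ∀ i : ℕ, 1 ≤ i → i ≤ c → X c k i ∈ N) (hY : ∀ i : ℕ, 1 ≤ i → i ≤ c → Y c k i ∈ N) :
    N = ⊤ := by
  rw [eq_top_iff]
  intro v _
  rw [eq_sum_basis c k v]
  refine N.add_mem (N.sum_mem fun i _ => N.smul_mem _ (hX _ (by omega) (by have := i.2; omega)))
    (N.sum_mem fun i _ => N.smul_mem _ (hY _ (by omega) (by have := i.2; omega)))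

end Groth.Agent.Lib.helper28.Gc
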