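import Mathlib
import Groth.Agent.Lib.helper28.ProjLim

/-!
# Lifting a decomposition modulo `I` of a finite projective module over an `I`-adically complete ring

`exists_normal_decomp`: `W` `I`-adically complete, `P` finite projective, `Q ⊔ C = ⊤`, `Q ⊓ C = I • ⊤`
⇒ `∃ L T, IsCompl L T ∧ Q = L ⊔ I • T`.
-/

namespace Groth.Agent.Lib.helper28.IdemLift

open Submodule Groth.Agent.Lib.helper28.ProjLim

variable {W : Type*} [CommRing W] (I : Ideal W)
variable {P : Type*} [AddCommGroup P] [Module W P]

/-- endomorphisms with image in `I^j P` -/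
def InN (j : ℕ) (f : Module.End W P) : Prop := ∀ x, f x ∈ (I ^ j • ⊤ : Submodule W P)

variable {I}

theorem InN.mono {i j : ℕ} (h : i ≤ j) {f : Module.End W P} (hf : InN I j f) : InN I i f :=
  fun x => Submodule.smul_mono_left (Ideal.pow_le_pow_right h) (hf x)

theorem InN.add {j : ℕ} {f g : Module.End W P} (hf : InN I j f) (hg : InN I j g) :
    InN I j (f + g) := fun x => Submodule.add_mem _ (hf x) (hg x)

theorem InN.sub {j : ℕ} {f g : Module.End W P} (hf : InN I j f) (hg : InN I j g) :
    InN I j (f - g) := fun x => Submodule.sub_mem _ (hf x) (hg x)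

theorem InN.neg {j : ℕ} {f : Module.End W P} (hf : InN I j f) :
    InN I j (-f) := fun x => Submodule.neg_mem _ (hf x)

theorem InN.mul_left {j : ℕ} {f : Module.End W P} (hf : InN I j f) (g : Module.End W P) :
    InN I j (g * f) := fun x => apply_mem_smul_top (I ^ j) g (hf x)

theorem InN.mul_right {j : ℕ} {f : Module.End W P} (hf : InN I j f) (g : Module.End W P) :
    InN I j (f * g) := fun x => hf (g x)

theorem InN.mul {i j : ℕ} {f g : Module.End W P} (hf : InN I i f) (hg : InN I j g) :
    InN I (i + j) (f * g) := by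
  intro x
  have h1 : (f * g) x ∈ (I ^ j • ⊤ : Submodule W P).map f := ⟨g x, hg x, rfl⟩
  rw [Submodule.map_smul''] at h1
  have h2 : (⊤ : Submodule W P).map f ≤ I ^ i • ⊤ := by
    rintro _ ⟨y, -, rfl⟩; exact hf y
  have h3 := Submodule.smul_mono (le_refl (I ^ j)) h2 h1
  rwa [← Submodule.mul_smul, ← pow_add, add_comm] at h3

variable (I)

theorem end_complete [IsPrecomplete I W] [Module.Finite W P] [Module.Projective W P]
    (f : ℕ → Module.End W P) (hf : ∀ n, InN I n (f (n + 1) - f n)) :
    ∃ g : Module.End W P, ∀ n, InN I n (g - f n) := by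
  obtain ⟨k, r, hr⟩ := Module.Finite.exists_fin' W P
  obtain ⟨i, hi⟩ := Module.projective_lifting_property r LinearMap.id hr
  have hri : ∀ x, r (i x) = x := fun x => LinearMap.congr_fun hi x
  have hlim : ∀ a b : Fin k, ∃ M : W, ∀ n,
      (i (f n (r (Pi.single b 1)))) a - M ∈ I ^ n := by
    intro a b
    have hc : AdicCompletion.IsAdicCauchy I W (fun n => (i (f n (r (Pi.single b 1)))) a) := by
      rw [AdicCompletion.isAdicCauchy_iff]
      intro n
      refine SModEq.symm ?_
      rw [SModEq.sub_mem, smul_eq_mul, Ideal.mul_top]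
      have h1 := apply_mem_smul_top (I ^ n) i (hf n (r (Pi.single b 1)))
      have h2 := (mem_smul_top_pi (I ^ n) _).1 h1 a
      simpa using h2
    obtain ⟨M, hM⟩ := IsPrecomplete.prec (I := I) inferInstance (fun {m n} hmn => hc hmn)
    refine ⟨M, fun n => ?_⟩
    have := hM n
    rwa [SModEq.sub_mem, smul_eq_mul, Ideal.mul_top] at this
  choose M hM using hlim
  let g' : (Fin k → W) →ₗ[W] (Fin k → W) :=
    (Pi.basisFun W (Fin k)).constr W (fun b => fun a => M a b)
  have hg'e : ∀ b, g' (Pi.single b 1) = fun a => M a b := by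
    intro b
    have := (Pi.basisFun W (Fin k)).constr_basis W (fun b => fun a => M a b) b
    rwa [Pi.basisFun_apply] at this
  have hg' : ∀ n y, g' y - i (f n (r y)) ∈ (I ^ n • ⊤ : Submodule W (Fin k → W)) := by
    intro n y
    have e : g' y - i (f n (r y)) =
        ∑ b, y b • ((g' - i ∘ₗ f n ∘ₗ r) (Pi.single b 1)) := by
      have := LinearMap.pi_apply_eq_sum_univ (g' - i ∘ₗ f n ∘ₗ r) y
      rw [LinearMap.sub_apply, LinearMap.comp_apply, LinearMap.comp_apply] at this
      rw [this]
      refine Finset.sum_congr rfl fun b _ => ?_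
      congr 2
      ext a
      simp [Pi.single_apply, eq_comm]
    rw [e]
    refine Submodule.sum_mem _ fun b _ => Submodule.smul_mem _ _ ?_
    rw [mem_smul_top_pi]
    intro a
    rw [LinearMap.sub_apply, hg'e, LinearMap.comp_apply, LinearMap.comp_apply, Pi.sub_apply,
      ← neg_sub]
    exact (Ideal.neg_mem_iff _).2 (hM a b n)
  refine ⟨r ∘ₗ g' ∘ₗ i, fun n x => ?_⟩
  have e : (r ∘ₗ g' ∘ₗ i - f n) x = r (g' (i x) - i (f n (r (i x)))) := by
    rw [LinearMap.sub_apply, LinearMap.comp_apply, LinearMap.comp_apply, map_sub, hri, hri]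
  rw [e]
  exact apply_mem_smul_top (I ^ n) r (hg' n (i x))

theorem separated [IsHausdorff I W] [Module.Finite W P] [Module.Projective W P]
    (x : P) (hx : ∀ n, x ∈ (I ^ n • ⊤ : Submodule W P)) : x = 0 := by
  obtain ⟨k, r, hr⟩ := Module.Finite.exists_fin' W P
  obtain ⟨i, hi⟩ := Module.projective_lifting_property r LinearMap.id hr
  have hri : ∀ x, r (i x) = x := fun x => LinearMap.congr_fun hi x
  have : i x = 0 := by
    ext a
    apply IsHausdorff.haus' (I := I)
    intro n
    rw [SModEq.zero, smul_eq_mul, Ideal.mul_top]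
    exact (mem_smul_top_pi (I ^ n) _).1 (apply_mem_smul_top (I ^ n) i (hx n)) a
  rw [← hri x, this, map_zero]

theorem exists_idempotent [IsAdicComplete I W] [Module.Finite W P] [Module.Projective W P]
    (e0 : Module.End W P) (h0 : InN I 1 (e0 * e0 - e0)) :
    ∃ e : Module.End W P, IsIdempotentElem e ∧ InN I 1 (e - e0) := by
  let e : ℕ → Module.End W P :=
    fun n => Nat.rec e0 (fun _ a => 3 * (a * a) - 2 * (a * a * a)) n
  have hes : ∀ n, e (n + 1) = 3 * (e n * e n) - 2 * (e n * e n * e n) := fun n => rfl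
  have he0 : e 0 = e0 := rfl
  have hδ : ∀ n, InN I (n + 1) (e n * e n - e n) := by
    intro n
    induction n with
    | zero => exact h0
    | succ n ih =>
      have id2 : e (n + 1) * e (n + 1) - e (n + 1) =
          (e n * e n - e n) * (e n * e n - e n) * (4 * (e n * e n - e n) - 3) := by
        rw [hes]; noncomm_ring
      rw [id2]
      exact ((ih.mul ih).mul_right _).mono (by omega)
  have hdiff : ∀ n, InN I (n + 1) (e (n + 1) - e n) := by
    intro n
    have id1 : e (n + 1) - e n = (e n * e n - e n) * (1 - 2 * e n) := by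
      rw [hes]; noncomm_ring
    rw [id1]
    exact (hδ n).mul_right _
  obtain ⟨g, hg⟩ := end_complete I e (fun n => (hdiff n).mono (Nat.le_succ n))
  refine ⟨g, ?_, ?_⟩
  · have : g * g - g = 0 := by
      ext x
      apply separated I
      intro n
      have id3 : g * g - g =
          (g - e n) * g + e n * (g - e n) - (g - e n) + (e n * e n - e n) := by noncomm_ring
      rw [id3]
      exact ((((hg n).mul_right _).add ((hg n).mul_left _)).sub (hg n)).add
        ((hδ n).mono (Nat.le_succ n)) x
    exact sub_eq_zero.1 this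
  · have : g - e0 = (g - e 1) + (e 1 - e 0) := by rw [he0]; abel
    rw [this]
    exact (hg 1).add (hdiff 0)

theorem exists_normal_decomp [IsAdicComplete I W] [Module.Finite W P] [Module.Projective W P]
    (Q C : Submodule W P) (h1 : Q ⊔ C = ⊤) (h2 : Q ⊓ C = I • ⊤) :
    ∃ L T : Submodule W P, IsCompl L T ∧ Q = L ⊔ I • T := by
  let β : (Q × C) →ₗ[W] P := Q.subtype.coprod C.subtype
  have hβ : Function.Surjective β := by
    rw [← LinearMap.range_eq_top, LinearMap.range_coprod, Submodule.range_subtype,
      Submodule.range_subtype, h1]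
  obtain ⟨s, hs⟩ := Module.projective_lifting_property β LinearMap.id hβ
  let e0 : Module.End W P := Q.subtype ∘ₗ LinearMap.fst W Q C ∘ₗ s
  have he0 : ∀ x, e0 x = ((s x).1 : P) := fun x => rfl
  have ha : ∀ x, e0 x ∈ Q := fun x => ((s x).1).2
  have hIQ : (I • ⊤ : Submodule W P) ≤ Q := h2 ▸ inf_le_left
  have hb : ∀ x ∈ Q, x - e0 x ∈ (I • ⊤ : Submodule W P) := by
    intro x hx
    have hx' : ((s x).1 : P) + ((s x).2 : P) = x := LinearMap.congr_fun hs x
    have e1 : x - e0 x = ((s x).2 : P) := by rw [he0]; nth_rw 1 [← hx']; abel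
    rw [e1, ← h2]
    refine ⟨?_, (s x).2.2⟩
    rw [← e1]
    exact Q.sub_mem hx (ha x)
  have h0 : InN I 1 (e0 * e0 - e0) := by
    intro x
    rw [pow_one]
    have := hb (e0 x) (ha x)
    rw [← neg_sub, LinearMap.neg_apply]
    exact Submodule.neg_mem _ this
  obtain ⟨e, he, hee0⟩ := exists_idempotent I e0 h0
  have hee : ∀ x, e (e x) = e x := fun x => LinearMap.congr_fun he.eq x
  refine ⟨LinearMap.range e, LinearMap.ker e, LinearMap.IsIdempotentElem.isCompl he, ?_⟩
  apply le_antisymm
  · intro x hx
    have hy : x - e x ∈ (I • ⊤ : Submodule W P) := by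
      have e2 : x - e x = (x - e0 x) - (e - e0) x := by rw [LinearMap.sub_apply]; abel
      rw [e2]
      have := hee0 x
      rw [pow_one] at this
      exact Submodule.sub_mem _ (hb x hx) this
    have hy2 : x - e x ∈ (I • LinearMap.ker e : Submodule W P) := by
      let e' : P →ₗ[W] P := LinearMap.id - e
      have he' : ∀ z, e' z = z - e z := fun z => rfl
      have h3 : e' (x - e x) ∈ (I • ⊤ : Submodule W P).map e' :=
        ⟨_, hy, rfl⟩
      rw [Submodule.map_smul''] at h3
      have h4 : (⊤ : Submodule W P).map e' ≤ LinearMap.ker e := by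
        rintro _ ⟨z, -, rfl⟩
        rw [LinearMap.mem_ker, he', map_sub, hee, sub_self]
      have h5 := Submodule.smul_mono (le_refl I) h4 h3
      have e3 : e' (x - e x) = x - e x := by
        rw [he', map_sub, hee, sub_self, sub_zero]
      rwa [e3] at h5
    have e4 : x = e x + (x - e x) := by abel
    rw [e4]
    exact Submodule.add_mem_sup ⟨x, rfl⟩ hy2
  · refine sup_le ?_ ((Submodule.smul_mono (le_refl I) le_top).trans hIQ)
    rintro _ ⟨x, rfl⟩
    have e5 : e x = e0 x + (e - e0) x := by rw [LinearMap.sub_apply]; abel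
    rw [e5]
    have := hee0 x
    rw [pow_one] at this
    exact Q.add_mem (ha x) (hIQ this)

end Groth.Agent.Lib.helper28.IdemLift
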