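import Mathlib
import Groth.Prelude.Def_KZero

/-!
# helper28: basic API for `KZero.K0sub` of module categories

`cl_ses'` (additivity on short exact sequences given by linear maps), `cl_zero'`, `cl_iso'`,
`cl_prod'`, `cl_pi_fin` (`[Fin n → R] = n • [R]`), `exists_rep` (classes generate) and `lift`.
-/

set_option autoImplicit false
universe u

namespace Groth.Agent.Lib.helper28.KZeroLib

open CategoryTheory KZero

variable {R : Type u} [CommRing R] (P : ObjectProperty (ModuleCat.{u} R))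

lemma cl_ses (S : ShortComplex (ModuleCat.{u} R)) (hS : S.ShortExact) (h1 : P S.X₁) (h2 : P S.X₂)
    (h3 : P S.X₃) : clSub P S.X₂ = clSub P S.X₁ + clSub P S.X₃ := by
  unfold clSub
  rw [dif_pos h1, dif_pos h2, dif_pos h3]
  rw [← sub_eq_zero, ← sub_sub, ← QuotientAddGroup.mk_sub, ← QuotientAddGroup.mk_sub,
    QuotientAddGroup.eq_zero_iff]
  exact AddSubgroup.subset_closure ⟨S, h1, h2, h3, hS, rfl⟩

lemma cl_ses' {X₁ X₂ X₃ : Type u} [AddCommGroup X₁] [Module R X₁] [AddCommGroup X₂] [Module R X₂]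
    [AddCommGroup X₃] [Module R X₃] (f : X₁ →ₗ[R] X₂) (g : X₂ →ₗ[R] X₃)
    (hf : Function.Injective f) (hg : Function.Surjective g) (hfg : Function.Exact f g)
    (h1 : P (ModuleCat.of R X₁)) (h2 : P (ModuleCat.of R X₂)) (h3 : P (ModuleCat.of R X₃)) :
    clSub P (ModuleCat.of R X₂) = clSub P (ModuleCat.of R X₁) + clSub P (ModuleCat.of R X₃) := by
  have hgf : ModuleCat.ofHom f ≫ ModuleCat.ofHom g = 0 := by
    ext x
    exact hfg.apply_apply_eq_zero x
  exact cl_ses P (ShortComplex.mk (ModuleCat.ofHom f) (ModuleCat.ofHom g) hgf)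
    (ModuleCat.shortComplex_shortExact _ hfg hf hg) h1 h2 h3

lemma cl_zero' {X : Type u} [AddCommGroup X] [Module R X] [Subsingleton X]
    (h : P (ModuleCat.of R X)) : clSub P (ModuleCat.of R X) = 0 := by
  have := cl_ses' P (0 : X →ₗ[R] X) (0 : X →ₗ[R] X)
    (fun a b _ => Subsingleton.elim a b) (fun b => ⟨0, Subsingleton.elim _ _⟩)
    (fun y => ⟨fun _ => ⟨0, Subsingleton.elim _ _⟩, fun _ => rfl⟩) h h h
  exact left_eq_add.mp this

lemma cl_iso' {X Y : Type u} [AddCommGroup X] [Module R X] [AddCommGroup Y] [Module R Y]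
    (e : X ≃ₗ[R] Y) (hX : P (ModuleCat.of R X)) (hY : P (ModuleCat.of R Y))
    (h0 : P (ModuleCat.of R PUnit.{u + 1})) :
    clSub P (ModuleCat.of R X) = clSub P (ModuleCat.of R Y) := by
  have := cl_ses' P (e : X →ₗ[R] Y) (0 : Y →ₗ[R] PUnit.{u + 1}) e.injective
    (fun b => ⟨0, Subsingleton.elim _ _⟩)
    (fun y => ⟨fun _ => ⟨e.symm y, e.apply_symm_apply y⟩, fun _ => rfl⟩) hX hY h0
  rw [this, cl_zero' P h0, add_zero]

lemma cl_prod' {X Y : Type u} [AddCommGroup X] [Module R X] [AddCommGroup Y] [Module R Y]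
    (hX : P (ModuleCat.of R X)) (hY : P (ModuleCat.of R Y)) (hXY : P (ModuleCat.of R (X × Y))) :
    clSub P (ModuleCat.of R (X × Y)) = clSub P (ModuleCat.of R X) + clSub P (ModuleCat.of R Y) :=
  cl_ses' P (LinearMap.inl R X Y) (LinearMap.snd R X Y) LinearMap.inl_injective
    LinearMap.snd_surjective .inl_snd hX hXY hY

lemma cl_pi_fin (hP : ∀ n : ℕ, P (ModuleCat.of R (Fin n → R))) (hR : P (ModuleCat.of R R))
    (hprod : ∀ n : ℕ, P (ModuleCat.of R (R × (Fin n → R))))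
    (h0 : P (ModuleCat.of R PUnit.{u + 1})) (n : ℕ) :
    clSub P (ModuleCat.of R (Fin n → R)) = n • clSub P (ModuleCat.of R R) := by
  induction n with
  | zero => rw [zero_smul]; exact cl_zero' P (hP 0)
  | succ n ih =>
    rw [← cl_iso' P (Fin.consLinearEquiv R (fun _ : Fin (n + 1) => R)) (hprod n) (hP (n + 1)) h0,
      cl_prod' P hR (hP n) (hprod n), ih, succ_nsmul, add_comm]

lemma exists_rep (x : K0sub P) :
    x ∈ AddSubgroup.closure (Set.range (fun M : Subtype P => clSub P M.1)) := by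
  obtain ⟨y, rfl⟩ := QuotientAddGroup.mk_surjective x
  induction y using FreeAbelianGroup.induction_on with
  | zero => exact zero_mem _
  | of M =>
    apply AddSubgroup.subset_closure
    refine ⟨M, ?_⟩
    simp only [clSub]
    rw [dif_pos M.2]
  | neg M h => exact neg_mem h
  | add a b ha hb => exact add_mem ha hb

/-- an additive invariant induces a homomorphism out of `K0sub` -/
noncomputable def lift {G : Type*} [AddCommGroup G] (φ : Subtype P → G)
    (hφ : ∀ (S : ShortComplex (ModuleCat.{u} R)) (h₁ : P S.X₁) (h₂ : P S.X₂) (h₃ : P S.X₃),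
      S.ShortExact → φ ⟨S.X₂, h₂⟩ = φ ⟨S.X₁, h₁⟩ + φ ⟨S.X₃, h₃⟩) : K0sub P →+ G :=
  QuotientAddGroup.lift _ (FreeAbelianGroup.lift φ) (by
    unfold relSub
    rw [AddSubgroup.closure_le]
    rintro x ⟨S, h1, h2, h3, hS, rfl⟩
    simp only [SetLike.mem_coe, AddMonoidHom.mem_ker, map_sub, FreeAbelianGroup.lift_apply_of]
    rw [hφ S h1 h2 h3 hS]
    abel)

lemma lift_cl {G : Type*} [AddCommGroup G] (φ : Subtype P → G)
    (hφ : ∀ (S : ShortComplex (ModuleCat.{u} R)) (h₁ : P S.X₁) (h₂ : P S.X₂) (h₃ : P S.X₃),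
      S.ShortExact → φ ⟨S.X₂, h₂⟩ = φ ⟨S.X₁, h₁⟩ + φ ⟨S.X₃, h₃⟩) (M : ModuleCat.{u} R) (hM : P M) :
    lift P φ hφ (clSub P M) = φ ⟨M, hM⟩ := by
  unfold clSub lift
  rw [dif_pos hM]
  simp

end Groth.Agent.Lib.helper28.KZeroLib
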