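import Mathlib
import Groth.Agent.S8773

/-!
# Comparison of pure projective / pure injective resolutions (helper28)

Concrete form `UEx` / `UExCo` of "universally exact (co)augmented complex", derived from the
`QuasiIso` after-tensoring hypothesis (`uex_of_quasiIso`, `uexco_of_quasiIso`), and the
comparison theorems `exists_lift`, `exists_homotopy`, `exists_desc`, `exists_cohomotopy`.
-/

set_option autoImplicit false
universe u
open CategoryTheory
open scoped TensorProduct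

namespace Groth.Agent.Lib.helper28.PureRes


variable {R : Type u} [CommRing R]

/-- pure projective lifting property -/
def PProj (R : Type u) [CommRing R] (X : Type u) [AddCommGroup X] [Module R X] : Prop :=
  ∀ ⦃L T : Type u⦄ [AddCommGroup L] [Module R L] [AddCommGroup T] [Module R T] (g : L →ₗ[R] T),
    Function.Surjective g → CAlgX.UniversallyInjective R (LinearMap.ker g).subtype →
    ∀ φ : X →ₗ[R] T, ∃ ψ : X →ₗ[R] L, g ∘ₗ ψ = φ

/-- pure injective extension property -/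
def PInj (R : Type u) [CommRing R] (X : Type u) [AddCommGroup X] [Module R X] : Prop :=
  ∀ ⦃K L : Type u⦄ [AddCommGroup K] [Module R K] [AddCommGroup L] [Module R L] (g : K →ₗ[R] L),
    CAlgX.UniversallyInjective R g → ∀ φ : K →ₗ[R] X, ∃ ψ : L →ₗ[R] X, ψ ∘ₗ g = φ

theorem lift_step {X Y Z W : Type u} [AddCommGroup X] [Module R X] [AddCommGroup Y] [Module R Y]
    [AddCommGroup Z] [Module R Z] [AddCommGroup W] [Module R W]
    (hX : PProj R X) (a : Y →ₗ[R] Z) (b : Z →ₗ[R] W)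
    (hab : Function.Exact a b) (hker : CAlgX.UniversallyInjective R (LinearMap.ker a).subtype)
    (φ : X →ₗ[R] Z) (hφ : b ∘ₗ φ = 0) : ∃ ψ : X →ₗ[R] Y, a ∘ₗ ψ = φ := by
  have hmem : ∀ x, φ x ∈ LinearMap.range a := by
    intro x
    have : b (φ x) = 0 := LinearMap.congr_fun hφ x
    exact (hab (φ x)).mp this
  have hk : CAlgX.UniversallyInjective R (LinearMap.ker a.rangeRestrict).subtype := by
    rw [LinearMap.ker_rangeRestrict]; exact hker
  obtain ⟨ψ, hψ⟩ := hX a.rangeRestrict a.surjective_rangeRestrict hk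
    (φ.codRestrict (LinearMap.range a) hmem)
  refine ⟨ψ, ?_⟩
  ext x
  have := congrArg Subtype.val (LinearMap.congr_fun hψ x)
  simpa using this

theorem ext_step {X Y Z W : Type u} [AddCommGroup X] [Module R X] [AddCommGroup Y] [Module R Y]
    [AddCommGroup Z] [Module R Z] [AddCommGroup W] [Module R W]
    (hX : PInj R X) (a : W →ₗ[R] Z) (b : Z →ₗ[R] Y)
    (hab : Function.Exact a b) (hr : CAlgX.UniversallyInjective R (LinearMap.range b).subtype)
    (φ : Z →ₗ[R] X) (hφ : φ ∘ₗ a = 0) : ∃ ψ : Y →ₗ[R] X, ψ ∘ₗ b = φ := by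
  have hle : LinearMap.ker b ≤ LinearMap.ker φ := by
    intro z hz
    obtain ⟨w, rfl⟩ := (hab z).mp hz
    exact LinearMap.congr_fun hφ w
  let φ' : LinearMap.range b →ₗ[R] X :=
    ((LinearMap.ker b).liftQ φ hle) ∘ₗ (b.quotKerEquivRange).symm.toLinearMap
  obtain ⟨ψ, hψ⟩ := hX (LinearMap.range b).subtype hr φ'
  refine ⟨ψ, ?_⟩
  ext z
  have h1 := LinearMap.congr_fun hψ ⟨b z, z, rfl⟩
  have h2 : (b.quotKerEquivRange).symm ⟨b z, z, rfl⟩ = Submodule.Quotient.mk z := by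
    rw [LinearEquiv.symm_apply_eq]
    ext
    simp
  simp only [LinearMap.coe_comp, Function.comp_apply, Submodule.subtype_apply, φ',
    LinearEquiv.coe_coe, h2, Submodule.liftQ_apply] at h1
  simpa using h1

theorem exact_of_rTensor_self {L M N : Type u} [AddCommGroup L] [Module R L] [AddCommGroup M]
    [Module R M] [AddCommGroup N] [Module R N] (f : L →ₗ[R] M) (g : M →ₗ[R] N)
    (h : Function.Exact (f.rTensor R) (g.rTensor R)) : Function.Exact f g := by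
  refine (Function.Exact.iff_of_ladder_linearEquiv (e₁ := TensorProduct.rid R L)
    (e₂ := TensorProduct.rid R M) (e₃ := TensorProduct.rid R N) ?_ ?_).mpr h
  · ext x; simp
  · ext x; simp

theorem surjective_of_rTensor_self {M N : Type u} [AddCommGroup M]
    [Module R M] [AddCommGroup N] [Module R N] (g : M →ₗ[R] N)
    (h : Function.Surjective (g.rTensor R)) : Function.Surjective g := by
  intro y
  obtain ⟨w, hw⟩ := h (y ⊗ₜ 1)
  refine ⟨TensorProduct.rid R M w, ?_⟩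
  have h1 : g ∘ₗ (TensorProduct.rid R M).toLinearMap =
      (TensorProduct.rid R N).toLinearMap ∘ₗ g.rTensor R := by
    ext x; simp
  have := LinearMap.congr_fun h1 w
  simp only [LinearMap.coe_comp, LinearEquiv.coe_coe, Function.comp_apply] at this
  rw [this, hw]; simp


theorem quasiIsoAt_zero_iff (K L : ChainComplex (ModuleCat.{u} R) ℕ) (φ : K ⟶ L) (hL : L.d 1 0 = 0) :
    QuasiIsoAt φ 0 ↔ Function.Exact (K.d 1 0).hom (φ.f 0).hom ∧ Function.Surjective (φ.f 0).hom := by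
  rw [ChainComplex.quasiIsoAt₀_iff, ShortComplex.quasiIso_iff_of_zeros' _ (K.shape 0 0 (by simp)) hL
    (L.shape 0 0 (by simp)), ShortComplex.ShortExact.moduleCat_exact_iff_function_exact,
    ModuleCat.epi_iff_surjective]
  rfl

theorem quasiIsoAt_succ_iff (K L : ChainComplex (ModuleCat.{u} R) ℕ) (φ : K ⟶ L) (n : ℕ)
    (hL : Limits.IsZero (L.X (n+1))) :
    QuasiIsoAt φ (n+1) ↔ Function.Exact (K.d (n+2) (n+1)).hom (K.d (n+1) n).hom := by
  rw [quasiIsoAt_iff_exactAt' _ _ (HomologicalComplex.ExactAt.of_isZero hL),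
    HomologicalComplex.exactAt_iff' _ (n+2) (n+1) n (by simp) (by simp),
    ShortComplex.ShortExact.moduleCat_exact_iff_function_exact]
  rfl


/-- Universally exact augmented chain complex, concretely. -/
structure UEx (N' : ChainComplex (ModuleCat.{u} R) ℕ) {N : ModuleCat.{u} R}
    (ε : N' ⟶ (ChainComplex.single₀ (ModuleCat.{u} R)).obj N) : Prop where
  surj : Function.Surjective (ε.f 0).hom
  ex0 : Function.Exact (N'.d 1 0).hom (ε.f 0).hom
  exS : ∀ n, Function.Exact (N'.d (n+2) (n+1)).hom (N'.d (n+1) n).hom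
  ui : ∀ n, CAlgX.UniversallyInjective R (LinearMap.range (N'.d (n+1) n).hom).subtype

theorem uex_of_quasiIso (N' : ChainComplex (ModuleCat.{u} R) ℕ) {N : ModuleCat.{u} R}
    (ε : N' ⟶ (ChainComplex.single₀ (ModuleCat.{u} R)).obj N)
    (hN' : ∀ T : ModuleCat.{u} R,
      QuasiIso (((MonoidalCategory.tensorRight T).mapHomologicalComplex (ComplexShape.down ℕ)).map ε)) :
    UEx N' ε := by
  -- tensored exactness in positive degrees
  have hS : ∀ (n : ℕ) (Q : Type u) [AddCommGroup Q] [Module R Q],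
      Function.Exact ((N'.d (n+2) (n+1)).hom.rTensor Q) ((N'.d (n+1) n).hom.rTensor Q) := by
    intro n Q _ _
    have hq := (hN' (ModuleCat.of R Q)).quasiIsoAt (n+1)
    rw [quasiIsoAt_succ_iff] at hq
    · exact hq
    · exact Functor.map_isZero (MonoidalCategory.tensorRight (ModuleCat.of R Q))
        (HomologicalComplex.isZero_single_obj_X (ComplexShape.down ℕ) 0 N (n+1) (by simp))
  have h0 : ∀ (Q : Type u) [AddCommGroup Q] [Module R Q],
      Function.Exact ((N'.d 1 0).hom.rTensor Q) ((ε.f 0).hom.rTensor Q) ∧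
      Function.Surjective ((ε.f 0).hom.rTensor Q) := by
    intro Q _ _
    have hq := (hN' (ModuleCat.of R Q)).quasiIsoAt 0
    rw [quasiIsoAt_zero_iff] at hq
    · exact hq
    · exact (MonoidalCategory.tensorRight (ModuleCat.of R Q)).map_zero _ _
  refine ⟨?_, ?_, ?_, ?_⟩
  · exact surjective_of_rTensor_self _ (h0 R).2
  · exact exact_of_rTensor_self _ _ (h0 R).1
  · intro n
    exact exact_of_rTensor_self _ _ (hS n R)
  · intro n
    exact Groth.Agent.S8773.result R _ _ (hS n)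


variable {N' : ChainComplex (ModuleCat.{u} R) ℕ} {N : ModuleCat.{u} R}
    {ε : N' ⟶ (ChainComplex.single₀ (ModuleCat.{u} R)).obj N}

theorem UEx.ker0 (h : UEx N' ε) :
    CAlgX.UniversallyInjective R (LinearMap.ker (ε.f 0).hom).subtype := by
  rw [h.ex0.linearMap_ker_eq]; exact h.ui 0

theorem UEx.kerS (h : UEx N' ε) (n : ℕ) :
    CAlgX.UniversallyInjective R (LinearMap.ker (N'.d (n+1) n).hom).subtype := by
  rw [(h.exS n).linearMap_ker_eq]; exact h.ui (n+1)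

/-- categorical form of the lifting step -/
theorem lift_cat {X Y Z W : ModuleCat.{u} R} (hX : PProj R X) (a : Y ⟶ Z) (b : Z ⟶ W)
    (hab : Function.Exact a.hom b.hom)
    (hker : CAlgX.UniversallyInjective R (LinearMap.ker a.hom).subtype)
    (φ : X ⟶ Z) (hφ : φ ≫ b = 0) : ∃ ψ : X ⟶ Y, ψ ≫ a = φ := by
  obtain ⟨ψ, hψ⟩ := lift_step hX a.hom b.hom hab hker φ.hom (by
    have := congrArg ModuleCat.Hom.hom hφ
    simpa using this)
  exact ⟨ModuleCat.ofHom ψ, ModuleCat.hom_ext (by simpa using hψ)⟩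

theorem d_comp_toSingle (P : ChainComplex (ModuleCat.{u} R) ℕ) {N : ModuleCat.{u} R}
    (τ : P ⟶ (ChainComplex.single₀ (ModuleCat.{u} R)).obj N) : P.d 1 0 ≫ τ.f 0 = 0 := by
  rw [← τ.comm 1 0, HomologicalComplex.single_obj_d]; exact Limits.comp_zero

theorem exists_lift (P : ChainComplex (ModuleCat.{u} R) ℕ)
    (τ : P ⟶ (ChainComplex.single₀ (ModuleCat.{u} R)).obj N)
    (hP : ∀ n, PProj R (P.X n)) (hN' : UEx N' ε) : ∃ φ : P ⟶ N', φ ≫ ε = τ := by
  -- degree zero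
  obtain ⟨z, hz⟩ : ∃ z : P.X 0 ⟶ N'.X 0, z ≫ ε.f 0 = τ.f 0 := by
    obtain ⟨ψ, hψ⟩ := hP 0 (ε.f 0).hom hN'.surj hN'.ker0 (τ.f 0).hom
    exact ⟨ModuleCat.ofHom ψ, ModuleCat.hom_ext hψ⟩
  obtain ⟨o, ho⟩ : ∃ o : P.X 1 ⟶ N'.X 1, o ≫ N'.d 1 0 = P.d 1 0 ≫ z :=
    lift_cat (hP 1) (N'.d 1 0) (ε.f 0) hN'.ex0 (hN'.kerS 0) (P.d 1 0 ≫ z) (by
      rw [Category.assoc, hz, d_comp_toSingle])
  have hsucc : ∀ (n : ℕ) (p : Σ' (f : P.X n ⟶ N'.X n) (f' : P.X (n + 1) ⟶ N'.X (n + 1)),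
          f' ≫ N'.d (n + 1) n = P.d (n + 1) n ≫ f),
      ∃ f'' : P.X (n + 2) ⟶ N'.X (n + 2), f'' ≫ N'.d (n + 2) (n + 1) = P.d (n + 2) (n + 1) ≫ p.2.1 := by
    rintro n ⟨f, f', w⟩
    exact lift_cat (hP (n+2)) (N'.d (n+2) (n+1)) (N'.d (n+1) n) (hN'.exS n) (hN'.kerS (n+1))
      (P.d (n + 2) (n + 1) ≫ f') (by rw [Category.assoc, w]; simp)
  refine ⟨ChainComplex.mkHom P N' z o ho (fun n p => ⟨(hsucc n p).choose, (hsucc n p).choose_spec⟩), ?_⟩
  apply HomologicalComplex.to_single_hom_ext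
  simpa using hz

theorem exists_homotopy_zero (P : ChainComplex (ModuleCat.{u} R) ℕ)
    (hP : ∀ n, PProj R (P.X n)) (hN' : UEx N' ε) (e : P ⟶ N') (he : e ≫ ε = 0) :
    Nonempty (Homotopy e 0) := by
  have he0 : e.f 0 ≫ ε.f 0 = 0 := by
    have := congrArg (fun t => HomologicalComplex.Hom.f t 0) he
    simpa using this
  obtain ⟨z, hz⟩ : ∃ z : P.X 0 ⟶ N'.X 1, z ≫ N'.d 1 0 = e.f 0 :=
    lift_cat (hP 0) (N'.d 1 0) (ε.f 0) hN'.ex0 (hN'.kerS 0) (e.f 0) he0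
  obtain ⟨o, ho⟩ : ∃ o : P.X 1 ⟶ N'.X 2, o ≫ N'.d 2 1 = e.f 1 - P.d 1 0 ≫ z :=
    lift_cat (hP 1) (N'.d 2 1) (N'.d 1 0) (hN'.exS 0) (hN'.kerS 1) _ (by
      rw [Preadditive.sub_comp, Category.assoc, hz, e.comm 1 0, sub_self])
  have hsucc : ∀ (n : ℕ) (p : Σ' (f : P.X n ⟶ N'.X (n+1)) (f' : P.X (n+1) ⟶ N'.X (n+2)),
        e.f (n+1) = P.d (n+1) n ≫ f + f' ≫ N'.d (n+2) (n+1)),
      ∃ f'' : P.X (n+2) ⟶ N'.X (n+3),
        e.f (n+2) = P.d (n+2) (n+1) ≫ p.2.1 + f'' ≫ N'.d (n+3) (n+2) := by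
    rintro n ⟨f, f', w⟩
    obtain ⟨f'', h''⟩ := lift_cat (hP (n+2)) (N'.d (n+3) (n+2)) (N'.d (n+2) (n+1)) (hN'.exS (n+1))
      (hN'.kerS (n+2)) (e.f (n+2) - P.d (n+2) (n+1) ≫ f') (by
        rw [Preadditive.sub_comp, Category.assoc, e.comm (n+2) (n+1)]
        have : f' ≫ N'.d (n+2) (n+1) = e.f (n+1) - P.d (n+1) n ≫ f := by rw [w]; abel
        rw [this, Preadditive.comp_sub, ← Category.assoc (P.d (n+2) (n+1)), P.d_comp_d]
        simp)
    exact ⟨f'', by rw [h'']; abel⟩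
  exact ⟨Homotopy.mkInductive e z hz.symm o (by rw [ho]; abel)
    (fun n p => ⟨(hsucc n p).choose, (hsucc n p).choose_spec⟩)⟩

theorem exists_homotopy (P : ChainComplex (ModuleCat.{u} R) ℕ)
    (hP : ∀ n, PProj R (P.X n)) (hN' : UEx N' ε) (α β : P ⟶ N') (h : α ≫ ε = β ≫ ε) :
    Nonempty (Homotopy α β) := by
  obtain ⟨H⟩ := exists_homotopy_zero P hP hN' (α - β) (by rw [Preadditive.sub_comp, h, sub_self])
  exact ⟨(Homotopy.equivSubZero).symm H⟩


theorem coQuasiIsoAt_zero_iff (K L : CochainComplex (ModuleCat.{u} R) ℕ) (φ : K ⟶ L) (hK : K.d 0 1 = 0) :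
    QuasiIsoAt φ 0 ↔ Function.Exact (φ.f 0).hom (L.d 0 1).hom ∧ Function.Injective (φ.f 0).hom := by
  rw [CochainComplex.quasiIsoAt₀_iff, ShortComplex.quasiIso_iff_of_zeros _ (K.shape 0 0 (by simp)) hK
    (L.shape 0 0 (by simp)), ShortComplex.ShortExact.moduleCat_exact_iff_function_exact,
    ModuleCat.mono_iff_injective]
  rfl

theorem coQuasiIsoAt_succ_iff (K L : CochainComplex (ModuleCat.{u} R) ℕ) (φ : K ⟶ L) (n : ℕ)
    (hK : Limits.IsZero (K.X (n+1))) :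
    QuasiIsoAt φ (n+1) ↔ Function.Exact (L.d n (n+1)).hom (L.d (n+1) (n+2)).hom := by
  rw [quasiIsoAt_iff_exactAt _ _ (HomologicalComplex.ExactAt.of_isZero hK),
    HomologicalComplex.exactAt_iff' _ n (n+1) (n+2) (by simp) (by simp),
    ShortComplex.ShortExact.moduleCat_exact_iff_function_exact]
  rfl

/-- Universally exact coaugmented cochain complex, concretely. -/
structure UExCo (M' : CochainComplex (ModuleCat.{u} R) ℕ) {M : ModuleCat.{u} R}
    (η : (CochainComplex.single₀ (ModuleCat.{u} R)).obj M ⟶ M') : Prop where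
  inj : CAlgX.UniversallyInjective R (η.f 0).hom
  ex0 : Function.Exact (η.f 0).hom (M'.d 0 1).hom
  exS : ∀ n, Function.Exact (M'.d n (n+1)).hom (M'.d (n+1) (n+2)).hom
  ui : ∀ n, CAlgX.UniversallyInjective R (LinearMap.range (M'.d n (n+1)).hom).subtype

theorem uexco_of_quasiIso (M' : CochainComplex (ModuleCat.{u} R) ℕ) {M : ModuleCat.{u} R}
    (η : (CochainComplex.single₀ (ModuleCat.{u} R)).obj M ⟶ M')
    (hM' : ∀ T : ModuleCat.{u} R,
      QuasiIso (((MonoidalCategory.tensorRight T).mapHomologicalComplex (ComplexShape.up ℕ)).map η)) :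
    UExCo M' η := by
  have hS : ∀ (n : ℕ) (Q : Type u) [AddCommGroup Q] [Module R Q],
      Function.Exact ((M'.d n (n+1)).hom.rTensor Q) ((M'.d (n+1) (n+2)).hom.rTensor Q) := by
    intro n Q _ _
    have hq := (hM' (ModuleCat.of R Q)).quasiIsoAt (n+1)
    rw [coQuasiIsoAt_succ_iff] at hq
    · exact hq
    · exact Functor.map_isZero (MonoidalCategory.tensorRight (ModuleCat.of R Q))
        (HomologicalComplex.isZero_single_obj_X (ComplexShape.up ℕ) 0 M (n+1) (by simp))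
  have h0 : ∀ (Q : Type u) [AddCommGroup Q] [Module R Q],
      Function.Exact ((η.f 0).hom.rTensor Q) ((M'.d 0 1).hom.rTensor Q) ∧
      Function.Injective ((η.f 0).hom.rTensor Q) := by
    intro Q _ _
    have hq := (hM' (ModuleCat.of R Q)).quasiIsoAt 0
    rw [coQuasiIsoAt_zero_iff] at hq
    · exact hq
    · exact (MonoidalCategory.tensorRight (ModuleCat.of R Q)).map_zero _ _
  refine ⟨?_, ?_, ?_, ?_⟩
  · intro Q _ _
    exact (h0 Q).2
  · exact exact_of_rTensor_self _ _ (h0 R).1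
  · intro n
    exact exact_of_rTensor_self _ _ (hS n R)
  · intro n
    cases n with
    | zero => exact Groth.Agent.S8773.result R _ _ (fun Q _ _ => (h0 Q).1)
    | succ n => exact Groth.Agent.S8773.result R _ _ (hS n)

variable {M' : CochainComplex (ModuleCat.{u} R) ℕ} {M : ModuleCat.{u} R}
    {η : (CochainComplex.single₀ (ModuleCat.{u} R)).obj M ⟶ M'}

theorem ext_cat {X Y Z W : ModuleCat.{u} R} (hX : PInj R X) (a : W ⟶ Z) (b : Z ⟶ Y)
    (hab : Function.Exact a.hom b.hom)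
    (hr : CAlgX.UniversallyInjective R (LinearMap.range b.hom).subtype)
    (φ : Z ⟶ X) (hφ : a ≫ φ = 0) : ∃ ψ : Y ⟶ X, b ≫ ψ = φ := by
  obtain ⟨ψ, hψ⟩ := ext_step hX a.hom b.hom hab hr φ.hom (by
    have := congrArg ModuleCat.Hom.hom hφ
    simpa using this)
  exact ⟨ModuleCat.ofHom ψ, ModuleCat.hom_ext hψ⟩

theorem fromSingle_comp_d (I : CochainComplex (ModuleCat.{u} R) ℕ) {N : ModuleCat.{u} R}
    (τ : (CochainComplex.single₀ (ModuleCat.{u} R)).obj N ⟶ I) : τ.f 0 ≫ I.d 0 1 = 0 := by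
  rw [τ.comm 0 1, HomologicalComplex.single_obj_d]; exact Limits.zero_comp

theorem exists_desc (I : CochainComplex (ModuleCat.{u} R) ℕ)
    (τ : (CochainComplex.single₀ (ModuleCat.{u} R)).obj M ⟶ I)
    (hI : ∀ n, PInj R (I.X n)) (hM' : UExCo M' η) : ∃ φ : M' ⟶ I, η ≫ φ = τ := by
  obtain ⟨z, hz⟩ : ∃ z : M'.X 0 ⟶ I.X 0, η.f 0 ≫ z = τ.f 0 := by
    obtain ⟨ψ, hψ⟩ := hI 0 (η.f 0).hom hM'.inj (τ.f 0).hom
    exact ⟨ModuleCat.ofHom ψ, ModuleCat.hom_ext hψ⟩
  obtain ⟨o, ho⟩ : ∃ o : M'.X 1 ⟶ I.X 1, M'.d 0 1 ≫ o = z ≫ I.d 0 1 :=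
    ext_cat (hI 1) (η.f 0) (M'.d 0 1) hM'.ex0 (hM'.ui 0) (z ≫ I.d 0 1) (by
      rw [← Category.assoc, hz, fromSingle_comp_d])
  have hsucc : ∀ (n : ℕ) (p : Σ' (f : M'.X n ⟶ I.X n) (f' : M'.X (n + 1) ⟶ I.X (n + 1)),
          f ≫ I.d n (n + 1) = M'.d n (n + 1) ≫ f'),
      ∃ f'' : M'.X (n + 2) ⟶ I.X (n + 2),
        p.2.1 ≫ I.d (n + 1) (n + 2) = M'.d (n + 1) (n + 2) ≫ f'' := by
    rintro n ⟨f, f', w⟩
    obtain ⟨f'', h''⟩ := ext_cat (hI (n+2)) (M'.d n (n+1)) (M'.d (n+1) (n+2)) (hM'.exS n)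
      (hM'.ui (n+1)) (f' ≫ I.d (n + 1) (n + 2)) (by rw [← Category.assoc, ← w]; simp)
    exact ⟨f'', h''.symm⟩
  refine ⟨CochainComplex.mkHom M' I z o ho.symm
    (fun n p => ⟨(hsucc n p).choose, (hsucc n p).choose_spec⟩), ?_⟩
  apply HomologicalComplex.from_single_hom_ext
  simpa using hz

theorem exists_cohomotopy_zero (I : CochainComplex (ModuleCat.{u} R) ℕ)
    (hI : ∀ n, PInj R (I.X n)) (hM' : UExCo M' η) (e : M' ⟶ I) (he : η ≫ e = 0) :
    Nonempty (Homotopy e 0) := by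
  have he0 : η.f 0 ≫ e.f 0 = 0 := by
    have := congrArg (fun t => HomologicalComplex.Hom.f t 0) he
    simpa using this
  obtain ⟨z, hz⟩ : ∃ z : M'.X 1 ⟶ I.X 0, M'.d 0 1 ≫ z = e.f 0 :=
    ext_cat (hI 0) (η.f 0) (M'.d 0 1) hM'.ex0 (hM'.ui 0) (e.f 0) he0
  obtain ⟨o, ho⟩ : ∃ o : M'.X 2 ⟶ I.X 1, M'.d 1 2 ≫ o = e.f 1 - z ≫ I.d 0 1 :=
    ext_cat (hI 1) (M'.d 0 1) (M'.d 1 2) (hM'.exS 0) (hM'.ui 1) _ (by
      rw [Preadditive.comp_sub, ← Category.assoc, hz, e.comm 0 1, sub_self])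
  have hsucc : ∀ (n : ℕ) (p : Σ' (f : M'.X (n+1) ⟶ I.X n) (f' : M'.X (n+2) ⟶ I.X (n+1)),
        e.f (n+1) = f ≫ I.d n (n+1) + M'.d (n+1) (n+2) ≫ f'),
      ∃ f'' : M'.X (n+3) ⟶ I.X (n+2),
        e.f (n+2) = p.2.1 ≫ I.d (n+1) (n+2) + M'.d (n+2) (n+3) ≫ f'' := by
    rintro n ⟨f, f', w⟩
    obtain ⟨f'', h''⟩ := ext_cat (hI (n+2)) (M'.d (n+1) (n+2)) (M'.d (n+2) (n+3)) (hM'.exS (n+1))
      (hM'.ui (n+2)) (e.f (n+2) - f' ≫ I.d (n+1) (n+2)) (by
        rw [Preadditive.comp_sub, ← e.comm (n+1) (n+2)]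
        have : M'.d (n+1) (n+2) ≫ f' = e.f (n+1) - f ≫ I.d n (n+1) := by rw [w]; abel
        rw [← Category.assoc, this, Preadditive.sub_comp, Category.assoc f, I.d_comp_d]
        simp)
    exact ⟨f'', by rw [h'']; abel⟩
  exact ⟨Homotopy.mkCoinductive e z hz.symm o (by rw [ho]; abel)
    (fun n p => ⟨(hsucc n p).choose, (hsucc n p).choose_spec⟩)⟩

theorem exists_cohomotopy (I : CochainComplex (ModuleCat.{u} R) ℕ)
    (hI : ∀ n, PInj R (I.X n)) (hM' : UExCo M' η) (α β : M' ⟶ I) (h : η ≫ α = η ≫ β) :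
    Nonempty (Homotopy α β) := by
  obtain ⟨H⟩ := exists_cohomotopy_zero I hI hM' (α - β) (by rw [Preadditive.comp_sub, h, sub_self])
  exact ⟨(Homotopy.equivSubZero).symm H⟩


end Groth.Agent.Lib.helper28.PureRes
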