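import Mathlib
import Groth.Agent.Lib.helper5.TorsFree

/-!
# Reflexive modules over Noetherian domains (Stacks 15.23)
-/

set_option autoImplicit false
universe u v

namespace Groth.Agent.Lib.helper28.Refl

open Module

section Pi

variable (R : Type u) [CommRing R] (M : Type v) [AddCommGroup M] [Module R M]

theorem isReflexive_pi_fin [Module.IsReflexive R M] (n : ℕ) :
    Module.IsReflexive R (Fin n → M) := by
  induction n with
  | zero => infer_instance
  | succ n ih =>
    exact Module.equiv (Fin.consLinearEquiv R (fun _ : Fin (n + 1) => M))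

end Pi

section Exact

variable (R : Type u) [CommRing R] [IsDomain R]
variable {M M' M'' : Type u} [AddCommGroup M] [Module R M] [Module.Finite R M]
  [AddCommGroup M'] [Module R M'] [AddCommGroup M''] [Module R M'']

/-- Stacks 15.23.5: `0 → M → M' → M''` exact, `M'` reflexive, `M''` torsion free ⇒ `M` reflexive. -/
theorem isReflexive_of_exact (f : M →ₗ[R] M') (g : M' →ₗ[R] M'') (hf : Function.Injective f)
    (hfg : Function.Exact f g) [Module.IsReflexive R M'] [Module.IsTorsionFree R M''] :
    Module.IsReflexive R M := by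
  obtain ⟨c, hc, hker, hcok⟩ := Groth.Agent.H5.TorsFree.dual_eval_sandwich R M
  have hnat : ∀ m : M, f.dualMap.dualMap (Dual.eval R M m) = Dual.eval R M' (f m) := by
    intro m; ext φ; rfl
  have hinj : Function.Injective (Dual.eval R M) := by
    rw [injective_iff_map_eq_zero]
    intro m hm
    apply hf
    rw [map_zero]
    apply (bijective_dual_eval R M').injective
    rw [map_zero, ← hnat, hm, map_zero]
  refine ⟨⟨hinj, fun ξ => ?_⟩⟩
  obtain ⟨m, hm⟩ := hcok ξ
  -- the image of ξ in M'
  obtain ⟨m', hm'⟩ := (bijective_dual_eval R M').surjective (f.dualMap.dualMap ξ)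
  have h1 : c • m' = f m := by
    apply (bijective_dual_eval R M').injective
    rw [map_smul, hm', ← map_smul, ← hm, hnat]
  have h2 : g m' = 0 := by
    have : c • g m' = 0 := by rw [← map_smul, h1]; exact hfg.apply_apply_eq_zero m
    rcases (Module.isTorsionFree_iff_smul_eq_zero.1 inferInstance) c (g m') this with h | h
    · exact absurd h hc
    · exact h
  obtain ⟨m₀, hm₀⟩ := (hfg m').1 h2
  refine ⟨m₀, ?_⟩
  -- injectivity of f** on M**
  have hinj2 : Function.Injective f.dualMap.dualMap := by
    rw [injective_iff_map_eq_zero]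
    intro ζ hζ
    obtain ⟨n, hn⟩ := hcok ζ
    have h3 : f n = 0 := by
      apply (bijective_dual_eval R M').injective
      rw [map_zero, ← hnat, hn, map_smul, hζ, smul_zero]
    have h4 : n = 0 := hf (by rw [h3, map_zero])
    have h5 : c • ζ = 0 := by rw [← hn, h4, map_zero]
    rcases (Module.isTorsionFree_iff_smul_eq_zero.1 inferInstance) c ζ h5 with h | h
    · exact absurd h hc
    · exact h
  apply hinj2
  rw [hnat, hm₀, hm']

end Exact

section Embed

variable (R : Type u) [CommRing R] [IsDomain R] [IsNoetherianRing R]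
variable (M : Type u) [AddCommGroup M] [Module R M] [Module.Finite R M]

theorem exists_injective_of_isReflexive [Module.IsReflexive R M] :
    ∃ (n : ℕ) (f : M →ₗ[R] (Fin n → R)), Function.Injective f ∧
      Module.IsTorsionFree R ((Fin n → R) ⧸ LinearMap.range f) := by
  obtain ⟨n, π, hπ⟩ := Module.Finite.exists_fin' R (Dual R M)
  let f : M →ₗ[R] (Fin n → R) := LinearMap.pi fun i => π (Pi.single i 1)
  have hf : ∀ m i, f m i = π (Pi.single i 1) m := fun m i => rfl
  have hπsum : ∀ (a : Fin n → R) (m : M), π a m = ∑ i, a i * f m i := by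
    intro a m
    have := LinearMap.pi_apply_eq_sum_univ π a
    rw [this, LinearMap.sum_apply]
    refine Finset.sum_congr rfl fun i _ => ?_
    rw [LinearMap.smul_apply, smul_eq_mul, hf]
    congr 3
    ext j
    simp [Pi.single_apply, eq_comm]
  have hinj : Function.Injective f := by
    rw [injective_iff_map_eq_zero]
    intro m hm
    apply (bijective_dual_eval R M).injective
    rw [map_zero]
    ext φ
    obtain ⟨a, rfl⟩ := hπ φ
    rw [Dual.eval_apply, hπsum, hm]
    simp
  refine ⟨n, f, hinj, ?_⟩
  rw [Module.isTorsionFree_iff_smul_eq_zero]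
  intro c q hq
  by_cases hc : c = 0
  · exact Or.inl hc
  right
  obtain ⟨v, rfl⟩ := Submodule.mkQ_surjective _ q
  rw [Submodule.mkQ_apply, ← Submodule.Quotient.mk_smul, Submodule.Quotient.mk_eq_zero] at hq
  obtain ⟨m, hm⟩ := hq
  rw [Submodule.mkQ_apply, Submodule.Quotient.mk_eq_zero]
  -- the functional a ↦ ∑ a i * v i vanishes on ker π
  let dotv : (Fin n → R) →ₗ[R] R := ∑ i, (v i) • LinearMap.proj i
  have hdotv : ∀ a, dotv a = ∑ i, a i * v i := by
    intro a
    simp only [dotv, LinearMap.sum_apply, LinearMap.smul_apply, LinearMap.proj_apply, smul_eq_mul]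
    exact Finset.sum_congr rfl fun i _ => mul_comm _ _
  have hker : LinearMap.ker π ≤ LinearMap.ker dotv := by
    intro a ha
    rw [LinearMap.mem_ker] at ha ⊢
    have h1 : c * dotv a = 0 := by
      rw [hdotv, Finset.mul_sum]
      have h2 : π a m = 0 := by rw [ha]; rfl
      rw [hπsum] at h2
      rw [← h2]
      refine Finset.sum_congr rfl fun i _ => ?_
      have h3 : f m i = c * v i := by rw [hm]; rfl
      rw [h3]; ring
    rcases mul_eq_zero.1 h1 with h | h
    · exact absurd h hc
    · exact h
  let ξ : Dual R (Dual R M) :=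
    (Submodule.liftQ (LinearMap.ker π) dotv hker) ∘ₗ
      (π.quotKerEquivOfSurjective hπ).symm.toLinearMap
  have hξ : ∀ a, ξ (π a) = dotv a := by
    intro a
    have : (π.quotKerEquivOfSurjective hπ).symm (π a) = Submodule.Quotient.mk a := by
      rw [LinearEquiv.symm_apply_eq]; rfl
    simp only [ξ, LinearMap.comp_apply, LinearEquiv.coe_coe, this, Submodule.liftQ_apply]
  obtain ⟨m₀, hm₀⟩ := (bijective_dual_eval R M).surjective ξ
  refine ⟨m₀, ?_⟩
  ext i
  rw [hf]
  have h4 : ξ (π (Pi.single i 1)) = v i := by
    rw [hξ, hdotv]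
    simp [Pi.single_apply]
  rw [← h4, ← hm₀, Dual.eval_apply]

theorem isReflexive_iff_exists_injective :
    Module.IsReflexive R M ↔ ∃ (n : ℕ) (f : M →ₗ[R] (Fin n → R)), Function.Injective f ∧
      Module.IsTorsionFree R ((Fin n → R) ⧸ LinearMap.range f) := by
  constructor
  · intro h
    exact exists_injective_of_isReflexive R M
  · rintro ⟨n, f, hf, htf⟩
    exact isReflexive_of_exact R f (LinearMap.range f).mkQ hf (LinearMap.exact_map_mkQ_range f)

end Embed

section HomRefl

variable (R : Type u) [CommRing R] [IsDomain R] [IsNoetherianRing R]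
variable (M N : Type u) [AddCommGroup M] [Module R M] [Module.Finite R M]
  [AddCommGroup N] [Module R N] [Module.Finite R N]

/-- Stacks 15.23.8: `Hom(M, N)` is reflexive when `N` is. -/
theorem isReflexive_linearMap [Module.IsReflexive R N] : Module.IsReflexive R (M →ₗ[R] N) := by
  obtain ⟨n, π, hπ⟩ := Module.Finite.exists_fin' R M
  let F : (M →ₗ[R] N) →ₗ[R] (Fin n → N) :=
    LinearMap.pi fun i => LinearMap.applyₗ (π (Pi.single i 1))
  have hF : ∀ h i, F h i = h (π (Pi.single i 1)) := fun h i => rfl
  have hsum : ∀ (h : M →ₗ[R] N) (a : Fin n → R), h (π a) = ∑ i, a i • F h i := by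
    intro h a
    have := LinearMap.pi_apply_eq_sum_univ (h ∘ₗ π) a
    rw [LinearMap.comp_apply] at this
    rw [this]
    refine Finset.sum_congr rfl fun i _ => ?_
    rw [hF, LinearMap.comp_apply]
    congr 3
    ext j
    simp [Pi.single_apply, eq_comm]
  have hinj : Function.Injective F := by
    rw [injective_iff_map_eq_zero]
    intro h hh
    ext m
    obtain ⟨a, rfl⟩ := hπ m
    rw [hsum, hh]
    simp
  have : Module.IsReflexive R (Fin n → N) := isReflexive_pi_fin R N n
  have : Module.IsTorsionFree R ((Fin n → N) ⧸ LinearMap.range F) := by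
    rw [Module.isTorsionFree_iff_smul_eq_zero]
    intro c q hq
    by_cases hc : c = 0
    · exact Or.inl hc
    right
    obtain ⟨v, rfl⟩ := Submodule.mkQ_surjective _ q
    rw [Submodule.mkQ_apply, ← Submodule.Quotient.mk_smul, Submodule.Quotient.mk_eq_zero] at hq
    obtain ⟨h, hh⟩ := hq
    rw [Submodule.mkQ_apply, Submodule.Quotient.mk_eq_zero]
    let dotv : (Fin n → R) →ₗ[R] N := ∑ i, (LinearMap.proj i : (Fin n → R) →ₗ[R] R).smulRight (v i)
    have hdotv : ∀ a, dotv a = ∑ i, a i • v i := by
      intro a
      simp only [dotv, LinearMap.sum_apply, LinearMap.smulRight_apply, LinearMap.proj_apply]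
    have hker : LinearMap.ker π ≤ LinearMap.ker dotv := by
      intro a ha
      rw [LinearMap.mem_ker] at ha ⊢
      have h1 : c • dotv a = 0 := by
        rw [hdotv, Finset.smul_sum]
        have h2 : h (π a) = 0 := by rw [ha, map_zero]
        rw [hsum] at h2
        rw [← h2]
        refine Finset.sum_congr rfl fun i _ => ?_
        have h3 : F h i = c • v i := by rw [hh]; rfl
        rw [h3, smul_comm]
      rcases (Module.isTorsionFree_iff_smul_eq_zero.1 inferInstance) c _ h1 with h | h
      · exact absurd h hc
      · exact h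
    let h' : M →ₗ[R] N :=
      (Submodule.liftQ (LinearMap.ker π) dotv hker) ∘ₗ
        (π.quotKerEquivOfSurjective hπ).symm.toLinearMap
    have hh' : ∀ a, h' (π a) = dotv a := by
      intro a
      have : (π.quotKerEquivOfSurjective hπ).symm (π a) = Submodule.Quotient.mk a := by
        rw [LinearEquiv.symm_apply_eq]; rfl
      simp only [h', LinearMap.comp_apply, LinearEquiv.coe_coe, this, Submodule.liftQ_apply]
    refine ⟨h', ?_⟩
    ext i
    rw [hF, hh', hdotv]
    simp [Pi.single_apply]
  exact isReflexive_of_exact R F (LinearMap.range F).mkQ hinj (LinearMap.exact_map_mkQ_range F)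

end HomRefl

section BaseChange

open TensorProduct

variable (R : Type u) [CommRing R] [IsDomain R] [IsNoetherianRing R]

omit [IsNoetherianRing R] in
/-- A finite torsion-free module over a domain embeds into a finite free module. -/
theorem exists_injective_of_isTorsionFree (T : Type u) [AddCommGroup T] [Module R T]
    [Module.Finite R T] [Module.IsTorsionFree R T] :
    ∃ (k : ℕ) (g : T →ₗ[R] (Fin k → R)), Function.Injective g := by
  obtain ⟨F, c, hc, hfree, hfin, hcT⟩ := Groth.Agent.H5.TorsFree.exists_free_submodule_smul_le R T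
  let μ : T →ₗ[R] F := LinearMap.codRestrict F (c • LinearMap.id) hcT
  have hμ : Function.Injective μ := by
    rw [injective_iff_map_eq_zero]
    intro t ht
    have h1 : c • t = 0 := by
      have := congrArg Subtype.val ht
      simpa [μ] using this
    rcases (Module.isTorsionFree_iff_smul_eq_zero.1 inferInstance) c t h1 with h | h
    · exact absurd h hc
    · exact h
  let b := Module.Free.chooseBasis R F
  have : Fintype (Module.Free.ChooseBasisIndex R F) := Module.Free.ChooseBasisIndex.fintype R F
  let e : F ≃ₗ[R] (Fin (Fintype.card (Module.Free.ChooseBasisIndex R F)) → R) :=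
    b.equivFun.trans (LinearEquiv.funCongrLeft R R (Fintype.equivFin _).symm)
  exact ⟨_, e.toLinearMap ∘ₗ μ, e.injective.comp hμ⟩

variable (R' : Type u) [CommRing R'] [IsDomain R'] [IsNoetherianRing R'] [Algebra R R']
  [Module.Flat R R']
variable (M : Type u) [AddCommGroup M] [Module R M] [Module.Finite R M]

omit [IsNoetherianRing R'] in
/-- Stacks 15.23.? : flat base change preserves reflexivity. -/
theorem isReflexive_baseChange [Module.IsReflexive R M] : Module.IsReflexive R' (R' ⊗[R] M) := by
  obtain ⟨n, f, hf, htf⟩ := exists_injective_of_isReflexive R M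
  obtain ⟨k, g₀, hg₀⟩ := exists_injective_of_isTorsionFree R ((Fin n → R) ⧸ LinearMap.range f)
  let g : (Fin n → R) →ₗ[R] (Fin k → R) := g₀ ∘ₗ (LinearMap.range f).mkQ
  have hex : Function.Exact f g := by
    intro y
    constructor
    · intro hy
      have : (LinearMap.range f).mkQ y = 0 := hg₀ (by rw [map_zero]; exact hy)
      rw [Submodule.mkQ_apply, Submodule.Quotient.mk_eq_zero] at this
      exact this
    · rintro ⟨m, rfl⟩
      show g₀ ((LinearMap.range f).mkQ (f m)) = 0
      have : (LinearMap.range f).mkQ (f m) = 0 := by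
        rw [Submodule.mkQ_apply, Submodule.Quotient.mk_eq_zero]; exact ⟨m, rfl⟩
      rw [this, map_zero]
  have hinj' : Function.Injective (f.baseChange R') := by
    rw [LinearMap.baseChange_eq_ltensor]
    exact Module.Flat.lTensor_preserves_injective_linearMap f hf
  have hex' : Function.Exact (f.baseChange R') (g.baseChange R') := by
    rw [LinearMap.baseChange_eq_ltensor, LinearMap.baseChange_eq_ltensor]
    exact Module.Flat.lTensor_exact R' hex
  exact isReflexive_of_exact R' (f.baseChange R') (g.baseChange R') hinj' hex'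

end BaseChange

end Groth.Agent.Lib.helper28.Refl
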