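import Mathlib
import Groth.Agent.Lib.helper9.Depth11
import Groth.Agent.Lib.helper9.DepthHom

/-!
# Depth and Serre conditions for reflexive modules (uses helper9's depth library)
-/

set_option autoImplicit false
universe u

namespace Groth.Agent.Lib.helper28.ReflDepth

open LocCoh Groth.Agent.Lib.helper9

section Basic

variable {A : Type u} [CommRing A] [IsNoetherianRing A]

theorem one_le_idealDepth_of_isReflexive (I : Ideal A) (G : Type u) [AddCommGroup G]
    [Module A G] [Module.Finite A G] [Module.IsReflexive A G] (h : 1 ≤ idealDepth I A) :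
    1 ≤ idealDepth I G := by
  rw [Depth.idealDepth_congr I (Module.evalEquiv A G)]
  exact DepthHom.one_le_idealDepth_hom h

theorem two_le_idealDepth_of_isReflexive (I : Ideal A) (G : Type u) [AddCommGroup G]
    [Module A G] [Module.Finite A G] [Module.IsReflexive A G] (h : 2 ≤ idealDepth I A) :
    2 ≤ idealDepth I G := by
  rw [Depth.idealDepth_congr I (Module.evalEquiv A G)]
  exact DepthHom.two_le_idealDepth_hom h

/-- the localization of a dual-type module `Hom_A(N, A)` at a prime, as a Hom module over `A_p`. -/
noncomputable def locHomEquiv (p : Ideal A) [p.IsPrime] (N : Type u) [AddCommGroup N] [Module A N]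
    [Module.Finite A N] :
    LocalizedModule p.primeCompl (N →ₗ[A] A) ≃ₗ[Localization.AtPrime p]
      (LocalizedModule p.primeCompl N →ₗ[Localization.AtPrime p] LocalizedModule p.primeCompl A) :=
  haveI : Module.FinitePresentation A N := Module.finitePresentation_of_finite A N
  (Module.FinitePresentation.linearEquivMapExtendScalars p.primeCompl
    (M := N) (N := A)).extendScalarsOfIsLocalization p.primeCompl (Localization.AtPrime p)

/-- localization of a reflexive module is a Hom module over the local ring -/
noncomputable def locReflEquiv (p : Ideal A) [p.IsPrime] (G : Type u) [AddCommGroup G] [Module A G]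
    [Module.Finite A G] [Module.IsReflexive A G] :
    LocalizedModule p.primeCompl G ≃ₗ[Localization.AtPrime p]
      (LocalizedModule p.primeCompl (Module.Dual A G) →ₗ[Localization.AtPrime p]
        LocalizedModule p.primeCompl A) :=
  (IsLocalizedModule.mapEquiv p.primeCompl (LocalizedModule.mkLinearMap p.primeCompl G)
    (LocalizedModule.mkLinearMap p.primeCompl (Module.Dual A G →ₗ[A] A)) (Localization.AtPrime p)
    (Module.evalEquiv A G)).trans (locHomEquiv p (Module.Dual A G))

end Basic

section Local

variable {B : Type u} [CommRing B] [IsNoetherianRing B]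

theorem min_le_idealDepth_hom (I : Ideal B) (X Y : Type u) [AddCommGroup X] [Module B X]
    [AddCommGroup Y] [Module B Y] [Module.Finite B Y] (k : ℕ) (hk : k = 1 ∨ k = 2) :
    min (k : ℕ∞) (idealDepth I Y) ≤ idealDepth I (X →ₗ[B] Y) := by
  rcases hk with rfl | rfl
  · by_cases h : 1 ≤ idealDepth I Y
    · exact (min_le_left _ _).trans (by exact_mod_cast DepthHom.one_le_idealDepth_hom h)
    · rw [not_le, Order.lt_one_iff] at h
      rw [h]
      simp
  · by_cases h2 : 2 ≤ idealDepth I Y
    · exact (min_le_left _ _).trans (by exact_mod_cast DepthHom.two_le_idealDepth_hom h2)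
    · by_cases h1 : 1 ≤ idealDepth I Y
      · rw [not_le] at h2
        have h3 : idealDepth I Y ≤ 1 := by
          have : (2 : ℕ∞) = 1 + 1 := by norm_num
          rw [this] at h2
          exact (ENat.lt_add_one_iff (by simp)).1 h2
        exact (min_le_right _ _).trans (h3.trans (DepthHom.one_le_idealDepth_hom h1))
      · rw [not_le, Order.lt_one_iff] at h1
        rw [h1]
        simp

end Local

section Sk

variable {A : Type u} [CommRing A] [IsNoetherianRing A]

theorem hasSk_of_isReflexive (k : ℕ) (hk : k = 1 ∨ k = 2) (G : Type u) [AddCommGroup G]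
    [Module A G] [Module.Finite A G] [Module.IsReflexive A G] (h : HasSk k A A) :
    HasSk k A G := by
  intro p _
  have hS := h p
  set B := Localization.AtPrime p
  set Y := LocalizedModule p.primeCompl A
  set X := LocalizedModule p.primeCompl (Module.Dual A G)
  have e := locReflEquiv p G
  have hd : depth B (LocalizedModule p.primeCompl G) = depth B (X →ₗ[B] Y) :=
    Depth.idealDepth_congr _ e
  have hs : Module.supportDim B (LocalizedModule p.primeCompl G) ≤ Module.supportDim B Y := by
    rw [Module.supportDim_eq_of_equiv (Depth.localizedModuleSelfEquiv p),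
      Module.supportDim_self_eq_ringKrullDim]
    exact Module.supportDim_le_ringKrullDim _ _
  rw [hd]
  have h1 : min (k : WithBot ℕ∞) (Module.supportDim B (LocalizedModule p.primeCompl G)) ≤
      min (k : WithBot ℕ∞) ((depth B Y : ℕ∞) : WithBot ℕ∞) :=
    le_min (min_le_left _ _) ((min_le_min_left _ hs).trans hS)
  refine h1.trans ?_
  have h2 := min_le_idealDepth_hom (IsLocalRing.maximalIdeal B) X Y k hk
  have h3 : min (k : WithBot ℕ∞) ((depth B Y : ℕ∞) : WithBot ℕ∞) =
      ((min (k : ℕ∞) (depth B Y) : ℕ∞) : WithBot ℕ∞) := by
    rw [WithBot.coe_min]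
    rfl
  rw [h3]
  exact WithBot.coe_le_coe.2 h2

end Sk

end Groth.Agent.Lib.helper28.ReflDepth
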