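import Mathlib
import Groth.Agent.Lib.helper28.ReflDepth
import Groth.Agent.Lib.helper9.Depth2

/-!
# Reflexivity from depth ≥ 2 and reflexivity off `V(I)`
-/

set_option autoImplicit false
universe u

namespace Groth.Agent.Lib.helper28.ReflDepth

open LocCoh Groth.Agent.Lib.helper9

section Lam

variable {A : Type u} [CommRing A] [IsNoetherianRing A] (p : Ideal A) [p.IsPrime]

/-- `Hom_A(N, A) → Hom_{A_p}(N_p, A_p)` -/
noncomputable def lam (N : Type u) [AddCommGroup N] [Module A N] :
    (N →ₗ[A] A) →ₗ[A]
      (LocalizedModule p.primeCompl N →ₗ[Localization.AtPrime p] Localization.AtPrime p) :=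
  IsLocalizedModule.mapExtendScalars p.primeCompl (LocalizedModule.mkLinearMap p.primeCompl N)
    (Algebra.linearMap A (Localization.AtPrime p)) (Localization.AtPrime p)

omit [IsNoetherianRing A] in
theorem lam_apply (N : Type u) [AddCommGroup N] [Module A N] (φ : N →ₗ[A] A) (n : N) :
    lam p N φ (LocalizedModule.mkLinearMap p.primeCompl N n) =
      algebraMap A (Localization.AtPrime p) (φ n) := by
  unfold lam
  rw [IsLocalizedModule.mapExtendScalars_apply_apply, IsLocalizedModule.map_apply]
  rfl

instance lam_loc (N : Type u) [AddCommGroup N] [Module A N] [Module.Finite A N] :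
    IsLocalizedModule p.primeCompl (lam p N) := by
  have : Module.FinitePresentation A N := Module.finitePresentation_of_finite A N
  unfold lam
  infer_instance

omit [IsNoetherianRing A] in
theorem smul_eq_zero_loc (s : p.primeCompl) (b : Localization.AtPrime p) (h : s • b = 0) :
    b = 0 := by
  have hu : IsUnit (algebraMap A (Localization.AtPrime p) s) :=
    IsLocalization.map_units (Localization.AtPrime p) s
  have h' : algebraMap A (Localization.AtPrime p) s * b = 0 := by
    rw [← Algebra.smul_def]
    exact h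
  exact (hu.mul_right_eq_zero).1 h'

theorem ker_eval_torsion (G : Type u) [AddCommGroup G] [Module A G] [Module.Finite A G]
    (hrefl : Module.IsReflexive (Localization.AtPrime p) (LocalizedModule p.primeCompl G))
    (x : G) (hx : Module.Dual.eval A G x = 0) : ∃ s : p.primeCompl, s • x = 0 := by
  rw [← IsLocalizedModule.eq_zero_iff p.primeCompl (LocalizedModule.mkLinearMap p.primeCompl G)]
  apply hrefl.bijective_dual_eval'.1
  rw [map_zero]
  ext ψ
  obtain ⟨⟨φ, s⟩, hφ⟩ := IsLocalizedModule.surj p.primeCompl (lam p G) ψ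
  simp only at hφ
  rw [Module.Dual.eval_apply, LinearMap.zero_apply]
  apply smul_eq_zero_loc p s
  have h1 : s • ψ (LocalizedModule.mkLinearMap p.primeCompl G x) =
      (s • ψ) (LocalizedModule.mkLinearMap p.primeCompl G x) := rfl
  rw [h1, hφ, lam_apply]
  have h2 : φ x = (Module.Dual.eval A G x) φ := rfl
  rw [h2, hx, LinearMap.zero_apply, map_zero]

theorem coker_eval_torsion (G : Type u) [AddCommGroup G] [Module A G] [Module.Finite A G]
    (hrefl : Module.IsReflexive (Localization.AtPrime p) (LocalizedModule p.primeCompl G))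
    (y : Module.Dual A (Module.Dual A G)) :
    ∃ (s : p.primeCompl) (g : G), s • y = Module.Dual.eval A G g := by
  classical
  set S := p.primeCompl
  set B := Localization.AtPrime p
  let Λ : LocalizedModule S (Module.Dual A G) ≃ₗ[B] Module.Dual B (LocalizedModule S G) :=
    (IsLocalizedModule.linearEquiv S (LocalizedModule.mkLinearMap S (Module.Dual A G))
      (lam p G)).extendScalarsOfIsLocalization S B
  have hΛ : ∀ φ : Module.Dual A G,
      Λ (LocalizedModule.mkLinearMap S (Module.Dual A G) φ) = lam p G φ := by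
    intro φ
    exact IsLocalizedModule.linearEquiv_apply S _ _ φ
  let η : Module.Dual B (Module.Dual B (LocalizedModule S G)) :=
    (lam p (Module.Dual A G) y) ∘ₗ Λ.symm.toLinearMap
  obtain ⟨g', hg'⟩ := hrefl.bijective_dual_eval'.2 η
  obtain ⟨⟨g, t⟩, hgt⟩ := IsLocalizedModule.surj S (LocalizedModule.mkLinearMap S G) g'
  simp only at hgt
  have key : lam p (Module.Dual A G) (t • y - Module.Dual.eval A G g) = 0 := by
    apply LinearMap.restrictScalars_injective A
    apply IsLocalizedModule.linearMap_ext S (LocalizedModule.mkLinearMap S (Module.Dual A G))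
      (Algebra.linearMap A B)
    ext φ
    simp only [LinearMap.coe_comp, LinearMap.coe_restrictScalars, Function.comp_apply,
      map_zero, LinearMap.zero_apply]
    rw [lam_apply, LinearMap.sub_apply, LinearMap.smul_apply, Module.Dual.eval_apply, map_sub]
    rw [sub_eq_zero]
    -- algebraMap (t • y φ) = algebraMap (φ g)
    have e1 : algebraMap A B (t • y φ) = t • lam p (Module.Dual A G) y
        (LocalizedModule.mkLinearMap S (Module.Dual A G) φ) := by
      rw [lam_apply, Submonoid.smul_def, Submonoid.smul_def, smul_eq_mul, map_mul,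
        Algebra.smul_def]
    have e2 : lam p (Module.Dual A G) y (LocalizedModule.mkLinearMap S (Module.Dual A G) φ) =
        η (lam p G φ) := by
      show _ = lam p (Module.Dual A G) y (Λ.symm (lam p G φ))
      rw [← hΛ φ, LinearEquiv.symm_apply_apply]
    have e3 : η (lam p G φ) = lam p G φ g' := by
      rw [← hg', Module.Dual.eval_apply]
    have e4 : t • lam p G φ g' = lam p G φ (t • g') := by
      rw [Submonoid.smul_def, Submonoid.smul_def]
      exact (LinearMap.map_smul_of_tower (lam p G φ) (t : A) g').symm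
    rw [e1, e2, e3, e4, hgt, lam_apply]
  rw [IsLocalizedModule.eq_zero_iff S (lam p (Module.Dual A G))] at key
  obtain ⟨s, hs⟩ := key
  refine ⟨s * t, s • g, ?_⟩
  rw [smul_sub, sub_eq_zero] at hs
  rw [mul_smul, hs]
  rw [Submonoid.smul_def, Submonoid.smul_def, map_smul]

end Lam

section TorsionDepth

variable {A : Type u} [CommRing A] [IsNoetherianRing A]

/-- An element supported on `V(I)` of a module of `I`-depth ≥ 1 vanishes. -/
theorem eq_zero_of_supported (I : Ideal A) (X : Type u) [AddCommGroup X] [Module A X]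
    [Module.Finite A X] (hd : 1 ≤ idealDepth I X) (c : X)
    (hc : ∀ p : PrimeSpectrum A, ¬ I ≤ p.asIdeal → ∃ s : p.asIdeal.primeCompl, s • c = 0) :
    c = 0 := by
  obtain ⟨rs, hlen, hreg, hmem⟩ := DepthHom.exists_of_le_idealDepth (I := I) (M := X) 1
    (by exact_mod_cast hd)
  match rs, hlen with
  | [r], _ =>
    rw [RingTheory.Sequence.isWeaklyRegular_singleton_iff] at hreg
    have hr : r ∈ I := hmem r (by simp)
    -- I ≤ radical (ann c)
    set 𝔞 : Ideal A := (Submodule.span A {c}).annihilator with h𝔞
    have hmem𝔞 : ∀ a : A, a ∈ 𝔞 ↔ a • c = 0 := by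
      intro a
      rw [h𝔞, Submodule.mem_annihilator_span_singleton]
    have hrad : I ≤ 𝔞.radical := by
      rw [Ideal.radical_eq_sInf]
      refine le_sInf ?_
      rintro q ⟨hq𝔞, hqprime⟩
      by_contra hIq
      obtain ⟨s, hs⟩ := hc ⟨q, hqprime⟩ hIq
      have : (s : A) ∈ q := hq𝔞 ((hmem𝔞 s).2 hs)
      exact s.2 this
    obtain ⟨n, hn⟩ := Ideal.exists_pow_le_of_le_radical_of_fg hrad (Ideal.fg_of_isNoetherianRing I)
    have hrn : r ^ n • c = 0 := (hmem𝔞 _).1 (hn (Ideal.pow_mem_pow hr n))
    have hinj : IsSMulRegular X (r ^ n) := hreg.pow n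
    apply hinj
    show r ^ n • c = r ^ n • 0
    rw [hrn, smul_zero]

end TorsionDepth

section Main

variable {A : Type u} [CommRing A] [IsNoetherianRing A]

theorem isReflexive_of_idealDepth_two (I : Ideal A) (hA : 1 ≤ idealDepth I A)
    (G : Type u) [AddCommGroup G] [Module A G] [Module.Finite A G]
    (hU : ∀ p : PrimeSpectrum A, ¬ I ≤ p.asIdeal →
      Module.IsReflexive (Localization.AtPrime p.asIdeal) (LocalizedModule p.asIdeal.primeCompl G))
    (hG : 2 ≤ idealDepth I G) : Module.IsReflexive A G := by
  have hG1 : 1 ≤ idealDepth I G := le_trans (by norm_num) hG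
  have hinj : Function.Injective (Module.Dual.eval A G) := by
    rw [injective_iff_map_eq_zero]
    intro x hx
    exact eq_zero_of_supported I G hG1 x fun p hp => ker_eval_torsion p.asIdeal G (hU p hp) x hx
  -- the cokernel
  set ev := Module.Dual.eval A G with hev
  have hdep := Depth.idealDepth_shortExact I ev (LinearMap.range ev).mkQ hinj
    (Submodule.mkQ_surjective _) (LinearMap.exact_map_mkQ_range ev)
  obtain ⟨-, hC, -⟩ := hdep
  have hDD : 1 ≤ idealDepth I (Module.Dual A (Module.Dual A G)) :=
    DepthHom.one_le_idealDepth_hom hA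
  have hG' : 1 ≤ idealDepth I G - 1 := by
    generalize idealDepth I G = a at hG
    induction a with
    | top => simp
    | coe m =>
      have h2 : 2 ≤ m := by exact_mod_cast hG
      have h3 : ((m : ℕ∞) - 1) = ((m - 1 : ℕ) : ℕ∞) := by
        rw [ENat.coe_sub]; rfl
      rw [h3]
      have : 1 ≤ m - 1 := by omega
      exact_mod_cast this
  have hCdep : 1 ≤ idealDepth I (Module.Dual A (Module.Dual A G) ⧸ LinearMap.range ev) :=
    le_trans (le_min hDD hG') hC
  have hsurj : Function.Surjective ev := by
    intro y
    have h0 : (LinearMap.range ev).mkQ y = 0 := by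
      apply eq_zero_of_supported I _ hCdep
      intro p hp
      obtain ⟨s, g, hsg⟩ := coker_eval_torsion p.asIdeal G (hU p hp) y
      refine ⟨s, ?_⟩
      rw [Submonoid.smul_def, ← map_smul, ← Submonoid.smul_def, hsg, Submodule.mkQ_apply,
        Submodule.Quotient.mk_eq_zero]
      exact ⟨g, rfl⟩
    rw [Submodule.mkQ_apply, Submodule.Quotient.mk_eq_zero] at h0
    exact h0
  exact ⟨⟨hinj, hsurj⟩⟩

end Main

end Groth.Agent.Lib.helper28.ReflDepth
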