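import Mathlib
import Groth.Prelude.Def_W4stkadequateTF

set_option autoImplicit false
universe u
open CategoryTheory

/-!
# Tangent functors of module-valued functors: diagram chases (helper28)
-/

namespace Groth.Agent.Lib.helper28.TanFun

variable {A : Type u} [CommRing A]

theorem ev_facts (C : ShortComplex (Adeq.MVF A)) (hC : C.ShortExact) (X : (Adeq.Alg A)ᵒᵖᵒᵖ) :
    Function.Injective (C.f.app X).hom ∧ Function.Surjective (C.g.app X).hom ∧
      Function.Exact (C.f.app X).hom (C.g.app X).hom := by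
  have i1 : (PresheafOfModules.evaluation.{u+1} (Adeq.ringOf A) X).Additive :=
    PresheafOfModules.instAdditiveModuleCatCarrierObjOppositeRingCatEvaluation (Adeq.ringOf A) X
  have i2 : Limits.PreservesFiniteLimits (PresheafOfModules.evaluation.{u+1} (Adeq.ringOf A) X) :=
    PresheafOfModules.evaluation_preservesFiniteLimits (Adeq.ringOf A) X
  have i3 : Limits.PreservesFiniteColimits (PresheafOfModules.evaluation.{u+1} (Adeq.ringOf A) X) :=
    PresheafOfModules.Finite.evaluation_preservesFiniteColimits (Adeq.ringOf A) X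
  have h := hC.map_of_exact (PresheafOfModules.evaluation.{u+1} (Adeq.ringOf A) X)
  refine ⟨?_, ?_, ?_⟩
  · exact (ModuleCat.mono_iff_injective _).mp h.mono_f
  · exact (ModuleCat.epi_iff_surjective _).mp h.epi_g
  · exact (ShortComplex.ShortExact.moduleCat_exact_iff_function_exact _).mp h.exact

/-- transition map as an additive map -/
noncomputable def tr (F : Adeq.MVF A) {X Y : (Adeq.Alg A)ᵒᵖᵒᵖ} (f : X ⟶ Y) : F.obj X →+ F.obj Y :=
  (F.map f).hom.toAddMonoidHom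

theorem tr_apply (F : Adeq.MVF A) {X Y : (Adeq.Alg A)ᵒᵖᵒᵖ} (f : X ⟶ Y) (x : F.obj X) :
    tr F f x = F.map f x := rfl

theorem tr_comp (F : Adeq.MVF A) {X Y Z : (Adeq.Alg A)ᵒᵖᵒᵖ} (f : X ⟶ Y) (g : Y ⟶ Z) (x : F.obj X) :
    tr F (f ≫ g) x = tr F g (tr F f x) := F.map_comp_apply f g x

theorem tr_id (F : Adeq.MVF A) (X : (Adeq.Alg A)ᵒᵖᵒᵖ) (x : F.obj X) : tr F (𝟙 X) x = x := by
  rw [tr_apply, F.map_id]; rfl

/-- component of a natural transformation as an additive map -/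
noncomputable def nt {F G : Adeq.MVF A} (φ : F ⟶ G) (X : (Adeq.Alg A)ᵒᵖᵒᵖ) : F.obj X →+ G.obj X :=
  (φ.app X).hom.toAddMonoidHom

theorem nt_tr {F G : Adeq.MVF A} (φ : F ⟶ G) {X Y : (Adeq.Alg A)ᵒᵖᵒᵖ} (f : X ⟶ Y) (x : F.obj X) :
    nt φ Y (tr F f x) = tr G f (nt φ X x) := PresheafOfModules.naturality_apply φ f x

variable (B : Adeq.Alg A)

theorem mem_tangent {N : ModuleCat.{u} B} (F : Adeq.MVF A) (x : F.obj (Adeq.pt (AdeqTF.ext B N))) :
    x ∈ AdeqTF.tangent B N F ↔ tr F (Adeq.ptHom (AdeqTF.fst B N)) x = 0 := Iff.rfl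

theorem tangentMap_coe {N N' : ModuleCat.{u} B} (F : Adeq.MVF A) (g : N ⟶ N')
    (x : AdeqTF.tangent B N F) :
    ((AdeqTF.tangentMap B F g x : AdeqTF.tangent B N' F) : F.obj (Adeq.pt (AdeqTF.ext B N'))) =
      tr F (Adeq.ptHom (AdeqTF.map B g)) x.1 := rfl

/-- the map on tangent modules induced by a morphism of functors -/
noncomputable def tanNat {F G : Adeq.MVF A} (φ : F ⟶ G) (N : ModuleCat.{u} B) :
    AdeqTF.tangent B N F →+ AdeqTF.tangent B N G :=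
  ((nt φ (Adeq.pt (AdeqTF.ext B N))).comp
    (AdeqTF.tangent B N F).subtype).codRestrict (AdeqTF.tangent B N G) (fun x => by
      obtain ⟨x, hx⟩ := x
      rw [mem_tangent] at hx
      change tr G (Adeq.ptHom (AdeqTF.fst B N)) (nt φ _ x) = 0
      rw [← nt_tr, hx, map_zero])

theorem tanNat_coe {F G : Adeq.MVF A} (φ : F ⟶ G) (N : ModuleCat.{u} B)
    (x : AdeqTF.tangent B N F) :
    ((tanNat B φ N x : AdeqTF.tangent B N G) : G.obj (Adeq.pt (AdeqTF.ext B N))) =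
      nt φ (Adeq.pt (AdeqTF.ext B N)) x.1 := rfl

theorem tanNat_comm {F G : Adeq.MVF A} (φ : F ⟶ G) {N N' : ModuleCat.{u} B} (g : N ⟶ N')
    (x : AdeqTF.tangent B N F) :
    tanNat B φ N' (AdeqTF.tangentMap B F g x) = AdeqTF.tangentMap B G g (tanNat B φ N x) := by
  apply Subtype.ext
  rw [tanNat_coe, tangentMap_coe, tangentMap_coe, tanNat_coe, nt_tr]

theorem inl_fst (N : ModuleCat.{u} B) : AdeqTF.inl B N ≫ AdeqTF.fst B N = 𝟙 B := by
  apply CommAlgCat.hom_ext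
  refine AlgHom.ext fun x => ?_
  rfl

theorem tr_fst_inl (F : Adeq.MVF A) (N : ModuleCat.{u} B) (y : F.obj (Adeq.pt B)) :
    tr F (Adeq.ptHom (AdeqTF.fst B N)) (tr F (Adeq.ptHom (AdeqTF.inl B N)) y) = y := by
  have e : Adeq.ptHom (AdeqTF.inl B N) ≫ Adeq.ptHom (AdeqTF.fst B N) = 𝟙 (Adeq.pt B) :=
    congrArg Adeq.ptHom (inl_fst B N)
  rw [← tr_comp, e, tr_id]

section cols
variable (C : ShortComplex (Adeq.MVF A)) (hC : C.ShortExact)
include hC

theorem nt_inj (X : (Adeq.Alg A)ᵒᵖᵒᵖ) : Function.Injective (nt C.f X) := (ev_facts C hC X).1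
theorem nt_surj (X : (Adeq.Alg A)ᵒᵖᵒᵖ) : Function.Surjective (nt C.g X) := (ev_facts C hC X).2.1
theorem nt_exact (X : (Adeq.Alg A)ᵒᵖᵒᵖ) : Function.Exact (nt C.f X) (nt C.g X) := (ev_facts C hC X).2.2

theorem col_inj (N : ModuleCat.{u} B) : Function.Injective (tanNat B C.f N) := by
  intro x y h
  apply Subtype.ext
  have h1 := congrArg Subtype.val h
  rw [tanNat_coe, tanNat_coe] at h1
  exact nt_inj C hC _ h1

theorem col_exact (N : ModuleCat.{u} B) : Function.Exact (tanNat B C.f N) (tanNat B C.g N) := by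
  intro y
  constructor
  · intro h
    have h1 : nt C.g (Adeq.pt (AdeqTF.ext B N)) y.1 = 0 := congrArg Subtype.val h
    obtain ⟨x, hx⟩ := (nt_exact C hC _ y.1).mp h1
    have hxt : x ∈ AdeqTF.tangent B N C.X₁ := by
      rw [mem_tangent]
      apply nt_inj C hC (Adeq.pt B)
      rw [nt_tr, hx, map_zero]
      exact y.2
    exact ⟨⟨x, hxt⟩, Subtype.ext hx⟩
  · rintro ⟨x, rfl⟩
    apply Subtype.ext
    rw [tanNat_coe, tanNat_coe]
    exact (nt_exact C hC _).apply_apply_eq_zero x.1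

theorem col_surj (N : ModuleCat.{u} B) : Function.Surjective (tanNat B C.g N) := by
  intro h
  obtain ⟨g, hg⟩ := nt_surj C hC (Adeq.pt (AdeqTF.ext B N)) h.1
  have h1 : nt C.g (Adeq.pt B) (tr C.X₂ (Adeq.ptHom (AdeqTF.fst B N)) g) = 0 := by
    rw [nt_tr, hg]
    exact h.2
  obtain ⟨f0, hf0⟩ := (nt_exact C hC (Adeq.pt B) _).mp h1
  let g' := g - tr C.X₂ (Adeq.ptHom (AdeqTF.inl B N)) (nt C.f (Adeq.pt B) f0)
  have hg't : g' ∈ AdeqTF.tangent B N C.X₂ := by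
    rw [mem_tangent]
    simp only [g', map_sub]
    rw [tr_fst_inl, hf0, sub_self]
  refine ⟨⟨g', hg't⟩, Subtype.ext ?_⟩
  rw [tanNat_coe]
  simp only [g', map_sub]
  rw [hg, nt_tr, (nt_exact C hC (Adeq.pt B)).apply_apply_eq_zero f0, map_zero, sub_zero]

end cols

theorem map_comp' {N N' N'' : ModuleCat.{u} B} (g : N ⟶ N') (g' : N' ⟶ N'') :
    AdeqTF.map B (g ≫ g') = AdeqTF.map B g ≫ AdeqTF.map B g' := by
  apply CommAlgCat.hom_ext
  refine AlgHom.ext fun x => ?_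
  show TrivSqZeroExt.map (g ≫ g').hom x = TrivSqZeroExt.map g'.hom (TrivSqZeroExt.map g.hom x)
  apply TrivSqZeroExt.ext
  · simp
  · simp

theorem map_id' (N : ModuleCat.{u} B) : AdeqTF.map B (𝟙 N) = 𝟙 _ := by
  apply CommAlgCat.hom_ext
  refine AlgHom.ext fun x => ?_
  show TrivSqZeroExt.map (𝟙 N : N ⟶ N).hom x = x
  apply TrivSqZeroExt.ext
  · simp
  · simp

theorem map_zero' (N N' : ModuleCat.{u} B) :
    AdeqTF.map B (0 : N ⟶ N') = AdeqTF.fst B N ≫ AdeqTF.inl B N' := by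
  apply CommAlgCat.hom_ext
  refine AlgHom.ext fun x => ?_
  show TrivSqZeroExt.map (0 : N ⟶ N').hom x = TrivSqZeroExt.inl (TrivSqZeroExt.fst x)
  apply TrivSqZeroExt.ext
  · rw [TrivSqZeroExt.fst_map, TrivSqZeroExt.fst_inl]
  · rw [TrivSqZeroExt.snd_map, TrivSqZeroExt.snd_inl, ModuleCat.hom_zero, LinearMap.zero_apply]

theorem tangentMap_comp (F : Adeq.MVF A) {N N' N'' : ModuleCat.{u} B} (g : N ⟶ N') (g' : N' ⟶ N'')
    (x : AdeqTF.tangent B N F) :
    AdeqTF.tangentMap B F (g ≫ g') x = AdeqTF.tangentMap B F g' (AdeqTF.tangentMap B F g x) := by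
  apply Subtype.ext
  rw [tangentMap_coe, tangentMap_coe, tangentMap_coe, map_comp']
  exact tr_comp F (Adeq.ptHom (AdeqTF.map B g)) (Adeq.ptHom (AdeqTF.map B g')) x.1

theorem tangentMap_id (F : Adeq.MVF A) (N : ModuleCat.{u} B) (x : AdeqTF.tangent B N F) :
    AdeqTF.tangentMap B F (𝟙 N) x = x := by
  apply Subtype.ext
  rw [tangentMap_coe, map_id']
  exact tr_id F (Adeq.pt (AdeqTF.ext B N)) x.1

theorem tangentMap_zero (F : Adeq.MVF A) (N N' : ModuleCat.{u} B) (x : AdeqTF.tangent B N F) :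
    AdeqTF.tangentMap B F (0 : N ⟶ N') x = 0 := by
  apply Subtype.ext
  rw [tangentMap_coe, map_zero']
  have h : tr F (Adeq.ptHom (AdeqTF.fst B N ≫ AdeqTF.inl B N')) x.1 =
      tr F (Adeq.ptHom (AdeqTF.inl B N')) (tr F (Adeq.ptHom (AdeqTF.fst B N)) x.1) :=
    tr_comp F (Adeq.ptHom (AdeqTF.fst B N)) (Adeq.ptHom (AdeqTF.inl B N')) x.1
  rw [h, (mem_tangent B F x.1).mp x.2, map_zero]
  rfl

section abstract

variable {F1 F2 F3 G1 G2 G3 H1 H2 H3 : Type*} [AddCommGroup F1] [AddCommGroup F2] [AddCommGroup F3]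
  [AddCommGroup G1] [AddCommGroup G2] [AddCommGroup G3] [AddCommGroup H1] [AddCommGroup H2]
  [AddCommGroup H3]

omit [AddCommGroup F1] in
theorem three_bot
    (f2 : F2 →+ F3) (g1 : G1 →+ G2) (g2 : G2 →+ G3) (h1 : H1 →+ H2) (h2 : H2 →+ H3)
    (a2 : F2 →+ G2) (a3 : F3 →+ G3) (b1 : G1 →+ H1) (b2 : G2 →+ H2) (b3 : G3 →+ H3)
    (ca2 : ∀ x, a3 (f2 x) = g2 (a2 x))
    (cb1 : ∀ x, b2 (g1 x) = h1 (b1 x)) (cb2 : ∀ x, b3 (g2 x) = h2 (b2 x))
    (sb1 : Function.Surjective b1) (sb2 : Function.Surjective b2) (sb3 : Function.Surjective b3)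
    (e2z : ∀ x, b2 (a2 x) = 0) (e3 : Function.Exact a3 b3)
    (sf2 : Function.Surjective f2) (sg2 : Function.Surjective g2) (eg : g2.ker = g1.range) :
    Function.Surjective h2 ∧ h2.ker = h1.range := by
  have gg : ∀ x, g2 (g1 x) = 0 := by
    intro x
    have : g1 x ∈ g2.ker := by rw [eg]; exact ⟨x, rfl⟩
    exact this
  constructor
  · intro y
    obtain ⟨g, rfl⟩ := sb3 y
    obtain ⟨g', rfl⟩ := sg2 g
    exact ⟨b2 g', (cb2 g').symm⟩
  · ext h
    constructor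
    · intro hh
      have hh' : h2 h = 0 := hh
      obtain ⟨g, rfl⟩ := sb2 h
      rw [← cb2] at hh'
      obtain ⟨f3, hf3⟩ := (e3 _).mp hh'
      obtain ⟨f, rfl⟩ := sf2 f3
      have h3 : g - a2 f ∈ g2.ker := by
        show g2 (g - a2 f) = 0
        rw [map_sub, ← ca2, hf3, sub_self]
      rw [eg] at h3
      obtain ⟨g1', hg1'⟩ := h3
      refine ⟨b1 g1', ?_⟩
      rw [← cb1, hg1', map_sub, e2z, sub_zero]
    · rintro ⟨h', rfl⟩
      obtain ⟨g', rfl⟩ := sb1 h'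
      show h2 (h1 (b1 g')) = 0
      rw [← cb1, ← cb2, gg, map_zero]

theorem three_mid
    (f1 : F1 →+ F2) (f2 : F2 →+ F3) (g1 : G1 →+ G2) (g2 : G2 →+ G3) (h1 : H1 →+ H2) (h2 : H2 →+ H3)
    (a1 : F1 →+ G1) (a2 : F2 →+ G2) (a3 : F3 →+ G3) (b1 : G1 →+ H1) (b2 : G2 →+ H2) (b3 : G3 →+ H3)
    (ca1 : ∀ x, a2 (f1 x) = g1 (a1 x)) (ca2 : ∀ x, a3 (f2 x) = g2 (a2 x))
    (cb1 : ∀ x, b2 (g1 x) = h1 (b1 x)) (cb2 : ∀ x, b3 (g2 x) = h2 (b2 x))
    (sb1 : Function.Surjective b1) (sb2 : Function.Surjective b2)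
    (e2 : Function.Exact a2 b2) (e3 : Function.Exact a3 b3) (ia3 : Function.Injective a3)
    (sf2 : Function.Surjective f2) (ef : f2.ker = f1.range)
    (sh2 : Function.Surjective h2) (eh : h2.ker = h1.range) (gg : ∀ x, g2 (g1 x) = 0) :
    Function.Surjective g2 ∧ g2.ker = g1.range := by
  constructor
  · intro y
    obtain ⟨h, hh⟩ := sh2 (b3 y)
    obtain ⟨g, rfl⟩ := sb2 h
    have h1' : b3 (y - g2 g) = 0 := by rw [map_sub, cb2, hh, sub_self]
    obtain ⟨f3, hf3⟩ := (e3 _).mp h1'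
    obtain ⟨f, rfl⟩ := sf2 f3
    refine ⟨g + a2 f, ?_⟩
    rw [map_add, ← ca2, hf3]; abel
  · ext g
    constructor
    · intro hg
      have hg' : g2 g = 0 := hg
      have h3 : b2 g ∈ h2.ker := by
        show h2 (b2 g) = 0
        rw [← cb2, hg', map_zero]
      rw [eh] at h3
      obtain ⟨h', hh'⟩ := h3
      obtain ⟨g', rfl⟩ := sb1 h'
      have h4 : b2 (g - g1 g') = 0 := by rw [map_sub, cb1, hh', sub_self]
      obtain ⟨f, hf⟩ := (e2 _).mp h4
      have h5 : f ∈ f2.ker := by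
        show f2 f = 0
        apply ia3
        rw [ca2, hf, map_sub, hg', gg, sub_zero, map_zero]
      rw [ef] at h5
      obtain ⟨f', rfl⟩ := h5
      refine ⟨g' + a1 f', ?_⟩
      rw [map_add, ← ca1, hf]; abel
    · rintro ⟨g', rfl⟩
      exact gg g'

end abstract

section results
variable (C : ShortComplex (Adeq.MVF A)) (hC : C.ShortExact)
include hC

theorem right_exact_X₃
    (h₁ : (∀ (B : Adeq.Alg A) (S : ShortComplex (ModuleCat.{u} B)), S.ShortExact →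
        Function.Surjective (AdeqTF.tangentMap B C.X₁ S.g) ∧
          (AdeqTF.tangentMap B C.X₁ S.g).ker = (AdeqTF.tangentMap B C.X₁ S.f).range))
    (h₂ : (∀ (B : Adeq.Alg A) (S : ShortComplex (ModuleCat.{u} B)), S.ShortExact →
        Function.Surjective (AdeqTF.tangentMap B C.X₂ S.g) ∧
          (AdeqTF.tangentMap B C.X₂ S.g).ker = (AdeqTF.tangentMap B C.X₂ S.f).range)) :
    (∀ (B : Adeq.Alg A) (S : ShortComplex (ModuleCat.{u} B)), S.ShortExact →
        Function.Surjective (AdeqTF.tangentMap B C.X₃ S.g) ∧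
          (AdeqTF.tangentMap B C.X₃ S.g).ker = (AdeqTF.tangentMap B C.X₃ S.f).range) := by
  intro B S hS
  exact three_bot (AdeqTF.tangentMap B C.X₁ S.g) (AdeqTF.tangentMap B C.X₂ S.f)
    (AdeqTF.tangentMap B C.X₂ S.g) (AdeqTF.tangentMap B C.X₃ S.f) (AdeqTF.tangentMap B C.X₃ S.g)
    (tanNat B C.f S.X₂) (tanNat B C.f S.X₃) (tanNat B C.g S.X₁) (tanNat B C.g S.X₂)
    (tanNat B C.g S.X₃)
    (fun x => tanNat_comm B C.f S.g x) (fun x => tanNat_comm B C.g S.f x)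
    (fun x => tanNat_comm B C.g S.g x)
    (col_surj B C hC _) (col_surj B C hC _) (col_surj B C hC _)
    (fun x => (col_exact B C hC S.X₂).apply_apply_eq_zero x) (col_exact B C hC S.X₃)
    (h₁ B S hS).1 (h₂ B S hS).1 (h₂ B S hS).2

theorem right_exact_X₂
    (h₁ : (∀ (B : Adeq.Alg A) (S : ShortComplex (ModuleCat.{u} B)), S.ShortExact →
        Function.Surjective (AdeqTF.tangentMap B C.X₁ S.g) ∧
          (AdeqTF.tangentMap B C.X₁ S.g).ker = (AdeqTF.tangentMap B C.X₁ S.f).range))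
    (h₃ : (∀ (B : Adeq.Alg A) (S : ShortComplex (ModuleCat.{u} B)), S.ShortExact →
        Function.Surjective (AdeqTF.tangentMap B C.X₃ S.g) ∧
          (AdeqTF.tangentMap B C.X₃ S.g).ker = (AdeqTF.tangentMap B C.X₃ S.f).range)) :
    (∀ (B : Adeq.Alg A) (S : ShortComplex (ModuleCat.{u} B)), S.ShortExact →
        Function.Surjective (AdeqTF.tangentMap B C.X₂ S.g) ∧
          (AdeqTF.tangentMap B C.X₂ S.g).ker = (AdeqTF.tangentMap B C.X₂ S.f).range) := by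
  intro B S hS
  refine three_mid (AdeqTF.tangentMap B C.X₁ S.f) (AdeqTF.tangentMap B C.X₁ S.g)
    (AdeqTF.tangentMap B C.X₂ S.f)
    (AdeqTF.tangentMap B C.X₂ S.g) (AdeqTF.tangentMap B C.X₃ S.f) (AdeqTF.tangentMap B C.X₃ S.g)
    (tanNat B C.f S.X₁) (tanNat B C.f S.X₂) (tanNat B C.f S.X₃) (tanNat B C.g S.X₁)
    (tanNat B C.g S.X₂) (tanNat B C.g S.X₃)
    (fun x => tanNat_comm B C.f S.f x) (fun x => tanNat_comm B C.f S.g x)
    (fun x => tanNat_comm B C.g S.f x) (fun x => tanNat_comm B C.g S.g x)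
    (col_surj B C hC _) (col_surj B C hC _)
    (col_exact B C hC S.X₂) (col_exact B C hC S.X₃) (col_inj B C hC S.X₃)
    (h₁ B S hS).1 (h₁ B S hS).2 (h₃ B S hS).1 (h₃ B S hS).2 ?_
  intro x
  rw [← tangentMap_comp, S.zero, tangentMap_zero]

end results


open Limits in
theorem biprod_bij (F : Adeq.MVF A)
    (hF : (∀ (B : Adeq.Alg A) (S : ShortComplex (ModuleCat.{u} B)), S.ShortExact →
        Function.Surjective (AdeqTF.tangentMap B F S.g) ∧
          (AdeqTF.tangentMap B F S.g).ker = (AdeqTF.tangentMap B F S.f).range))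
    (B : Adeq.Alg A) (N₁ N₂ : ModuleCat.{u} B) :
    Function.Bijective ((AdeqTF.tangentMap B F (biprod.inl : N₁ ⟶ N₁ ⊞ N₂)).coprod
      (AdeqTF.tangentMap B F (biprod.inr : N₂ ⟶ N₁ ⊞ N₂))) := by
  have hS := (ShortComplex.Splitting.ofHasBinaryBiproduct N₁ N₂).shortExact
  have hex := (hF B _ hS).2
  have e1 : ∀ x, AdeqTF.tangentMap B F (biprod.snd : N₁ ⊞ N₂ ⟶ N₂)
      (AdeqTF.tangentMap B F (biprod.inl : N₁ ⟶ N₁ ⊞ N₂) x) = 0 := by
    intro x; rw [← tangentMap_comp, biprod.inl_snd, tangentMap_zero]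
  have e2 : ∀ x, AdeqTF.tangentMap B F (biprod.snd : N₁ ⊞ N₂ ⟶ N₂)
      (AdeqTF.tangentMap B F (biprod.inr : N₂ ⟶ N₁ ⊞ N₂) x) = x := by
    intro x; rw [← tangentMap_comp, biprod.inr_snd, tangentMap_id]
  have e3 : ∀ x, AdeqTF.tangentMap B F (biprod.fst : N₁ ⊞ N₂ ⟶ N₁)
      (AdeqTF.tangentMap B F (biprod.inl : N₁ ⟶ N₁ ⊞ N₂) x) = x := by
    intro x; rw [← tangentMap_comp, biprod.inl_fst, tangentMap_id]
  have e4 : ∀ x, AdeqTF.tangentMap B F (biprod.fst : N₁ ⊞ N₂ ⟶ N₁)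
      (AdeqTF.tangentMap B F (biprod.inr : N₂ ⟶ N₁ ⊞ N₂) x) = 0 := by
    intro x; rw [← tangentMap_comp, biprod.inr_fst, tangentMap_zero]
  constructor
  · rw [injective_iff_map_eq_zero]
    rintro ⟨x1, x2⟩ h
    rw [AddMonoidHom.coprod_apply] at h
    have h2 := congrArg (AdeqTF.tangentMap B F (biprod.snd : N₁ ⊞ N₂ ⟶ N₂)) h
    rw [map_add, e1, e2, zero_add, map_zero] at h2
    have h1 := congrArg (AdeqTF.tangentMap B F (biprod.fst : N₁ ⊞ N₂ ⟶ N₁)) h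
    rw [map_add, e3, e4, add_zero, map_zero] at h1
    exact Prod.ext h1 h2
  · intro y
    have hy : y - AdeqTF.tangentMap B F (biprod.inr : N₂ ⟶ N₁ ⊞ N₂)
        (AdeqTF.tangentMap B F (biprod.snd : N₁ ⊞ N₂ ⟶ N₂) y) ∈
        (AdeqTF.tangentMap B F (biprod.snd : N₁ ⊞ N₂ ⟶ N₂)).ker := by
      show AdeqTF.tangentMap B F (biprod.snd : N₁ ⊞ N₂ ⟶ N₂) _ = 0
      rw [map_sub, e2, sub_self]
    rw [hex] at hy
    obtain ⟨x1, hx1⟩ := hy
    refine ⟨(x1, AdeqTF.tangentMap B F (biprod.snd : N₁ ⊞ N₂ ⟶ N₂) y), ?_⟩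
    rw [AddMonoidHom.coprod_apply]
    have hx1' : AdeqTF.tangentMap B F (biprod.inl : N₁ ⟶ N₁ ⊞ N₂) x1 = _ := hx1
    rw [hx1']
    abel

end Groth.Agent.Lib.helper28.TanFun
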