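import Groth.Agent.Lib.helper28.TotInt

/-!
The Reynolds operator of a total integral on the comodule algebra `B` itself, as a retraction
`B → B^A` linear over the invariants (helper28).
-/

set_option autoImplicit false
set_option linter.unusedSectionVars false
set_option linter.unusedVariables false
universe u v w

open TensorProduct

namespace Groth.Agent.Lib.helper28.TotIntAlg

open Groth.Agent.Lib.helper28.TotInt

section
variable (k : Type u) [CommRing k] (A : Type v) [CommRing A] [Bialgebra k A]
  (B : Type w) [CommRing B] [Algebra k B]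

lemma hmSMul_eq_mul (x y : B ⊗[k] A) : TameAct.hmSMul k A B B x y = x * y := by
  induction x using TensorProduct.induction_on with
  | zero => simp
  | tmul b a =>
    induction y using TensorProduct.induction_on with
    | zero => simp
    | tmul m a' => simp [Algebra.TensorProduct.tmul_mul_tmul]
    | add y z hy hz => rw [map_add, hy, hz, mul_add]
  | add x z hx hz => rw [map_add, LinearMap.add_apply, hx, hz, add_mul]

variable [HopfRep.Comod k A B] [GLin.IsCoactAlg k A B]

/-- a comodule algebra is a Hopf module over itself. -/
theorem isHopfMod_self : TameAct.IsHopfMod k A B B :=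
  ⟨fun b m => by
    rw [smul_eq_mul, GLin.IsCoactAlg.coact_mul (k := k) (A := A), hmSMul_eq_mul]⟩

end

section
variable (k : Type u) [CommRing k] (A : Type v) [CommRing A] [HopfAlgebra k A]
  (B : Type w) [CommRing B] [Algebra k B] [HopfRep.Comod k A B] [GLin.IsCoactAlg k A B]
  (α : A →ₗ[k] B)

/-- the Reynolds operator on `B`. -/
noncomputable def Rey : B →ₗ[k] B := TameAct.reynolds k A B B α

theorem Rey_mem (hα : Hoch.IsComodHom A α) (b : B) : Rey k A B α b ∈ GLin.invariants k A B := by
  haveI := isHopfMod_self k A B
  show HopfRep.Comod.coact (k := k) (A := A) (TameAct.reynolds k A B B α b) =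
      TameAct.reynolds k A B B α b ⊗ₜ[k] (1 : A)
  rw [reynolds_eq]
  have h := LinearMap.congr_fun (coact_lam k A B B α hα) (b ⊗ₜ[k] (1 : A))
  simp only [LinearMap.comp_apply, Hoch.Ind.coactAux_tmul, Bialgebra.comul_one,
    Algebra.TensorProduct.one_def, TensorProduct.assoc_symm_tmul, LinearMap.rTensor_tmul] at h
  exact h

theorem Rey_of_mem (hα1 : α 1 = 1) (b : B) (hb : b ∈ GLin.invariants k A B) :
    Rey k A B α b = b := by
  have h : HopfRep.Comod.coact (k := k) (A := A) b = b ⊗ₜ[k] (1 : A) := hb
  rw [Rey, TameAct.reynolds_apply_of_coact_eq k A B B α b b 1 h, HopfAlgebra.antipode_one, hα1,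
    one_smul]

theorem Rey_mul_left (c : B) (hc : c ∈ GLin.invariants k A B) (b : B) :
    Rey k A B α (c * b) = c * Rey k A B α b := by
  have h : HopfRep.Comod.coact (k := k) (A := A) c = c ⊗ₜ[k] (1 : A) := hc
  rw [Rey, TameAct.reynolds, LinearMap.comp_apply, LinearMap.comp_apply,
    GLin.IsCoactAlg.coact_mul (k := k) (A := A), h]
  generalize HopfRep.Comod.coact (k := k) (A := A) b = y
  induction y using TensorProduct.induction_on with
  | zero => simp
  | tmul m a => simp [Algebra.TensorProduct.tmul_mul_tmul, mul_left_comm]
  | add x y hx hy => rw [mul_add, map_add, hx, hy, map_add, mul_add]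

/-- the Reynolds operator as a retraction onto the invariants, linear over the invariants. -/
noncomputable def ReyC (hα : Hoch.IsComodHom A α) :
    B →ₗ[GLin.invariants k A B] GLin.invariants k A B where
  toFun b := ⟨Rey k A B α b, Rey_mem k A B α hα b⟩
  map_add' x y := by
    apply Subtype.ext
    simp
  map_smul' c x := by
    apply Subtype.ext
    simp only [RingHom.id_apply]
    show Rey k A B α (c • x) = ((c • (⟨Rey k A B α x, Rey_mem k A B α hα x⟩ :
      GLin.invariants k A B) : GLin.invariants k A B) : B)
    have h1 : c • x = (c : B) * x := rfl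
    rw [h1, Rey_mul_left k A B α _ c.2]
    rfl

@[simp] lemma ReyC_coe (hα : Hoch.IsComodHom A α) (b : B) :
    ((ReyC k A B α hα b : GLin.invariants k A B) : B) = Rey k A B α b := rfl

theorem ReyC_algebraMap (hα : Hoch.IsComodHom A α) (hα1 : α 1 = 1) (c : GLin.invariants k A B) :
    ReyC k A B α hα (algebraMap (GLin.invariants k A B) B c) = c := by
  apply Subtype.ext
  exact Rey_of_mem k A B α hα1 _ c.2

theorem ReyC_mem_of_mem_map (hα : Hoch.IsComodHom A α) (c : Ideal (GLin.invariants k A B))
    (y : B) (hy : y ∈ c.map (algebraMap (GLin.invariants k A B) B)) :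
    ReyC k A B α hα y ∈ c := by
  have key : ∀ y ∈ c.map (algebraMap (GLin.invariants k A B) B), ∀ b : B,
      ReyC k A B α hα (b * y) ∈ c := by
    intro y hy
    rw [Ideal.map] at hy
    induction hy using Submodule.span_induction with
    | mem y hy =>
      obtain ⟨z, hz, rfl⟩ := hy
      intro b
      have h1 : b * algebraMap (GLin.invariants k A B) B z = z • b := by
        rw [Algebra.smul_def, mul_comm]
      rw [h1, map_smul, smul_eq_mul]
      exact c.mul_mem_right _ hz
    | zero =>
      intro b
      rw [mul_zero, map_zero]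
      exact c.zero_mem
    | add y z _ _ hy hz =>
      intro b
      rw [mul_add, map_add]
      exact c.add_mem (hy b) (hz b)
    | smul a y _ hy =>
      intro b
      rw [smul_eq_mul, ← mul_assoc]
      exact hy (b * a)
  have := key y hy 1
  rwa [one_mul] at this

/-- the Reynolds operator preserves ideals which are subcomodules. -/
theorem Rey_mem_ideal (b : Ideal B)
    (hb : HopfRep.IsSubcomod (k := k) (A := A) (b.restrictScalars k)) (y : B) (hy : y ∈ b) :
    Rey k A B α y ∈ b := by
  obtain ⟨z, hz⟩ := hb y hy
  rw [Rey, TameAct.reynolds, LinearMap.comp_apply, ← hz]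
  clear hz
  induction z using TensorProduct.induction_on with
  | zero => simp
  | tmul m a =>
    simp only [LinearMap.rTensor_tmul, Submodule.subtype_apply, TensorProduct.lift.tmul,
      LinearMap.flip_apply, LinearMap.comp_apply, AlgHom.toLinearMap_apply, Algebra.lsmul_coe,
      smul_eq_mul]
    exact b.mul_mem_left _ m.2
  | add x y hx hy => rw [map_add, map_add]; exact b.add_mem hx hy

end

end Groth.Agent.Lib.helper28.TotIntAlg
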