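import Mathlib
import Groth.Prelude.Def_WittGrp
import Groth.Agent.S19239

/-!
helper28 library: truncated Witt vectors `W_{n+1}(k)` of a perfect field of characteristic `p`
form a local ring with maximal ideal `(p)`, `p^{n+1} = 0`, residue field `k` via the zeroth
coefficient.  Also the solvability conditions (h2), (h3) of the SigmaLin statements for the
Frobenius of an algebraically closed field.
-/

set_option autoImplicit false
set_option linter.unusedSectionVars false
universe u

namespace Groth.Agent.Lib.helper28.TruncWitt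

open WittVector

section Basic

variable (p : ℕ) [hp : Fact p.Prime] (k : Type u) [Field k] [CharP k p] (n : ℕ)

theorem p_pow_eq_zero : ((p : TruncatedWittVector p n k)) ^ n = 0 := by
  have h1 : ((p : TruncatedWittVector p n k)) ^ n =
      WittVector.truncate n ((p : WittVector p k) ^ n) := by
    rw [map_pow, map_natCast]
  rw [h1]
  apply TruncatedWittVector.ext
  intro i
  rw [WittVector.coeff_truncate, TruncatedWittVector.coeff_zero]
  exact WittVector.coeff_p_pow_eq_zero p k (Nat.ne_of_lt i.2)

/-- The zeroth coefficient as a ring homomorphism. -/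
noncomputable def coeffZero : TruncatedWittVector p (n + 1) k →+* k where
  toFun x := x.coeff 0
  map_one' := by
    rw [← map_one (WittVector.truncate (p := p) (R := k) (n + 1)), WittVector.coeff_truncate]
    exact WittVector.one_coeff_zero p k
  map_zero' := TruncatedWittVector.coeff_zero p _ _ _
  map_mul' x y := by
    obtain ⟨X, rfl⟩ := WittVector.truncate_surjective p (n + 1) k x
    obtain ⟨Y, rfl⟩ := WittVector.truncate_surjective p (n + 1) k y
    rw [← map_mul, WittVector.coeff_truncate, WittVector.coeff_truncate,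
      WittVector.coeff_truncate]
    exact WittVector.mul_coeff_zero X Y
  map_add' x y := by
    obtain ⟨X, rfl⟩ := WittVector.truncate_surjective p (n + 1) k x
    obtain ⟨Y, rfl⟩ := WittVector.truncate_surjective p (n + 1) k y
    rw [← map_add, WittVector.coeff_truncate, WittVector.coeff_truncate,
      WittVector.coeff_truncate]
    exact WittVector.add_coeff_zero X Y

theorem coeffZero_apply (x : TruncatedWittVector p (n + 1) k) :
    coeffZero p k n x = x.coeff 0 := rfl

theorem coeffZero_surjective : Function.Surjective (coeffZero p k n) := by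
  intro a
  refine ⟨TruncatedWittVector.mk p (fun _ => a), ?_⟩
  rw [coeffZero_apply, TruncatedWittVector.coeff_mk]

theorem coeffZero_p : coeffZero p k n (p : TruncatedWittVector p (n + 1) k) = 0 := by
  rw [map_natCast]
  exact CharP.cast_eq_zero k p

instance : Nontrivial (TruncatedWittVector p (n + 1) k) :=
  (coeffZero p k n).domain_nontrivial

theorem isUnit_of_coeffZero_ne_zero (x : TruncatedWittVector p (n + 1) k)
    (hx : coeffZero p k n x ≠ 0) : IsUnit x := by
  obtain ⟨X, rfl⟩ := WittVector.truncate_surjective p (n + 1) k x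
  rw [coeffZero_apply, WittVector.coeff_truncate] at hx
  exact (WittVector.isUnit_of_coeff_zero_ne_zero X hx).map _

theorem isUnit_iff (x : TruncatedWittVector p (n + 1) k) :
    IsUnit x ↔ coeffZero p k n x ≠ 0 :=
  ⟨fun h => (h.map (coeffZero p k n)).ne_zero, isUnit_of_coeffZero_ne_zero p k n x⟩

instance : IsLocalRing (TruncatedWittVector p (n + 1) k) :=
  IsLocalRing.of_nonunits_add (by
    intro a b ha hb
    rw [mem_nonunits_iff, isUnit_iff, not_not] at ha hb ⊢
    rw [map_add, ha, hb, add_zero])

theorem mem_maximalIdeal_iff (x : TruncatedWittVector p (n + 1) k) :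
    x ∈ IsLocalRing.maximalIdeal (TruncatedWittVector p (n + 1) k) ↔ coeffZero p k n x = 0 := by
  rw [IsLocalRing.mem_maximalIdeal, mem_nonunits_iff, isUnit_iff, not_not]


theorem maximalIdeal_eq_ker :
    IsLocalRing.maximalIdeal (TruncatedWittVector p (n + 1) k) = RingHom.ker (coeffZero p k n) := by
  ext x
  rw [mem_maximalIdeal_iff, RingHom.mem_ker]

/-- The residue field of `W_{n+1}(k)` is `k`, via the zeroth coefficient. -/
noncomputable def resEquiv :
    IsLocalRing.ResidueField (TruncatedWittVector p (n + 1) k) ≃+* k :=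
  (Ideal.quotEquivOfEq (maximalIdeal_eq_ker p k n)).trans
    (RingHom.quotientKerEquivOfSurjective (coeffZero_surjective p k n))

theorem resEquiv_residue (x : TruncatedWittVector p (n + 1) k) :
    resEquiv p k n (IsLocalRing.residue _ x) = x.coeff 0 := rfl

theorem residue_eq_iff (x y : TruncatedWittVector p (n + 1) k) :
    IsLocalRing.residue _ x = IsLocalRing.residue _ y ↔ x.coeff 0 = y.coeff 0 := by
  rw [← resEquiv_residue, ← resEquiv_residue, (resEquiv p k n).injective.eq_iff]

variable [PerfectRing k p]

theorem mem_span_p_of_coeffZero_eq_zero (x : TruncatedWittVector p (n + 1) k)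
    (hx : coeffZero p k n x = 0) : x ∈ Ideal.span {(p : TruncatedWittVector p (n + 1) k)} := by
  obtain ⟨X, rfl⟩ := WittVector.truncate_surjective p (n + 1) k x
  rw [coeffZero_apply, WittVector.coeff_truncate] at hx
  by_cases hX : X = 0
  · rw [hX, map_zero]; exact Submodule.zero_mem _
  · obtain ⟨m, b, hb, rfl⟩ := WittVector.exists_eq_pow_p_mul X hX
    rcases m with _ | m
    · rw [pow_zero, one_mul] at hx
      exact absurd hx hb
    · rw [Ideal.mem_span_singleton']
      refine ⟨WittVector.truncate (n + 1) ((p : WittVector p k) ^ m * b), ?_⟩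
      rw [← map_natCast (WittVector.truncate (p := p) (R := k) (n + 1)) p, ← map_mul]
      congr 1
      ring

theorem maximalIdeal_eq :
    IsLocalRing.maximalIdeal (TruncatedWittVector p (n + 1) k) =
      Ideal.span {(p : TruncatedWittVector p (n + 1) k)} := by
  apply le_antisymm
  · intro x hx
    exact mem_span_p_of_coeffZero_eq_zero p k n x ((mem_maximalIdeal_iff p k n x).mp hx)
  · rw [Ideal.span_le, Set.singleton_subset_iff, SetLike.mem_coe, mem_maximalIdeal_iff]
    exact coeffZero_p p k n

end Basic


section Frob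
open Polynomial

theorem h3_frob (p : ℕ) [hp : Fact p.Prime] (k : Type u) [Field k] [CharP k p] [IsAlgClosed k]
    (c : k) : ∃ y : k, frobenius k p y - y + c = 0 := by
  have hdeg : (X ^ p - X + C c : k[X]).degree ≠ 0 := by
    intro h
    have h1 := Polynomial.eq_C_of_degree_eq_zero h
    have h2 := congrArg (fun q => q.coeff p) h1
    have hp0 : p ≠ 0 := hp.out.ne_zero
    have hp1 : p ≠ 1 := hp.out.ne_one
    simp [Polynomial.coeff_X, Polynomial.coeff_C, hp0, hp0.symm, hp1.symm] at h2
  obtain ⟨z, hz⟩ := IsAlgClosed.exists_root _ hdeg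
  refine ⟨z, ?_⟩
  rw [frobenius_def]
  simpa using hz

theorem h2_frob (p : ℕ) [hp : Fact p.Prime] (k : Type u) [Field k] [CharP k p] [IsAlgClosed k]
    (n : ℕ) (b : Fin (n + 1) → k) (hb : b ≠ 0) :
    ∃ x : k, x ≠ 0 ∧ x = ∑ i : Fin (n + 1),
      (⇑(frobenius k p))^[i.val + 1] x * (⇑(frobenius k p))^[i.val] (b (Fin.rev i)) := by
  have hφinj : Function.Injective (frobenius k p) := frobenius_inj k p
  have hge : ∀ i : Fin (n + 1), 2 ≤ p ^ (i.val + 1) := fun i =>
    le_trans hp.out.two_le (Nat.le_self_pow (by omega) p)
  set β : Fin (n + 1) → k := fun i => (⇑(frobenius k p))^[i.val] (b (Fin.rev i)) with hβ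
  obtain ⟨i₀, hi₀⟩ : ∃ i₀, β i₀ ≠ 0 := by
    by_contra hcon
    push Not at hcon
    apply hb
    funext j
    have := hcon (Fin.rev j)
    simp only [hβ, Fin.rev_rev] at this
    exact (hφinj.iterate _) (this.trans (iterate_map_zero (frobenius k p) _).symm)
  set G : k[X] := ∑ i : Fin (n + 1), C (β i) * X ^ (p ^ (i.val + 1) - 1) - 1 with hG
  have hcoeff : G.coeff (p ^ (i₀.val + 1) - 1) = β i₀ := by
    rw [hG, Polynomial.coeff_sub, Polynomial.finsetSum_coeff]
    simp_rw [Polynomial.coeff_C_mul_X_pow]
    rw [Finset.sum_eq_single i₀]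
    · rw [if_pos rfl, Polynomial.coeff_one, if_neg, sub_zero]
      have := hge i₀
      omega
    · intro j _ hj
      rw [if_neg]
      intro h
      apply hj
      have h1 := hge i₀
      have h2 := hge j
      have h3 : p ^ (i₀.val + 1) = p ^ (j.val + 1) := by omega
      have h4 := Nat.pow_right_injective hp.out.two_le h3
      ext
      omega
    · simp
  have hdeg : G.degree ≠ 0 := by
    intro h
    have h1 := Polynomial.eq_C_of_degree_eq_zero h
    have h2 := congrArg (fun q => q.coeff (p ^ (i₀.val + 1) - 1)) h1
    simp only [hcoeff, Polynomial.coeff_C] at h2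
    rw [if_neg (by have := hge i₀; omega)] at h2
    exact hi₀ h2
  obtain ⟨u, hu⟩ := IsAlgClosed.exists_root G hdeg
  have hu1 : ∑ i : Fin (n + 1), β i * u ^ (p ^ (i.val + 1) - 1) = 1 := by
    have := hu
    simp only [Polynomial.IsRoot.def, hG, Polynomial.eval_sub, Polynomial.eval_finsetSum,
      Polynomial.eval_mul, Polynomial.eval_C, Polynomial.eval_pow, Polynomial.eval_X,
      Polynomial.eval_one] at this
    exact sub_eq_zero.mp this
  have hu0 : u ≠ 0 := by
    rintro rfl
    have : ∀ i : Fin (n+1), β i * (0:k) ^ (p ^ (i.val + 1) - 1) = 0 := fun i => by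
      rw [zero_pow (by have := hge i; omega), mul_zero]
    simp only [this, Finset.sum_const_zero] at hu1
    exact zero_ne_one hu1
  refine ⟨u, hu0, ?_⟩
  simp_rw [iterate_frobenius]
  calc u = u * 1 := (mul_one _).symm
    _ = u * ∑ i, β i * u ^ (p ^ (i.val + 1) - 1) := by rw [hu1]
    _ = ∑ i, u ^ p ^ (i.val + 1) * β i := by
      rw [Finset.mul_sum]
      refine Finset.sum_congr rfl fun i _ => ?_
      have : u ^ p ^ (i.val + 1) = u * u ^ (p ^ (i.val + 1) - 1) := by
        rw [← pow_succ']; congr 1; have := hge i; omega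
      rw [this]
      ring
    _ = ∑ i : Fin (n + 1), u ^ p ^ (i.val + 1) * b (Fin.rev i) ^ p ^ i.val := by
      simp_rw [hβ, iterate_frobenius]

end Frob

section AlgClosed

variable (p : ℕ) [hp : Fact p.Prime] (k : Type u) [Field k] [CharP k p] [IsAlgClosed k] (n : ℕ)

theorem finite_fixed (m : ℕ)
    (σ : TruncatedWittVector p m k →+* TruncatedWittVector p m k)
    (hσ : σ = WittGrp.truncMap p m (frobenius k p) ∨
      σ = WittGrp.truncMap p m (frobeniusEquiv k p).symm.toRingHom) :
    {r : TruncatedWittVector p m k | σ r = r}.Finite := by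
  classical
  have hF₀ : {a : k | a ^ p = a}.Finite := by
    have hne : (Polynomial.X ^ p - Polynomial.X : Polynomial k) ≠ 0 := by
      intro h
      have h2 := congrArg (fun q => q.coeff p) h
      have hp0 : p ≠ 0 := hp.out.ne_zero
      have hp1 : p ≠ 1 := hp.out.ne_one
      simp [Polynomial.coeff_X, hp1.symm] at h2
    refine (Polynomial.finite_setOfPred_isRoot hne).subset ?_
    intro a ha
    simp only [Set.mem_setOf_eq] at ha
    simp [Polynomial.IsRoot.def, ha]
  have hpi : (Set.univ.pi fun _ : Fin m => {a : k | a ^ p = a}).Finite :=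
    Set.Finite.pi fun _ => hF₀
  have hinj : Function.Injective
      (fun (r : TruncatedWittVector p m k) (i : Fin m) => r.coeff i) := by
    intro r r' h
    exact TruncatedWittVector.ext fun i => congrFun h i
  refine (hpi.preimage hinj.injOn).subset ?_
  intro r hr
  simp only [Set.mem_setOf_eq] at hr
  simp only [Set.mem_preimage, Set.mem_pi, Set.mem_univ, true_implies, Set.mem_setOf_eq]
  intro i
  have hi : TruncatedWittVector.coeff i (σ r) = TruncatedWittVector.coeff i r := by rw [hr]
  rcases hσ with rfl | rfl
  · rw [WittGrp.coeff_truncMap, frobenius_def] at hi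
    exact hi
  · rw [WittGrp.coeff_truncMap] at hi
    have h2 := frobenius_apply_frobeniusEquiv_symm k p (r.coeff i)
    have h3 : (frobeniusEquiv k p).symm.toRingHom (r.coeff i) =
        (frobeniusEquiv k p).symm (r.coeff i) := rfl
    rw [h3] at hi
    rw [hi, frobenius_def] at h2
    exact h2

theorem exists_sigmaBar
    (σ : TruncatedWittVector p (n + 1) k →+* TruncatedWittVector p (n + 1) k)
    (hσ : σ = WittGrp.truncMap p (n + 1) (frobenius k p) ∨
      σ = WittGrp.truncMap p (n + 1) (frobeniusEquiv k p).symm.toRingHom) :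
    ∃ σbar : IsLocalRing.ResidueField (TruncatedWittVector p (n + 1) k) →+*
        IsLocalRing.ResidueField (TruncatedWittVector p (n + 1) k),
      (∀ r : TruncatedWittVector p (n + 1) k,
        σbar (IsLocalRing.residue _ r) = IsLocalRing.residue _ (σ r)) ∧
      Function.Surjective σbar ∧
      (∀ (m : ℕ) (b : Fin (m + 1) → IsLocalRing.ResidueField (TruncatedWittVector p (n + 1) k)),
        b ≠ 0 → ∃ x : IsLocalRing.ResidueField (TruncatedWittVector p (n + 1) k), x ≠ 0 ∧
          x = ∑ i : Fin (m + 1), (⇑σbar)^[i.val + 1] x * (⇑σbar)^[i.val] (b (Fin.rev i))) ∧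
      (∀ c : IsLocalRing.ResidueField (TruncatedWittVector p (n + 1) k),
        ∃ y : IsLocalRing.ResidueField (TruncatedWittVector p (n + 1) k), σbar y - y + c = 0) ∧
      (∀ x : IsLocalRing.ResidueField (TruncatedWittVector p (n + 1) k), σbar x = x →
        ∃ r : TruncatedWittVector p (n + 1) k, σ r = r ∧ IsLocalRing.residue _ r = x) := by
  classical
  set e := resEquiv p k n with he
  haveI : CharP (IsLocalRing.ResidueField (TruncatedWittVector p (n + 1) k)) p :=
    charP_of_injective_ringHom (f := (e.symm : k →+* _)) e.symm.injective p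
  haveI : IsAlgClosed (IsLocalRing.ResidueField (TruncatedWittVector p (n + 1) k)) :=
    IsAlgClosed.of_ringEquiv k _ e.symm
  have hres : ∀ x : IsLocalRing.ResidueField (TruncatedWittVector p (n + 1) k),
      ∃ r, IsLocalRing.residue _ r = x := IsLocalRing.residue_surjective
  -- lifting of fixed elements
  have hliftgen : ∀ x : IsLocalRing.ResidueField (TruncatedWittVector p (n + 1) k), x ^ p = x →
      ∃ r : TruncatedWittVector p (n + 1) k, (∀ i, (r.coeff i) ^ p = r.coeff i) ∧
        IsLocalRing.residue _ r = x := by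
    intro x hx
    have ha : (e x) ^ p = e x := by rw [← map_pow, hx]
    refine ⟨TruncatedWittVector.mk p (fun _ => e x), fun i => ?_, ?_⟩
    · rw [TruncatedWittVector.coeff_mk]; exact ha
    · apply e.injective
      rw [he, resEquiv_residue, TruncatedWittVector.coeff_mk]
  rcases hσ with rfl | rfl
  · refine ⟨frobenius _ p, ?_, (bijective_frobenius _ p).surjective, h2_frob p _, h3_frob p _, ?_⟩
    · intro r
      rw [frobenius_def, ← map_pow, residue_eq_iff, WittGrp.coeff_truncMap, frobenius_def,
        ← coeffZero_apply, ← coeffZero_apply, map_pow]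
    · intro x hx
      rw [frobenius_def] at hx
      obtain ⟨r, hr, hrx⟩ := hliftgen x hx
      refine ⟨r, ?_, hrx⟩
      apply TruncatedWittVector.ext
      intro i
      rw [WittGrp.coeff_truncMap, frobenius_def, hr]
  · refine ⟨(frobeniusEquiv _ p).symm.toRingHom, ?_, (frobeniusEquiv _ p).symm.surjective,
      Groth.Agent.S19239.h2_frobInv p _, Groth.Agent.S19239.h3_frobInv p _, ?_⟩
    · intro r
      show (frobeniusEquiv _ p).symm (IsLocalRing.residue _ r) = _
      rw [RingEquiv.symm_apply_eq, _root_.frobeniusEquiv_apply, frobenius_def, ← map_pow, residue_eq_iff,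
        ← coeffZero_apply, ← coeffZero_apply, map_pow, coeffZero_apply, coeffZero_apply,
        WittGrp.coeff_truncMap]
      exact (frobenius_apply_frobeniusEquiv_symm k p (r.coeff 0)).symm
    · intro x hx
      have hx' : x ^ p = x := by
        have h1 : (frobeniusEquiv _ p).symm x = x := hx
        rw [RingEquiv.symm_apply_eq, _root_.frobeniusEquiv_apply, frobenius_def] at h1
        exact h1.symm
      obtain ⟨r, hr, hrx⟩ := hliftgen x hx'
      refine ⟨r, ?_, hrx⟩
      apply TruncatedWittVector.ext
      intro i
      rw [WittGrp.coeff_truncMap]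
      show (frobeniusEquiv k p).symm (r.coeff i) = r.coeff i
      rw [RingEquiv.symm_apply_eq, _root_.frobeniusEquiv_apply, frobenius_def, hr]

end AlgClosed

end Groth.Agent.Lib.helper28.TruncWitt
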