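import Mathlib

/-!
helper28 library: van Dantzig's theorem for locally compact totally disconnected Hausdorff
additive groups, and residual finiteness of finitely generated abelian groups.
-/

set_option autoImplicit false

namespace Groth.Agent.Lib.helper28.VanDantzig

open Topology Set Filter Pointwise

theorem exists_add_closure_nhds {G : Type*} [AddGroup G] [TopologicalSpace G]
    [IsTopologicalAddGroup G] {W : Set G} (hWc : IsCompact W) (hWo : IsOpen W) :
    ∃ T ∈ 𝓝 (0 : G), W + T ⊆ W := by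
  apply hWc.induction_on (p := fun S ↦ ∃ T ∈ 𝓝 (0 : G), S + T ⊆ W)
    ⟨Set.univ, by simp⟩
    (fun _ _ huv ⟨T, hT, mem⟩ ↦ ⟨T, hT, (Set.add_subset_add_right huv).trans mem⟩)
    fun U V ⟨T₁, hT₁, mem1⟩ ⟨T₂, hT₂, mem2⟩ ↦ ⟨T₁ ∩ T₂, Filter.inter_mem hT₁ hT₂, by
      rw [Set.union_add]
      exact Set.union_subset (Set.add_subset_add_left Set.inter_subset_left |>.trans mem1)
        (Set.add_subset_add_left Set.inter_subset_right |>.trans mem2) ⟩
  intro x memW
  have : (x, 0) ∈ (fun p : G × G ↦ p.1 + p.2) ⁻¹' W := by simp [memW]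
  rcases isOpen_prod_iff.mp (continuous_add.isOpen_preimage W hWo) x 0 this with
    ⟨U, V, Uopen, Vopen, xmemU, onememV, prodsub⟩
  have h6 : U + V ⊆ W := Set.add_subset_iff.mpr (fun _ hx _ hy ↦ prodsub (Set.mk_mem_prod hx hy))
  exact ⟨U ∩ W, ⟨U, Uopen.mem_nhds xmemU, W, fun _ a ↦ a, rfl⟩,
    V, IsOpen.mem_nhds Vopen onememV,
    fun _ a ↦ h6 ((Set.add_subset_add_right Set.inter_subset_left) a)⟩

/-- van Dantzig: compact open subgroups form a neighbourhood basis of `0`. -/
theorem exists_compact_open_subgroup_subset {B : Type*} [AddGroup B] [TopologicalSpace B]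
    [IsTopologicalAddGroup B] [T2Space B] [LocallyCompactSpace B] [TotallyDisconnectedSpace B]
    {U : Set B} (hU : U ∈ 𝓝 (0 : B)) :
    ∃ H : AddSubgroup B, IsOpen (H : Set B) ∧ IsCompact (H : Set B) ∧ (H : Set B) ⊆ U := by
  obtain ⟨K, hK0, hKU, hKc⟩ := local_compact_nhds hU
  obtain ⟨W, hWclopen, h0W, hWK⟩ :=
    (loc_compact_Haus_tot_disc_of_zero_dim (H := B)).mem_nhds_iff.mp hK0
  have hWc : IsCompact W := hKc.of_isClosed_subset hWclopen.isClosed hWK
  obtain ⟨T, hT, hWT⟩ := exists_add_closure_nhds hWc hWclopen.isOpen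
  set V : Set B := T ∩ -T with hV
  have hVnhds : V ∈ 𝓝 (0 : B) := Filter.inter_mem hT (neg_mem_nhds_zero B hT)
  have hVneg : ∀ x ∈ V, -x ∈ V := by
    intro x hx
    refine ⟨?_, ?_⟩
    · have := hx.2
      simpa using this
    · simpa using hx.1
  have hWV : ∀ w ∈ W, ∀ x ∈ V, w + x ∈ W := fun w hw x hx =>
    hWT (Set.add_mem_add hw hx.1)
  set H : AddSubgroup B := AddSubgroup.closure V with hH
  have hP : ∀ x ∈ H, (∀ w ∈ W, w + x ∈ W) ∧ (∀ w ∈ W, w - x ∈ W) := by
    intro x hx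
    induction hx using AddSubgroup.closure_induction with
    | mem x hx =>
      refine ⟨fun w hw => hWV w hw x hx, fun w hw => ?_⟩
      rw [sub_eq_add_neg]
      exact hWV w hw _ (hVneg x hx)
    | zero => simp
    | add x y _ _ hx hy =>
      refine ⟨fun w hw => ?_, fun w hw => ?_⟩
      · rw [← add_assoc]; exact hy.1 _ (hx.1 w hw)
      · rw [sub_add_eq_sub_sub_swap]; exact hx.2 _ (hy.2 w hw)
    | neg x _ hx =>
      refine ⟨fun w hw => ?_, fun w hw => ?_⟩
      · rw [← sub_eq_add_neg]; exact hx.2 w hw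
      · rw [sub_neg_eq_add]; exact hx.1 w hw
  have hHW : (H : Set B) ⊆ W := by
    intro x hx
    have := (hP x hx).1 0 h0W
    simpa using this
  have hHopen : IsOpen (H : Set B) :=
    AddSubgroup.isOpen_of_mem_nhds H (Filter.mem_of_superset hVnhds AddSubgroup.subset_closure)
  refine ⟨H, hHopen, ?_, hHW.trans (hWK.trans hKU)⟩
  exact hWc.of_isClosed_subset (AddSubgroup.isClosed_of_isOpen H hHopen) hHW

/-- Finitely generated abelian groups are residually finite. -/
theorem exists_finiteIndex_not_mem_of_fg {Q : Type*} [AddCommGroup Q] [AddGroup.FG Q]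
    (q : Q) (hq : q ≠ 0) : ∃ N : AddSubgroup Q, N.FiniteIndex ∧ q ∉ N := by
  classical
  obtain ⟨n, ι, _, p, hp, e, ⟨φ⟩⟩ := AddCommGroup.equiv_free_prod_directSum_zmod Q
  have hφq : φ q ≠ 0 := fun h => hq (by simpa using h)
  by_cases ha : (φ q).1 = 0
  · have ht : (φ q).2 ≠ 0 := fun h => hφq (Prod.ext ha h)
    obtain ⟨i, hi⟩ : ∃ i, (φ q).2 i ≠ 0 := by
      by_contra hcon
      push Not at hcon
      exact ht (DFinsupp.ext hcon)
    haveI : NeZero (p i ^ e i) := ⟨pow_ne_zero _ (hp i).ne_zero⟩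
    let f : Q →+ ZMod (p i ^ e i) :=
      ((DFinsupp.evalAddMonoidHom i).comp (AddMonoidHom.snd _ _)).comp φ.toAddMonoidHom
    refine ⟨f.ker, AddSubgroup.finiteIndex_ker f, ?_⟩
    rw [AddMonoidHom.mem_ker]
    exact hi
  · obtain ⟨j, hj⟩ : ∃ j, (φ q).1 j ≠ 0 := by
      by_contra hcon
      push Not at hcon
      exact ha (Finsupp.ext hcon)
    set m : ℕ := ((φ q).1 j).natAbs + 1 with hm
    haveI : NeZero m := ⟨by omega⟩
    let f : Q →+ ZMod m :=
      ((Int.castAddHom (ZMod m)).comp ((Finsupp.applyAddHom j).comp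
        (AddMonoidHom.fst _ _))).comp φ.toAddMonoidHom
    refine ⟨f.ker, AddSubgroup.finiteIndex_ker f, ?_⟩
    rw [AddMonoidHom.mem_ker]
    show (((φ q).1 j : ℤ) : ZMod m) ≠ 0
    rw [Ne, ZMod.intCast_zmod_eq_zero_iff_dvd]
    intro hdvd
    have := Int.eq_zero_of_abs_lt_dvd hdvd (by
      rw [Int.abs_eq_natAbs, hm]
      push_cast
      omega)
    exact hj this

end Groth.Agent.Lib.helper28.VanDantzig
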