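import Mathlib

/-!
# Completeness of `W(R)` for `R` `p`-adically complete

Abstract lemma: a ring complete and separated for a countable linear topology (decreasing ideals
`J m`) is `a`-adically "series complete" for every topologically nilpotent `a`.
Applied to `W(R)` with `J m = ker (W(R) → W_m(R/p^m))`.
-/

namespace Groth.Agent.Lib.helper28.WittComplete

open WittVector

section Abstract

variable {W : Type*} [CommRing W] (J : ℕ → Ideal W)

theorem cauchy_limit
    (complete : ∀ s : ℕ → W, (∀ N, s (N+1) - s N ∈ J N) → ∃ L, ∀ N, L - s N ∈ J N)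
    (s : ℕ → W) (hs : ∀ m, ∃ N0, ∀ N, N0 ≤ N → s (N+1) - s N ∈ J m) :
    ∃ L, ∀ m, ∃ N0, ∀ N, N0 ≤ N → L - s N ∈ J m := by
  choose N0 hN0 using hs
  let ν : ℕ → ℕ := fun m => (Finset.range (m+1)).sup N0
  have hν : ∀ m, N0 m ≤ ν m := fun m => Finset.le_sup (f := N0) (Finset.self_mem_range_succ m)
  have hνmono : ∀ m, ν m ≤ ν (m+1) := fun m =>
    Finset.sup_mono (Finset.range_subset_range.2 (Nat.le_succ _))
  have tel : ∀ m N M, N0 m ≤ N → N ≤ M → s M - s N ∈ J m := by
    intro m N M hN hNM
    induction M, hNM using Nat.le_induction with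
    | base => simp
    | succ M hM ih =>
      have := hN0 m M (hN.trans hM)
      have e : s (M+1) - s N = (s (M+1) - s M) + (s M - s N) := by ring
      rw [e]; exact (J m).add_mem this ih
  obtain ⟨L, hL⟩ := complete (fun m => s (ν m))
    (fun m => tel m (ν m) (ν (m+1)) (hν m) (hνmono m))
  refine ⟨L, fun m => ⟨ν m, fun N hN => ?_⟩⟩
  have e : L - s N = (L - s (ν m)) - (s N - s (ν m)) := by ring
  rw [e]; exact (J m).sub_mem (hL m) (tel m (ν m) N (hν m) hN)

theorem series_limit
    (sep : ∀ x, (∀ m, x ∈ J m) → x = 0)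
    (complete : ∀ s : ℕ → W, (∀ N, s (N+1) - s N ∈ J N) → ∃ L, ∀ N, L - s N ∈ J N)
    (a : W) (ha : ∀ m, ∃ N, a ^ N ∈ J m)
    (V : W →+ W) (hVa : ∀ z, V (a * z) = a * V z) (hVJ : ∀ m z, z ∈ J m → V z ∈ J m)
    (f z : ℕ → W) (hf : ∀ n, f (n+1) - f n = a ^ n * V (z n)) :
    ∃ L, ∀ k, ∃ G, L - f k = a ^ k * V G := by
  have hpow : ∀ m, ∃ N0, ∀ N, N0 ≤ N → a ^ N ∈ J m := by
    intro m
    obtain ⟨N0, h⟩ := ha m
    refine ⟨N0, fun N hN => ?_⟩
    obtain ⟨d, rfl⟩ := Nat.exists_eq_add_of_le hN
    rw [pow_add]; exact (J m).mul_mem_right _ h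
  have hVpow : ∀ n z, V (a ^ n * z) = a ^ n * V z := by
    intro n; induction n with
    | zero => simp
    | succ n ih => intro z; rw [pow_succ, mul_assoc, ih, hVa, mul_assoc]
  obtain ⟨L, hL⟩ := cauchy_limit J complete f (fun m => by
    obtain ⟨N0, h⟩ := hpow m
    exact ⟨N0, fun N hN => by rw [hf]; exact (J m).mul_mem_right _ (h N hN)⟩)
  refine ⟨L, fun k => ?_⟩
  let g : ℕ → W := fun N => ∑ n ∈ Finset.range N, a ^ n * z (k + n)
  obtain ⟨G, hG⟩ := cauchy_limit J complete g (fun m => by
    obtain ⟨N0, h⟩ := hpow m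
    refine ⟨N0, fun N hN => ?_⟩
    simp only [g, Finset.sum_range_succ, add_sub_cancel_left]
    exact (J m).mul_mem_right _ (h N hN))
  have key : ∀ N, a ^ k * V (g N) = f (k + N) - f k := by
    intro N; induction N with
    | zero => simp [g]
    | succ N ih =>
      have e1 : g (N+1) = g N + a ^ N * z (k + N) := by
        simp only [g, Finset.sum_range_succ]
      have e2 : f (k + (N + 1)) = f (k + N) + a ^ (k + N) * V (z (k + N)) := by
        rw [← hf]; ring_nf
      rw [e1, map_add, mul_add, ih, hVpow, e2, pow_add]; ring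
  refine ⟨G, ?_⟩
  have : L - f k - a ^ k * V G = 0 := by
    apply sep; intro m
    obtain ⟨N1, h1⟩ := hL m
    obtain ⟨N2, h2⟩ := hG m
    have e : L - f k - a ^ k * V G = (L - f (k + max N1 N2)) - a ^ k * V (G - g (max N1 N2)) := by
      rw [map_sub, mul_sub, key]; ring
    rw [e]
    exact (J m).sub_mem (h1 _ (le_trans (le_max_left _ _) (Nat.le_add_left _ _)))
      ((J m).mul_mem_left _ (hVJ m _ (h2 _ (le_max_right _ _))))
  exact sub_eq_zero.1 this

end Abstract

section Witt

variable (p : ℕ) [hp : Fact p.Prime] (R : Type*) [CommRing R]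

/-- kernel of `W(R) → W_m(R/p^m)`. -/
noncomputable def Jw (m : ℕ) : Ideal (WittVector p R) :=
  RingHom.ker ((WittVector.truncate (p := p) m).comp
    (WittVector.map (Ideal.Quotient.mk ((Ideal.span {(p : R)}) ^ m))))

variable {p R}

theorem sub_mem_Jw_iff {m : ℕ} {x y : WittVector p R} :
    x - y ∈ Jw p R m ↔ ∀ i < m, x.coeff i - y.coeff i ∈ (Ideal.span {(p : R)}) ^ m := by
  rw [Jw, RingHom.mem_ker, map_sub, sub_eq_zero, RingHom.comp_apply, RingHom.comp_apply,
    TruncatedWittVector.ext_iff]
  constructor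
  · intro h i hi
    have := h ⟨i, hi⟩
    rw [WittVector.coeff_truncate, WittVector.coeff_truncate, WittVector.map_coeff,
      WittVector.map_coeff] at this
    exact Ideal.Quotient.eq.1 this
  · intro h i
    rw [WittVector.coeff_truncate, WittVector.coeff_truncate, WittVector.map_coeff,
      WittVector.map_coeff]
    exact Ideal.Quotient.eq.2 (h i i.2)

theorem mem_Jw_iff {m : ℕ} {x : WittVector p R} :
    x ∈ Jw p R m ↔ ∀ i < m, x.coeff i ∈ (Ideal.span {(p : R)}) ^ m := by
  have := sub_mem_Jw_iff (x := x) (y := 0) (m := m)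
  simpa using this

theorem Jw_anti (m : ℕ) : Jw p R (m+1) ≤ Jw p R m := by
  intro x hx
  rw [mem_Jw_iff] at hx ⊢
  intro i hi
  exact Ideal.pow_le_pow_right (Nat.le_succ m) (hx i (Nat.lt_succ_of_lt hi))

theorem Jw_sep [IsHausdorff (Ideal.span {(p : R)}) R] (x : WittVector p R)
    (hx : ∀ m, x ∈ Jw p R m) : x = 0 := by
  ext i
  rw [WittVector.zero_coeff]
  apply IsHausdorff.haus' (I := Ideal.span {(p : R)})
  intro n
  rw [SModEq.zero, smul_eq_mul, Ideal.mul_top]
  have := mem_Jw_iff.1 (hx (max n (i+1))) i (lt_of_lt_of_le (Nat.lt_succ_self i) (le_max_right _ _))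
  exact Ideal.pow_le_pow_right (le_max_left _ _) this

theorem Jw_complete [IsPrecomplete (Ideal.span {(p : R)}) R] (s : ℕ → WittVector p R)
    (hs : ∀ N, s (N+1) - s N ∈ Jw p R N) : ∃ L, ∀ N, L - s N ∈ Jw p R N := by
  -- coefficientwise successive differences
  have h1 : ∀ i N, i < N → (s (N+1)).coeff i - (s N).coeff i ∈ (Ideal.span {(p : R)}) ^ N :=
    fun i N hi => sub_mem_Jw_iff.1 (hs N) i hi
  have tel : ∀ i N M, i < N → N ≤ M → (s M).coeff i - (s N).coeff i ∈ (Ideal.span {(p : R)}) ^ N := by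
    intro i N M hi hNM
    induction M, hNM using Nat.le_induction with
    | base => simp
    | succ M hM ih =>
      have e : (s (M+1)).coeff i - (s N).coeff i =
          ((s (M+1)).coeff i - (s M).coeff i) + ((s M).coeff i - (s N).coeff i) := by ring
      rw [e]
      exact Ideal.add_mem _ (Ideal.pow_le_pow_right hM (h1 i M (lt_of_lt_of_le hi hM))) ih
  have hc : ∀ i, ∃ y : R, ∀ n, (s (n + i + 1)).coeff i ≡ y
      [SMOD ((Ideal.span {(p : R)}) ^ n • ⊤ : Submodule R R)] := by
    intro i
    apply IsPrecomplete.prec (I := Ideal.span {(p : R)}) inferInstance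
    intro m n hmn
    rw [SModEq.sub_mem, smul_eq_mul, Ideal.mul_top]
    have := tel i (m + i + 1) (n + i + 1) (by omega) (by omega)
    have h2 := Ideal.pow_le_pow_right (I := Ideal.span {(p : R)}) (show m ≤ m + i + 1 by omega) this
    rw [← neg_sub]; exact Ideal.neg_mem_iff _ |>.2 h2
  choose y hy using hc
  refine ⟨WittVector.mk p y, fun N => ?_⟩
  rw [sub_mem_Jw_iff]
  intro i hi
  rw [WittVector.coeff_mk]
  have h3 := hy i N
  rw [SModEq.sub_mem, smul_eq_mul, Ideal.mul_top] at h3
  have h4 := tel i N (N + i + 1) hi (by omega)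
  have e : y i - (s N).coeff i = -((s (N + i + 1)).coeff i - y i) +
      ((s (N + i + 1)).coeff i - (s N).coeff i) := by ring
  rw [e]
  exact Ideal.add_mem _ (Ideal.neg_mem_iff _ |>.2 h3) h4

theorem p_pow_mul_coeff_eq_zero {S : Type*} [CommRing S] (m : ℕ) (hpS : ((p : S)) ^ m = 0)
    (n : ℕ) (y : WittVector p S) (hy : ∀ i < n, y.coeff i = 0) :
    ∀ i < n + 1, (((p : WittVector p S)) ^ m * y).coeff i = 0 := by
  intro i hi
  obtain ⟨y', rfl⟩ : ∃ y', y = (⇑(WittVector.verschiebung : WittVector p S →+ WittVector p S))^[n] y' :=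
    ⟨_, WittVector.eq_iterate_verschiebung hy⟩
  have e : ((p : WittVector p S)) ^ m * ((⇑(WittVector.verschiebung : WittVector p S →+ WittVector p S))^[n] y')
      = (⇑(WittVector.verschiebung : WittVector p S →+ WittVector p S))^[n] (((p : WittVector p S)) ^ m * y') := by
    rw [← Nat.cast_pow, ← nsmul_eq_mul, ← nsmul_eq_mul]
    exact (iterate_map_nsmul _ _ _ _).symm
  rw [e]
  rcases Nat.lt_succ_iff_lt_or_eq.1 hi with h | rfl
  · exact WittVector.iterate_verschiebung_coeff_eq_zero _ h
  · have := WittVector.iterate_verschiebung_coeff (((p : WittVector p S)) ^ m * y') i 0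
    rw [zero_add] at this
    rw [this, WittVector.mul_coeff_zero]
    have h2 : (((p : WittVector p S)) ^ m).coeff 0 = (p : S) ^ m := by
      rw [← WittVector.constantCoeff_apply, map_pow, map_natCast]
    rw [h2, hpS, zero_mul]

theorem p_pow_coeff_eq_zero {S : Type*} [CommRing S] (m : ℕ) (hpS : ((p : S)) ^ m = 0)
    (n : ℕ) : ∀ i < n, (((p : WittVector p S)) ^ (m * n)).coeff i = 0 := by
  induction n with
  | zero => intro i hi; omega
  | succ n ih =>
    rw [Nat.mul_succ, pow_add, mul_comm]
    exact p_pow_mul_coeff_eq_zero m hpS n _ ih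

/-- `p` is topologically nilpotent. -/
theorem p_pow_mem_Jw (m : ℕ) : ((p : WittVector p R)) ^ (m * m) ∈ Jw p R m := by
  rw [Jw, RingHom.mem_ker, RingHom.comp_apply, map_pow, map_natCast]
  have hpS : ((p : R ⧸ (Ideal.span {(p : R)}) ^ m)) ^ m = 0 := by
    rw [← Nat.cast_pow, ← map_natCast (Ideal.Quotient.mk ((Ideal.span {(p : R)}) ^ m)),
      Ideal.Quotient.eq_zero_iff_mem, Nat.cast_pow]
    exact Ideal.pow_mem_pow (Ideal.mem_span_singleton_self (p : R)) m
  rw [TruncatedWittVector.ext_iff]
  intro i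
  rw [WittVector.coeff_truncate, TruncatedWittVector.coeff_zero]
  exact p_pow_coeff_eq_zero m hpS m i i.2

theorem verschiebung_natCast_mul (z : WittVector p R) :
    WittVector.verschiebung ((p : WittVector p R) * z) = (p : WittVector p R) * WittVector.verschiebung z := by
  rw [← nsmul_eq_mul, ← nsmul_eq_mul, map_nsmul]

theorem verschiebung_mem_Jw (m : ℕ) (z : WittVector p R) (hz : z ∈ Jw p R m) :
    WittVector.verschiebung z ∈ Jw p R m := by
  rw [mem_Jw_iff] at hz ⊢
  intro i hi
  cases i with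
  | zero => rw [WittVector.verschiebung_coeff_zero]; exact Ideal.zero_mem _
  | succ i => rw [WittVector.verschiebung_coeff_succ]; exact hz i (Nat.lt_of_succ_lt hi)

/-- `W(R)` is `p`-adically complete when `R` is. -/
theorem isAdicComplete_p [IsAdicComplete (Ideal.span {(p : R)}) R] :
    IsAdicComplete (Ideal.span {(p : WittVector p R)}) (WittVector p R) := by
  have hmem : ∀ n (x : WittVector p R),
      x ∈ ((Ideal.span {(p : WittVector p R)}) ^ n • ⊤ : Submodule (WittVector p R) (WittVector p R)) ↔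
        ∃ z, x = (p : WittVector p R) ^ n * z := by
    intro n x
    rw [smul_eq_mul, Ideal.mul_top, Ideal.span_singleton_pow, Ideal.mem_span_singleton']
    constructor
    · rintro ⟨z, rfl⟩; exact ⟨z, mul_comm _ _⟩
    · rintro ⟨z, rfl⟩; exact ⟨z, mul_comm _ _⟩
  have topnil : ∀ m, ∃ N, ((p : WittVector p R)) ^ N ∈ Jw p R m := fun m => ⟨m * m, p_pow_mem_Jw m⟩
  refine { toIsHausdorff := ⟨?_⟩, toIsPrecomplete := ⟨?_⟩ }
  · intro x hx
    apply Jw_sep
    intro m
    obtain ⟨N, hN⟩ := topnil m
    have := hx N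
    rw [SModEq.zero, hmem] at this
    obtain ⟨z, rfl⟩ := this
    exact (Jw p R m).mul_mem_right _ hN
  · intro f hf
    have h1 : ∀ n, ∃ z, f (n+1) - f n = (p : WittVector p R) ^ n * z := by
      intro n
      rw [← hmem]
      have := (hf (Nat.le_succ n)).symm
      rwa [SModEq.sub_mem] at this
    choose z hz using h1
    obtain ⟨L, hL⟩ := series_limit (Jw p R) Jw_sep Jw_complete (p : WittVector p R) topnil
      (AddMonoidHom.id _) (fun _ => rfl) (fun _ _ h => h) f z hz
    refine ⟨L, fun n => ?_⟩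
    obtain ⟨G, hG⟩ := hL n
    refine SModEq.symm ?_
    rw [SModEq.sub_mem, hmem]
    exact ⟨G, hG⟩

theorem exists_verschiebung_of_mem_ker {x : WittVector p R}
    (hx : x ∈ RingHom.ker (WittVector.constantCoeff : WittVector p R →+* R)) :
    ∃ z, x = WittVector.verschiebung z := by
  rw [RingHom.mem_ker, WittVector.constantCoeff_apply] at hx
  have := WittVector.eq_iterate_verschiebung (x := x) (n := 1) (fun i hi => by
    obtain rfl : i = 0 := by omega
    exact hx)
  exact ⟨x.shift 1, by simpa using this⟩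

theorem verschiebung_mem_ker (z : WittVector p R) :
    WittVector.verschiebung z ∈ RingHom.ker (WittVector.constantCoeff : WittVector p R →+* R) := by
  rw [RingHom.mem_ker, WittVector.constantCoeff_apply, WittVector.verschiebung_coeff_zero]

theorem verschiebung_mul_verschiebung (x y : WittVector p R) :
    WittVector.verschiebung x * WittVector.verschiebung y =
      (p : WittVector p R) * WittVector.verschiebung (x * y) := by
  rw [← WittVector.verschiebung_mul_frobenius, WittVector.frobenius_verschiebung,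
    ← verschiebung_natCast_mul]
  congr 1; ring

theorem exists_of_mem_ker_pow (n : ℕ) (x : WittVector p R)
    (hx : x ∈ (RingHom.ker (WittVector.constantCoeff : WittVector p R →+* R)) ^ (n + 1)) :
    ∃ z, x = (p : WittVector p R) ^ n * WittVector.verschiebung z := by
  induction n generalizing x with
  | zero =>
    rw [zero_add, pow_one] at hx
    obtain ⟨z, rfl⟩ := exists_verschiebung_of_mem_ker hx
    exact ⟨z, by simp⟩
  | succ n ih =>
    rw [pow_succ] at hx
    refine Submodule.mul_induction_on hx ?_ ?_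
    · intro a ha b hb
      obtain ⟨z, rfl⟩ := ih a ha
      obtain ⟨w, rfl⟩ := exists_verschiebung_of_mem_ker hb
      refine ⟨z * w, ?_⟩
      rw [mul_assoc, verschiebung_mul_verschiebung, pow_succ, mul_assoc]
    · rintro a b ⟨z, rfl⟩ ⟨w, rfl⟩
      exact ⟨z + w, by rw [map_add, mul_add]⟩

theorem mem_ker_pow (n : ℕ) (z : WittVector p R) :
    (p : WittVector p R) ^ n * WittVector.verschiebung z ∈
      (RingHom.ker (WittVector.constantCoeff : WittVector p R →+* R)) ^ (n + 1) := by
  induction n generalizing z with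
  | zero => simp
  | succ n ih =>
    have e : (p : WittVector p R) ^ (n + 1) * WittVector.verschiebung z =
        ((p : WittVector p R) ^ n * WittVector.verschiebung 1) * WittVector.verschiebung z := by
      rw [mul_assoc, verschiebung_mul_verschiebung, one_mul, pow_succ, mul_assoc]
    rw [e, pow_succ]
    exact Ideal.mul_mem_mul (ih 1) (verschiebung_mem_ker z)

/-- `W(R)` is `I_R`-adically complete when `R` is `p`-adically complete. -/
theorem isAdicComplete_ker [IsAdicComplete (Ideal.span {(p : R)}) R] :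
    IsAdicComplete (RingHom.ker (WittVector.constantCoeff : WittVector p R →+* R))
      (WittVector p R) := by
  have topnil : ∀ m, ∃ N, ((p : WittVector p R)) ^ N ∈ Jw p R m := fun m => ⟨m * m, p_pow_mem_Jw m⟩
  refine { toIsHausdorff := ⟨?_⟩, toIsPrecomplete := ⟨?_⟩ }
  · intro x hx
    apply Jw_sep
    intro m
    obtain ⟨N, hN⟩ := topnil m
    have := hx (N + 1)
    rw [SModEq.zero, smul_eq_mul, Ideal.mul_top] at this
    obtain ⟨z, rfl⟩ := exists_of_mem_ker_pow N x this
    exact (Jw p R m).mul_mem_right _ hN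
  · intro f hf
    have h1 : ∀ n, ∃ z, f (n+1+1) - f (n+1) = (p : WittVector p R) ^ n * WittVector.verschiebung z := by
      intro n
      apply exists_of_mem_ker_pow
      have := (hf (Nat.le_succ (n+1))).symm
      rwa [SModEq.sub_mem, smul_eq_mul, Ideal.mul_top] at this
    choose z hz using h1
    obtain ⟨L, hL⟩ := series_limit (Jw p R) Jw_sep Jw_complete (p : WittVector p R) topnil
      (WittVector.verschiebung : WittVector p R →+ WittVector p R) verschiebung_natCast_mul
      verschiebung_mem_Jw (fun n => f (n+1)) z hz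
    refine ⟨L, fun n => ?_⟩
    refine SModEq.symm ?_
    rw [SModEq.sub_mem, smul_eq_mul, Ideal.mul_top]
    cases n with
    | zero => simp
    | succ n =>
      obtain ⟨G, hG⟩ := hL n
      rw [hG]
      exact mem_ker_pow n G

end Witt

end Groth.Agent.Lib.helper28.WittComplete
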