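import Mathlib

/-!
# Multiplication by a Teichmüller representative, coefficientwise

`(teichmuller p t * a).coeff j = t ^ p ^ j * a.coeff j` for Witt vectors over an arbitrary
commutative ring, plus the truncated version and Frobenius of a Teichmüller lift when `p = 0`.
-/

set_option autoImplicit false

namespace Groth.Agent.Lib.helper28.WittTeich

open WittVector

variable {p : ℕ} [hp : Fact p.Prime]

private theorem aux₁ {σ : Type*} (t : MvPolynomial σ ℚ) (a : WittVector p (MvPolynomial σ ℚ)) :
    teichmuller p t * a = WittVector.mk p (fun j => t ^ p ^ j * a.coeff j) := by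
  apply (ghostMap.bijective_of_invertible p (MvPolynomial σ ℚ)).1
  rw [RingHom.map_mul]
  ext1 n
  rw [Pi.mul_apply, ghostMap_apply, ghostMap_apply, ghostMap_apply, ghostComponent_teichmuller,
    ghostComponent_apply, ghostComponent_apply, aeval_wittPolynomial, aeval_wittPolynomial,
    Finset.mul_sum]
  refine Finset.sum_congr rfl fun i hi => ?_
  have hi' : i ≤ n := Nat.lt_succ_iff.mp (Finset.mem_range.mp hi)
  simp only [WittVector.coeff_mk, mul_pow, ← pow_mul]
  rw [← pow_add, Nat.add_sub_cancel' hi']
  ring

private theorem map_mk {R S : Type*} [CommRing R] [CommRing S] (f : R →+* S) (c : ℕ → R) :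
    WittVector.map f (WittVector.mk p c) = WittVector.mk p (fun j => f (c j)) := by
  ext n
  simp [WittVector.map_coeff]

private theorem aux₂ {σ : Type*} (t : MvPolynomial σ ℤ) (a : WittVector p (MvPolynomial σ ℤ)) :
    teichmuller p t * a = WittVector.mk p (fun j => t ^ p ^ j * a.coeff j) := by
  refine map_injective (MvPolynomial.map (Int.castRingHom ℚ))
    (MvPolynomial.map_injective _ Int.cast_injective) ?_
  rw [RingHom.map_mul, map_teichmuller, aux₁, map_mk]
  congr 1
  funext j
  simp [WittVector.map_coeff]

/-- Multiplying by a Teichmüller representative scales the `j`-th coordinate by `t ^ p ^ j`. -/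
theorem teichmuller_mul_coeff {R : Type*} [CommRing R] (t : R) (a : WittVector p R) (j : ℕ) :
    (teichmuller p t * a).coeff j = t ^ p ^ j * a.coeff j := by
  obtain ⟨T, rfl⟩ := MvPolynomial.counit_surjective R t
  obtain ⟨A, rfl⟩ := WittVector.map_surjective _ (MvPolynomial.counit_surjective R) a
  rw [← map_teichmuller, ← RingHom.map_mul, aux₂, map_mk]
  simp [WittVector.map_coeff]

/-- Truncated version. -/
theorem truncate_teichmuller_mul_coeff {R : Type*} [CommRing R] (m : ℕ) (t : R)
    (a : TruncatedWittVector p m R) (j : Fin m) :
    (WittVector.truncate m (teichmuller p t) * a).coeff j = t ^ p ^ (j : ℕ) * a.coeff j := by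
  obtain ⟨A, rfl⟩ := WittVector.truncate_surjective p m R a
  rw [← RingHom.map_mul, WittVector.coeff_truncate, WittVector.coeff_truncate,
    teichmuller_mul_coeff]

/-- If `p = 0` in `R`, Frobenius of a Teichmüller lift is the Teichmüller lift of the `p`-th
power. -/
theorem frobenius_teichmuller {R : Type*} [CommRing R] (h : (p : R) = 0) (t : R) :
    WittVector.frobenius (teichmuller p t) = teichmuller p (t ^ p) := by
  rcases subsingleton_or_nontrivial R with hs | hn
  · ext n
    exact Subsingleton.elim _ _
  · haveI : CharP R p := (CharP.charP_iff_prime_eq_zero hp.out).2 h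
    rw [frobenius_eq_map_frobenius, map_teichmuller]
    rfl

theorem iterate_frobenius_teichmuller {R : Type*} [CommRing R] (h : (p : R) = 0) (t : R)
    (s : ℕ) : WittVector.frobenius^[s] (teichmuller p t) = teichmuller p (t ^ p ^ s) := by
  induction s with
  | zero => simp
  | succ s ih =>
    rw [Function.iterate_succ_apply', ih, frobenius_teichmuller h, ← pow_mul, pow_succ]

end Groth.Agent.Lib.helper28.WittTeich
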