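import Mathlib
import Groth.Prelude.Def_W4c6katofiltaWFil
import Groth.Agent.Lib.helper28.WittTeich

/-!
# Reduced forms in `A[1/(x_1 ⋯ x_r)]` for pairwise non-associated primes `x_i` of a UFD `A`

Every nonzero element of `B = A[1/∏ x_i]` is `α · ∏ u_i ^ e_i` with `x_i ∤ α`, and such an element
lies in (the image of) `A` iff all `e_i ≥ 0`.
-/

set_option autoImplicit false
set_option linter.unusedSectionVars false

namespace Groth.Agent.Lib.helper28.WittFilUFD

open WittFil

section zmon

variable {B : Type*} [CommRing B] {r : ℕ} (u : Fin r → Bˣ)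

theorem zmon_add (e e' : Fin r → ℤ) : zmon u (e + e') = zmon u e * zmon u e' := by
  unfold zmon
  rw [← Units.val_mul, ← Finset.prod_mul_distrib]
  congr 2
  funext i
  rw [Pi.add_apply, zpow_add]

theorem zmon_zero : zmon u (0 : Fin r → ℤ) = 1 := by
  unfold zmon
  simp

theorem zmon_nsmul (k : ℕ) (e : Fin r → ℤ) : zmon u (fun i => (k : ℤ) * e i) = zmon u e ^ k := by
  unfold zmon
  rw [← Units.val_pow_eq_pow_val, ← Finset.prod_pow]
  congr 2
  funext i
  show u i ^ ((k : ℤ) * e i) = (u i ^ e i) ^ k
  rw [mul_comm, zpow_mul, zpow_natCast]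

theorem zmon_isUnit (e : Fin r → ℤ) : IsUnit (zmon u e) := by
  unfold zmon
  exact Units.isUnit _

theorem zmon_neg_mul (e : Fin r → ℤ) : zmon u (-e) * zmon u e = 1 := by
  rw [← zmon_add, neg_add_cancel, zmon_zero]

end zmon

section ufd

variable {A B : Type*} [CommRing A] [IsDomain A] [UniqueFactorizationMonoid A]
  [CommRing B] [Algebra A B] {r : ℕ} (x : Fin r → A)
  (hx : ∀ i, Prime (x i)) (hxa : ∀ i j, Associated (x i) (x j) → i = j)
  [IsLocalization.Away (∏ i, x i) B] (u : Fin r → Bˣ)
  (hu : ∀ i, (u i : B) = algebraMap A B (x i))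

include hx in
theorem prod_ne_zero : (∏ i, x i) ≠ 0 :=
  Finset.prod_ne_zero_iff.2 fun i _ => (hx i).ne_zero

include hx in
theorem alg_injective : Function.Injective (algebraMap A B) :=
  IsLocalization.injective B (M := Submonoid.powers (∏ i, x i))
    (powers_le_nonZeroDivisors_of_noZeroDivisors (prod_ne_zero x hx))

include hu in
theorem zmon_of_nonneg (e : Fin r → ℤ) (he : ∀ i, 0 ≤ e i) :
    zmon u e = algebraMap A B (∏ i, x i ^ (e i).toNat) := by
  unfold zmon
  rw [Units.coe_prod, map_prod]
  refine Finset.prod_congr rfl fun i _ => ?_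
  rw [map_pow, ← hu i, ← Units.val_pow_eq_pow_val, ← zpow_natCast, Int.toNat_of_nonneg (he i)]

include hu in
theorem zmon_natCast (e : Fin r → ℕ) :
    zmon u (fun i => (e i : ℤ)) = algebraMap A B (∏ i, x i ^ e i) := by
  rw [zmon_of_nonneg x u hu _ (fun i => Int.natCast_nonneg _)]
  simp

include hx hxa in
/-- A prime `x i` does not divide a product of powers of the `x l` unless its own exponent is
positive. -/
theorem not_dvd_prod_pow (i : Fin r) (e : Fin r → ℕ) (hei : e i = 0) :
    ¬ x i ∣ ∏ l, x l ^ e l := by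
  intro h
  obtain ⟨l, -, hl⟩ := (Prime.dvd_finsetProd_iff (hx i) _).1 h
  have hne : e l ≠ 0 := by
    intro h0
    rw [h0, pow_zero] at hl
    exact (hx i).not_isUnit (isUnit_of_dvd_one hl)
  have h2 : x i ∣ x l := (hx i).dvd_of_dvd_pow hl
  have h3 : Associated (x i) (x l) := ((hx i).dvd_prime_iff_associated (hx l)).1 h2
  have := hxa i l h3
  subst this
  exact hne hei

include hx hxa hu in
theorem nonneg_of_mem (α : A) (hα : ∀ i, ¬ x i ∣ α) (e : Fin r → ℤ)
    (h : algebraMap A B α * zmon u e ∈ (algebraMap A B).range) : ∀ i, 0 ≤ e i := by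
  obtain ⟨β, hβ⟩ := h
  intro i
  by_contra hneg
  push Not at hneg
  -- positive and negative parts
  have hsplit : zmon u e * zmon u (fun l => ((-(e l)).toNat : ℤ)) =
      zmon u (fun l => ((e l).toNat : ℤ)) := by
    rw [← zmon_add]
    congr 1
    funext l
    simp only [Pi.add_apply]
    omega
  rw [zmon_natCast x u hu, zmon_natCast x u hu] at hsplit
  have h1 : algebraMap A B (β * ∏ l, x l ^ (-(e l)).toNat) =
      algebraMap A B (α * ∏ l, x l ^ (e l).toNat) := by
    rw [map_mul, map_mul, hβ, ← hsplit]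
    ring
  have h2 := alg_injective (B := B) x hx h1
  have h3 : x i ∣ α * ∏ l, x l ^ (e l).toNat := by
    rw [← h2]
    refine Dvd.dvd.mul_left ?_ _
    refine Dvd.dvd.trans ?_ (Finset.dvd_prod_of_mem _ (Finset.mem_univ i))
    refine dvd_pow_self _ ?_
    omega
  rcases (hx i).dvd_or_dvd h3 with h4 | h4
  · exact hα i h4
  · refine not_dvd_prod_pow x hx hxa i (fun l => (e l).toNat) ?_ h4
    show (e i).toNat = 0
    omega

include hx in
/-- Factor out all the primes `x i` with `i ∈ s` from a nonzero element. -/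
theorem exists_factor (a : A) (ha : a ≠ 0) (s : Finset (Fin r)) :
    ∃ (α : A) (v : Fin r → ℕ), (∀ i ∈ s, ¬ x i ∣ α) ∧ a = α * ∏ i ∈ s, x i ^ v i := by
  classical
  induction s using Finset.induction_on with
  | empty => exact ⟨a, fun _ => 0, by simp, by simp⟩
  | insert i s his ih =>
    obtain ⟨α, v, hα, hav⟩ := ih
    have hα0 : α ≠ 0 := by
      rintro rfl
      rw [zero_mul] at hav
      exact ha hav
    obtain ⟨k, α', hk, hα'⟩ := WfDvdMonoid.max_power_factor hα0 (hx i).irreducible
    refine ⟨α', Function.update v i k, ?_, ?_⟩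
    · intro l hl
      rcases Finset.mem_insert.1 hl with rfl | hl
      · exact hk
      · intro hdvd
        refine hα l hl ?_
        rw [hα']
        exact Dvd.dvd.mul_left hdvd _
    · rw [Finset.prod_insert his, Function.update_self, hav, hα']
      have : ∏ l ∈ s, x l ^ Function.update v i k l = ∏ l ∈ s, x l ^ v l := by
        refine Finset.prod_congr rfl fun l hl => ?_
        rw [Function.update_of_ne]
        rintro rfl
        exact his hl
      rw [this]
      ring

include hx hu in
/-- Reduced form of a nonzero element of `B`. -/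
theorem exists_red (b : B) (hb : b ≠ 0) :
    ∃ (α : A) (e : Fin r → ℤ), (∀ i, ¬ x i ∣ α) ∧ b = algebraMap A B α * zmon u e := by
  obtain ⟨k, a, hka⟩ := IsLocalization.Away.surj (∏ i, x i) b
  have ha : a ≠ 0 := by
    rintro rfl
    rw [map_zero] at hka
    have hunit : IsUnit (algebraMap A B (∏ i, x i) ^ k) :=
      (IsLocalization.Away.algebraMap_isUnit (S := B) (∏ i, x i)).pow k
    exact hb ((hunit.mul_left_eq_zero).1 hka)
  obtain ⟨α, v, hα, hav⟩ := exists_factor x hx a ha Finset.univ
  refine ⟨α, fun i => (v i : ℤ) - k, fun i => hα i (Finset.mem_univ i), ?_⟩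
  have h1 : zmon u (fun i => (v i : ℤ) - k) * zmon u (fun _ => (k : ℤ)) =
      zmon u (fun i => (v i : ℤ)) := by
    rw [← zmon_add]
    congr 1
    funext l
    simp
  have h2 : zmon u (fun _ => (k : ℤ)) = algebraMap A B (∏ i, x i) ^ k := by
    rw [zmon_natCast x u hu, ← map_pow, Finset.prod_pow]
  have hunit : IsUnit (algebraMap A B (∏ i, x i) ^ k) :=
    (IsLocalization.Away.algebraMap_isUnit (S := B) (∏ i, x i)).pow k
  refine hunit.mul_left_injective ?_
  show b * _ = algebraMap A B α * zmon u (fun i => (v i : ℤ) - k) * _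
  rw [hka, mul_assoc, ← h2, h1, zmon_natCast x u hu, ← map_mul, hav]

include hx hxa hu in
/-- The membership criterion: for `b = α · ∏ u_i ^ e_i` in reduced form, `b ^ k · ∏ u_i ^ n_i`
lies in `A` iff `k e_i + n_i ≥ 0` for all `i`. -/
theorem pow_mul_zmon_mem_iff (α : A) (hα : ∀ i, ¬ x i ∣ α) (e : Fin r → ℤ) (k : ℕ)
    (n : Fin r → ℤ) :
    (algebraMap A B α * zmon u e) ^ k * zmon u n ∈ (algebraMap A B).range ↔
      ∀ i, 0 ≤ (k : ℤ) * e i + n i := by
  have h1 : (algebraMap A B α * zmon u e) ^ k * zmon u n =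
      algebraMap A B (α ^ k) * zmon u (fun i => (k : ℤ) * e i + n i) := by
    have : (fun i => (k : ℤ) * e i + n i) = (fun i => (k : ℤ) * e i) + n := rfl
    rw [this, zmon_add, zmon_nsmul, map_pow]
    ring
  rw [h1]
  constructor
  · intro h
    exact nonneg_of_mem x hx hxa u hu (α ^ k) (fun i hdvd => hα i ((hx i).dvd_of_dvd_pow hdvd)) _ h
  · intro h
    rw [zmon_of_nonneg x u hu _ h, ← map_mul]
    exact ⟨_, rfl⟩

include hx hxa hu in
/-- Transfer of membership conditions through a comparison of the numerical criteria. -/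
theorem mem_transfer (y : B) (k k' : ℕ) (hk' : k' ≠ 0) (n n' : Fin r → ℤ)
    (H : ∀ i, ∀ e : ℤ, 0 ≤ (k : ℤ) * e + n i → 0 ≤ (k' : ℤ) * e + n' i)
    (h : y ^ k * zmon u n ∈ (algebraMap A B).range) :
    y ^ k' * zmon u n' ∈ (algebraMap A B).range := by
  by_cases hy : y = 0
  · subst hy
    rw [zero_pow hk', zero_mul]
    exact ⟨0, map_zero _⟩
  · obtain ⟨α, e, hα, rfl⟩ := exists_red x hx u hu y hy
    rw [pow_mul_zmon_mem_iff x hx hxa u hu α hα] at h ⊢
    exact fun i => H i (e i) (h i)

include hx hxa hu in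
/-- `A` is "root closed" in `B`. -/
theorem pow_mem_range_iff (y : B) (N : ℕ) (hN : N ≠ 0) :
    y ^ N ∈ (algebraMap A B).range ↔ y ∈ (algebraMap A B).range := by
  constructor
  · intro h
    have h' : y ^ N * zmon u (0 : Fin r → ℤ) ∈ (algebraMap A B).range := by
      rwa [zmon_zero, mul_one]
    have := mem_transfer x hx hxa u hu y N 1 one_ne_zero 0 0 ?_ h'
    · rwa [zmon_zero, mul_one, pow_one] at this
    · intro i e he
      simp only [Pi.zero_apply, add_zero, Nat.cast_one, one_mul] at he ⊢
      have hNpos : (0 : ℤ) < N := by exact_mod_cast Nat.pos_of_ne_zero hN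
      by_contra hneg
      push Not at hneg
      nlinarith
  · intro h
    exact Subring.pow_mem _ h N

end ufd

section witt

open WittVector

variable (p : ℕ) [hp : Fact p.Prime] {A B : Type*} [CommRing A] [CommRing B] [Algebra A B]

/-- The subring of length-`m` truncated Witt vectors of `B` coming from `A`. -/
noncomputable def wRange (m : ℕ) : Subring (TruncatedWittVector p m B) :=
  RingHom.range ((WittVector.truncate (p := p) m).comp (WittVector.map (algebraMap A B)))

theorem truncate_mem_wRange_iff (m : ℕ) (w : WittVector p B) :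
    WittVector.truncate m w ∈ wRange (A := A) p m ↔
      ∀ j < m, w.coeff j ∈ (algebraMap A B).range := by
  constructor
  · rintro ⟨v, hv⟩ j hj
    have := congrArg (TruncatedWittVector.coeff ⟨j, hj⟩) hv
    rw [RingHom.comp_apply, WittVector.coeff_truncate, WittVector.coeff_truncate,
      WittVector.map_coeff] at this
    exact ⟨_, this⟩
  · intro h
    classical
    refine ⟨WittVector.mk p (fun j => if hj : j < m then (h j hj).choose else 0), ?_⟩
    ext j
    rw [RingHom.comp_apply, WittVector.coeff_truncate, WittVector.coeff_truncate,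
      WittVector.map_coeff, WittVector.coeff_mk, dif_pos j.isLt]
    exact (h j j.isLt).choose_spec

theorem mem_wRange_iff (m : ℕ) (a : TruncatedWittVector p m B) :
    a ∈ wRange (A := A) p m ↔
      ∀ j : Fin m, TruncatedWittVector.coeff j a ∈ (algebraMap A B).range := by
  obtain ⟨w, rfl⟩ := WittVector.truncate_surjective p m B a
  rw [truncate_mem_wRange_iff]
  constructor
  · intro h j
    rw [WittVector.coeff_truncate]
    exact h j j.isLt
  · intro h j hj
    have := h ⟨j, hj⟩
    rwa [WittVector.coeff_truncate] at this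

end witt

section wittufd

open WittVector

variable (p : ℕ) [hp : Fact p.Prime]
  {A B : Type*} [CommRing A] [IsDomain A] [UniqueFactorizationMonoid A]
  [CommRing B] [Algebra A B] {r : ℕ} (x : Fin r → A)
  (hx : ∀ i, Prime (x i)) (hxa : ∀ i j, Associated (x i) (x j) → i = j)
  [IsLocalization.Away (∏ i, x i) B] (u : Fin r → Bˣ)
  (hu : ∀ i, (u i : B) = algebraMap A B (x i))

include hx in
theorem charP_B [CharP A p] : CharP B p :=
  charP_of_injective_algebraMap (alg_injective (B := B) x hx) p

include hx in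
/-- A ring endomorphism of `B` raising to the power `p ^ k`. -/
theorem exists_frob [CharP A p] (k : ℕ) : ∃ φ : B →+* B, ∀ y, φ y = y ^ p ^ k := by
  have := charP_B (B := B) p x hx
  exact ⟨iterateFrobenius B p k, fun y => iterateFrobenius_def _ _ _⟩

/-- `Ψ_c(w) = [c] · W(φ)(w)`. -/
noncomputable def Psi (φ : B →+* B) (c : B) (w : WittVector p B) : WittVector p B :=
  teichmuller p c * WittVector.map φ w

omit [IsDomain A] [UniqueFactorizationMonoid A] [Algebra A B] in
theorem Psi_sub (φ : B →+* B) (c : B) (w w' : WittVector p B) :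
    Psi p φ c (w - w') = Psi p φ c w - Psi p φ c w' := by
  unfold Psi
  rw [map_sub, mul_sub]

omit [IsDomain A] [UniqueFactorizationMonoid A] [Algebra A B] in
theorem Psi_mul (φ : B →+* B) (c c' : B) (w w' : WittVector p B) :
    Psi p φ (c * c') (w * w') = Psi p φ c w * Psi p φ c' w' := by
  unfold Psi
  rw [map_mul, map_mul]
  ring

include hx hxa hu in
theorem truncate_mem_fil_iff (m : ℕ) (φ : B →+* B) (hφ : ∀ y, φ y = y ^ p ^ (m - 1)) (c : B)
    (w : WittVector p B) :
    WittVector.truncate m w ∈ fil p m (A := A) c ↔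
      WittVector.truncate m (Psi p φ c w) ∈ wRange (A := A) p m := by
  rw [mem_wRange_iff]
  show (∀ j : Fin m, (TruncatedWittVector.coeff j (WittVector.truncate m w)) ^
      (p ^ (m - 1 - (j : ℕ))) * c ∈ (algebraMap A B).range) ↔ _
  refine forall_congr' fun j => ?_
  have hj : (m - 1 - (j : ℕ)) + (j : ℕ) = m - 1 := by
    have := j.isLt
    omega
  have h1 : TruncatedWittVector.coeff j (WittVector.truncate m (Psi p φ c w)) =
      ((TruncatedWittVector.coeff j (WittVector.truncate m w)) ^
        (p ^ (m - 1 - (j : ℕ))) * c) ^ (p ^ (j : ℕ)) := by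
    unfold Psi
    rw [WittVector.coeff_truncate, WittVector.coeff_truncate,
      WittTeich.teichmuller_mul_coeff, WittVector.map_coeff, hφ, mul_pow, ← pow_mul, ← pow_add,
      hj, mul_comm]
  rw [h1]
  exact (pow_mem_range_iff x hx hxa u hu _ _ (pow_ne_zero _ hp.out.ne_zero)).symm

end wittufd

end Groth.Agent.Lib.helper28.WittFilUFD
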