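import Mathlib

/-!
# Low coordinates of a difference of Witt vectors

If `w` has vanishing coordinates below `k`, then `(y - w)_j = y_j` for `j < k` and
`(y - w)_k = y_k - w_k`.
-/

set_option autoImplicit false

namespace Groth.Agent.Lib.helper28.WittSub

open WittVector

variable {p : ℕ} [hp : Fact p.Prime] {R : Type*} [CommRing R]

theorem sub_coeff_of_lt (y w : WittVector p R) (k : ℕ) (hw : ∀ j < k, w.coeff j = 0)
    (j : ℕ) (hj : j < k) : (y - w).coeff j = y.coeff j := by
  have h0 : WittVector.truncate (p := p) k w = 0 :=
    (RingHom.mem_ker).1 ((WittVector.mem_ker_truncate k w).2 hw)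
  have h1 : WittVector.truncate (p := p) k (y - w) = WittVector.truncate k y := by
    rw [map_sub, h0, sub_zero]
  have := congrArg (TruncatedWittVector.coeff ⟨j, hj⟩) h1
  rwa [WittVector.coeff_truncate, WittVector.coeff_truncate] at this

theorem sub_coeff_eq (y w : WittVector p R) (k : ℕ) (hw : ∀ j < k, w.coeff j = 0) :
    (y - w).coeff k = y.coeff k - w.coeff k := by
  have hT : ∀ j < k, (WittVector.tail k y).coeff j = 0 := by
    intro j hj
    simp [WittVector.tail, WittVector.select, WittVector.coeff_mk, Nat.not_le.2 hj]
  have hTk : (WittVector.tail k y).coeff k = y.coeff k := by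
    simp [WittVector.tail, WittVector.select, WittVector.coeff_mk]
  have hI : ∀ j, k ≤ j → (WittVector.init k y).coeff j = 0 := by
    intro j hj
    simp [WittVector.init, WittVector.select, WittVector.coeff_mk, Nat.not_lt.2 hj]
  have e1 := WittVector.eq_iterate_verschiebung hT
  have e2 := WittVector.eq_iterate_verschiebung hw
  have hy : y - w = WittVector.init k y +
      (WittVector.verschiebung : WittVector p R →+ WittVector p R)^[k]
        ((WittVector.tail k y).shift k - w.shift k) := by
    rw [iterate_map_sub, ← e1, ← e2]
    conv_lhs => rw [← WittVector.init_add_tail y k]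
    ring
  rw [hy, WittVector.coeff_add_of_disjoint]
  · rw [hI k le_rfl, zero_add]
    have := WittVector.iterate_verschiebung_coeff (p := p)
      ((WittVector.tail k y).shift k - w.shift k) k 0
    rw [zero_add] at this
    rw [this]
    have h2 := map_sub (WittVector.constantCoeff (p := p) (R := R))
      ((WittVector.tail k y).shift k) (w.shift k)
    simp only [WittVector.constantCoeff_apply] at h2
    rw [h2, WittVector.shift_coeff, WittVector.shift_coeff, add_zero, hTk]
  · intro n
    by_cases hn : n < k
    · right
      exact WittVector.iterate_verschiebung_coeff_eq_zero _ hn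
    · left
      exact hI n (Nat.not_lt.1 hn)

end Groth.Agent.Lib.helper28.WittSub
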