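import Mathlib
import Groth.Prelude.Def_W4c6katofiltaWFil
import Groth.Agent.Lib.helper28.WittTeich
import Groth.Agent.Lib.helper28.WittSub
import Groth.Agent.Lib.helper28.WittFilGen

/-!
# Filtered Witt vectors over `S⟦π⟧[1/π]`: the graded pieces

Support for S19268.
-/

set_option autoImplicit false
set_option linter.unusedSectionVars false

namespace Groth.Agent.Lib.helper28.WittFilPS

open WittFil WittVector
open Groth.Agent.Lib.helper28.WittFilUFD (wRange truncate_mem_wRange_iff mem_wRange_iff Psi Psi_sub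
  Psi_mul)

universe u

variable (p : ℕ) [hp : Fact p.Prime] {S B : Type u} [CommRing S]
    [IsDomain S] [CharP S p] [CommRing B] [Algebra (PowerSeries S) B] [Algebra S B]
    [IsScalarTower S (PowerSeries S) B] [IsLocalization.Away (PowerSeries.X : PowerSeries S) B]
    (u : Bˣ) (hu : (u : B) = algebraMap (PowerSeries S) B PowerSeries.X)

/-- the family consisting of the single prime `X`. -/
noncomputable def xs : Fin 1 → PowerSeries S := fun _ => PowerSeries.X

theorem instAway : IsLocalization.Away (∏ i : Fin 1, (xs (S := S)) i) B := by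
  have : (∏ i : Fin 1, (xs (S := S)) i) = PowerSeries.X := by simp [xs]
  rw [this]
  infer_instance

theorem hxs : ∀ i, Prime ((xs (S := S)) i) := fun _ => PowerSeries.X_prime

theorem hxa : ∀ i j : Fin 1, Associated ((xs (S := S)) i) (xs j) → i = j :=
  fun i j _ => Subsingleton.elim i j

theorem hfin : ∀ i : Fin 1, ∀ a : PowerSeries S, a ≠ 0 →
    ∃ (n : ℕ) (a' : PowerSeries S), ¬ (xs (S := S)) i ∣ a' ∧ a = (xs (S := S)) i ^ n * a' := by
  intro i a ha
  refine ⟨a.order.toNat, PowerSeries.divXPowOrder a, ?_, ?_⟩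
  · show ¬ PowerSeries.X ∣ _
    rw [PowerSeries.X_dvd_iff, PowerSeries.constantCoeff_divXPowOrder_eq_zero_iff]
    exact ha
  · exact PowerSeries.X_pow_order_mul_divXPowOrder.symm

theorem charP_A : CharP (PowerSeries S) p :=
  charP_of_injective_ringHom (PowerSeries.C_injective (R := S)) p

omit [IsDomain S] [CharP S p] [Algebra (PowerSeries S) B] [Algebra S B]
  [IsScalarTower S (PowerSeries S) B] [IsLocalization.Away (PowerSeries.X : PowerSeries S) B] in
theorem hzm (k : ℤ) : ((u ^ k : Bˣ) : B) = zmon (fun _ : Fin 1 => u) (fun _ => k) := by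
  simp [WittFil.zmon]

include hu in
theorem transfer (y : B) (k k' : ℕ) (hk' : k' ≠ 0) (n n' : ℤ)
    (H : ∀ e : ℤ, 0 ≤ (k : ℤ) * e + n → 0 ≤ (k' : ℤ) * e + n')
    (h : y ^ k * ((u ^ n : Bˣ) : B) ∈ (algebraMap (PowerSeries S) B).range) :
    y ^ k' * ((u ^ n' : Bˣ) : B) ∈ (algebraMap (PowerSeries S) B).range := by
  have := instAway (S := S) (B := B)
  rw [hzm] at h ⊢
  exact WittFilGen.mem_transfer (xs (S := S)) hxs hxa hfin (fun _ : Fin 1 => u) (fun _ => hu)
    y k k' hk' _ _ (fun _ e he => H e he) h

include hu in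
theorem root_closed (y : B) (N : ℕ) (hN : N ≠ 0) :
    y ^ N ∈ (algebraMap (PowerSeries S) B).range ↔ y ∈ (algebraMap (PowerSeries S) B).range := by
  have := instAway (S := S) (B := B)
  exact WittFilGen.pow_mem_range_iff (xs (S := S)) hxs hxa hfin (fun _ : Fin 1 => u)
    (fun _ => hu) y N hN

theorem alg_inj : Function.Injective (algebraMap (PowerSeries S) B) := by
  have := instAway (S := S) (B := B)
  exact WittFilGen.alg_injective (B := B) (xs (S := S)) hxs

omit [IsDomain S] [CharP S p] [Algebra S B] [IsScalarTower S (PowerSeries S) B]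
  [IsLocalization.Away (PowerSeries.X : PowerSeries S) B] in
theorem truncate_mem_fil_iff' (m : ℕ) (e : B) (z : WittVector p B) :
    WittVector.truncate m z ∈ fil p m (A := PowerSeries S) e ↔
      ∀ j, j < m → z.coeff j ^ p ^ (m - 1 - j) * e ∈ (algebraMap (PowerSeries S) B).range := by
  show (∀ j : Fin m, (TruncatedWittVector.coeff j (WittVector.truncate m z)) ^
      (p ^ (m - 1 - (j : ℕ))) * e ∈ (algebraMap (PowerSeries S) B).range) ↔ _
  constructor
  · intro h j hj
    have := h ⟨j, hj⟩
    rwa [WittVector.coeff_truncate] at this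
  · intro h j
    rw [WittVector.coeff_truncate]
    exact h j j.isLt

include hu in
theorem fil_sub (m : ℕ) (e : B) (z w : WittVector p B)
    (hz : WittVector.truncate m z ∈ fil p m (A := PowerSeries S) e)
    (hw : WittVector.truncate m w ∈ fil p m (A := PowerSeries S) e) :
    WittVector.truncate m (z - w) ∈ fil p m (A := PowerSeries S) e := by
  have := instAway (S := S) (B := B)
  have := charP_A p (S := S)
  obtain ⟨φ, hφ⟩ := WittFilGen.exists_frob (B := B) p (xs (S := S)) hxs (m - 1)
  rw [WittFilGen.truncate_mem_fil_iff p (xs (S := S)) hxs hxa hfin (fun _ : Fin 1 => u)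
    (fun _ => hu) m φ hφ] at hz hw ⊢
  rw [Psi_sub, map_sub]
  exact Subring.sub_mem _ hz hw

section units

omit [IsDomain S] [CharP S p] [Algebra (PowerSeries S) B] [Algebra S B]
  [IsScalarTower S (PowerSeries S) B] [IsLocalization.Away (PowerSeries.X : PowerSeries S) B]

/-- `u ^ a` as an element of `B`. -/
def uz (a : ℤ) : B := ((u ^ a : Bˣ) : B)

theorem uz_mul (a b : ℤ) : uz u a * uz u b = uz u (a + b) := by
  unfold uz
  rw [← Units.val_mul, ← zpow_add]

theorem uz_pow (a : ℤ) (N : ℕ) : uz u a ^ N = uz u (a * N) := by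
  unfold uz
  rw [← Units.val_pow_eq_pow_val, ← zpow_natCast, ← zpow_mul]

theorem uz_zero : uz u 0 = 1 := by
  unfold uz
  simp

theorem uz_one : uz u 1 = (u : B) := by
  unfold uz
  simp

end units

include hu in
omit [IsDomain S] [CharP S p] [Algebra S B]
  [IsScalarTower S (PowerSeries S) B] [IsLocalization.Away (PowerSeries.X : PowerSeries S) B] in
theorem uz_nat (N : ℕ) : uz u (N : ℤ) = algebraMap (PowerSeries S) B (PowerSeries.X ^ N) := by
  unfold uz
  rw [zpow_natCast, Units.val_pow_eq_pow_val, hu, map_pow]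

/-- the untruncated `Φ̂ c = V^s (c' · [v])`. -/
noncomputable def PhiHat (s : ℕ) (v : B) (c : WittVector p S) : WittVector p B :=
  (WittVector.verschiebung)^[s] (WittVector.map (algebraMap S B) c * WittVector.teichmuller p v)

omit [IsDomain S] [CharP S p] [Algebra (PowerSeries S) B]
  [IsScalarTower S (PowerSeries S) B] [IsLocalization.Away (PowerSeries.X : PowerSeries S) B] in
theorem vShiftTeich_eq (m s : ℕ) (v : B) (c : WittVector p S) :
    vShiftTeich p m s v c = WittVector.truncate m (PhiHat p s v c) := rfl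

omit [IsDomain S] [CharP S p] [Algebra (PowerSeries S) B]
  [IsScalarTower S (PowerSeries S) B] [IsLocalization.Away (PowerSeries.X : PowerSeries S) B] in
theorem PhiHat_coeff_lt (s : ℕ) (v : B) (c : WittVector p S) (j : ℕ) (hj : j < s) :
    (PhiHat p s v c).coeff j = 0 :=
  WittVector.iterate_verschiebung_coeff_eq_zero _ hj

omit [IsDomain S] [CharP S p] [Algebra (PowerSeries S) B]
  [IsScalarTower S (PowerSeries S) B] [IsLocalization.Away (PowerSeries.X : PowerSeries S) B] in
theorem PhiHat_coeff_add (s : ℕ) (v : B) (c : WittVector p S) (k : ℕ) :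
    (PhiHat p s v c).coeff (k + s) = algebraMap S B (c.coeff k) * v ^ p ^ k := by
  unfold PhiHat
  rw [WittVector.iterate_verschiebung_coeff, mul_comm, WittTeich.teichmuller_mul_coeff,
    WittVector.map_coeff, mul_comm]

omit [IsDomain S] [CharP S p] [Algebra (PowerSeries S) B]
  [IsScalarTower S (PowerSeries S) B] [IsLocalization.Away (PowerSeries.X : PowerSeries S) B] in
theorem PhiHat_add (s : ℕ) (v : B) (c c' : WittVector p S) :
    PhiHat p s v (c + c') = PhiHat p s v c + PhiHat p s v c' := by
  unfold PhiHat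
  rw [map_add, add_mul]
  exact iterate_map_add (WittVector.verschiebung : WittVector p B →+ WittVector p B) s _ _

omit [IsDomain S] [CharP S p] [Algebra (PowerSeries S) B]
  [IsScalarTower S (PowerSeries S) B] [IsLocalization.Away (PowerSeries.X : PowerSeries S) B] in
theorem PhiHat_zero (s : ℕ) (v : B) : PhiHat p s v (0 : WittVector p S) = 0 := by
  unfold PhiHat
  rw [map_zero, zero_mul]
  exact iterate_map_zero (WittVector.verschiebung : WittVector p B →+ WittVector p B) s

omit [IsDomain S] [CharP S p] [IsLocalization.Away (PowerSeries.X : PowerSeries S) B] in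
theorem algS_mem (a : S) : algebraMap S B a ∈ (algebraMap (PowerSeries S) B).range :=
  ⟨algebraMap S (PowerSeries S) a, (IsScalarTower.algebraMap_apply S (PowerSeries S) B a).symm⟩

omit [IsDomain S] [CharP S p] [Algebra (PowerSeries S) B] [Algebra S B]
  [IsScalarTower S (PowerSeries S) B] [IsLocalization.Away (PowerSeries.X : PowerSeries S) B] in
/-- The exponent bookkeeping: `i · (p^k · p^(m-1-(k+s))) = p^(m-1-s) · i` when `k + s < m`. -/
theorem exp_calc (m s k : ℕ) (hk : k + s < m) (i : ℤ) :
    i * ((p ^ k * p ^ (m - 1 - (k + s)) : ℕ) : ℤ) = (p : ℤ) ^ (m - 1 - s) * i := by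
  have : k + (m - 1 - (k + s)) = m - 1 - s := by omega
  rw [← pow_add, this]
  push_cast
  ring

include hu in
omit [IsDomain S] [CharP S p] [IsLocalization.Away (PowerSeries.X : PowerSeries S) B] in
theorem part1 (m s : ℕ) (i : ℤ) (c : WittVector p S) :
    WittVector.truncate m (PhiHat p s (uz u i) c) ∈
      fil p m (A := PowerSeries S) (uz u (-((p : ℤ) ^ (m - 1 - s) * i))) := by
  rw [truncate_mem_fil_iff']
  intro j hj
  by_cases hjs : j < s
  · rw [PhiHat_coeff_lt p s _ c j hjs, zero_pow (pow_ne_zero _ hp.out.ne_zero), zero_mul]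
    exact ⟨0, map_zero _⟩
  · obtain ⟨k, rfl⟩ : ∃ k, j = k + s := ⟨j - s, by omega⟩
    rw [PhiHat_coeff_add, mul_pow, ← pow_mul, uz_pow, mul_assoc, uz_mul, exp_calc p m s k hj,
      add_neg_cancel, uz_zero, mul_one, ← map_pow]
    exact algS_mem _

include hu in
theorem part2 (m s : ℕ) (i : ℤ) (c : WittVector p S) :
    WittVector.truncate m (PhiHat p s (uz u i) c) ∈
        fil p m (A := PowerSeries S) (uz u (-((p : ℤ) ^ (m - 1 - s) * i) - 1)) ↔
      WittVector.truncate (p := p) (m - s) c = 0 := by
  rw [truncate_mem_fil_iff']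
  have hR : WittVector.truncate (p := p) (m - s) c = 0 ↔ ∀ k < m - s, c.coeff k = 0 := by
    rw [← RingHom.mem_ker, WittVector.mem_ker_truncate]
  rw [hR]
  constructor
  · intro h k hk
    have hks : k + s < m := by omega
    have h1 := h (k + s) hks
    have hexp : (p : ℤ) ^ (m - 1 - s) * i + (-((p : ℤ) ^ (m - 1 - s) * i) - 1) = -1 := by ring
    rw [PhiHat_coeff_add, mul_pow, ← pow_mul, uz_pow, mul_assoc, uz_mul, exp_calc p m s k hks,
      hexp] at h1
    obtain ⟨f, hf⟩ := h1
    have h2 : algebraMap (PowerSeries S) B (f * PowerSeries.X) =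
        algebraMap (PowerSeries S) B (PowerSeries.C (c.coeff k ^ p ^ (m - 1 - (k + s)))) := by
      rw [map_mul, hf, ← hu, ← uz_one, mul_assoc, uz_mul, neg_add_cancel, uz_zero, mul_one,
        ← map_pow, IsScalarTower.algebraMap_apply S (PowerSeries S) B]
      rfl
    have h3 := alg_inj (S := S) (B := B) h2
    have h4 := congrArg PowerSeries.constantCoeff h3
    rw [map_mul, PowerSeries.constantCoeff_X, mul_zero, PowerSeries.constantCoeff_C] at h4
    exact (pow_eq_zero_iff (pow_ne_zero _ hp.out.ne_zero)).1 h4.symm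
  · intro h j hj
    have hz : (PhiHat p s (uz u i) c).coeff j = 0 := by
      by_cases hjs : j < s
      · exact PhiHat_coeff_lt p s _ c j hjs
      · obtain ⟨k, rfl⟩ : ∃ k, j = k + s := ⟨j - s, by omega⟩
        rw [PhiHat_coeff_add, h k (by omega), map_zero, zero_mul]
    rw [hz, zero_pow (pow_ne_zero _ hp.out.ne_zero), zero_mul]
    exact ⟨0, map_zero _⟩

include hu in
theorem part3_aux (m s : ℕ) (hs : s < m) (i : ℤ) (hsi : s = 0 ∨ ¬ ((p : ℤ) ∣ i))
    (y : WittVector p B)
    (hy : WittVector.truncate m y ∈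
      fil p m (A := PowerSeries S) (uz u (-((p : ℤ) ^ (m - 1 - s) * i)))) :
    ∀ k ≤ m, ∃ c : WittVector p S,
      WittVector.truncate m (y - PhiHat p s (uz u i) c) ∈
        fil p m (A := PowerSeries S) (uz u (-((p : ℤ) ^ (m - 1 - s) * i))) ∧
      ∀ j < k, (y - PhiHat p s (uz u i) c).coeff j ^ p ^ (m - 1 - j) *
        uz u (-((p : ℤ) ^ (m - 1 - s) * i) - 1) ∈ (algebraMap (PowerSeries S) B).range := by
  intro k
  induction k with
  | zero =>
    intro _
    refine ⟨0, ?_, fun j hj => absurd hj (Nat.not_lt_zero j)⟩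
    rw [PhiHat_zero, sub_zero]
    exact hy
  | succ k ih =>
    intro hk
    obtain ⟨c, hc1, hc2⟩ := ih (by omega)
    have hkm : k < m := by omega
    by_cases hks : k < s
    · -- keep c
      refine ⟨c, hc1, ?_⟩
      intro j hj
      rcases Nat.lt_succ_iff_lt_or_eq.1 hj with hj | rfl
      · exact hc2 j hj
      · have h1 := (truncate_mem_fil_iff' p m _ _).1 hc1 j hkm
        have hpi : ¬ ((p : ℤ) ∣ i) := by
          rcases hsi with h | h
          · omega
          · exact h
        refine transfer u hu _ _ _ (pow_ne_zero _ hp.out.ne_zero) _ _ ?_ h1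
        intro e he
        have hne : ((p ^ (m - 1 - j) : ℕ) : ℤ) * e + -((p : ℤ) ^ (m - 1 - s) * i) ≠ 0 := by
          intro h0
          apply hpi
          have hsplit : m - 1 - j = (m - 1 - s) + (s - j) := by omega
          rw [hsplit, pow_add] at h0
          push_cast at h0
          have hpos : (p : ℤ) ^ (m - 1 - s) ≠ 0 :=
            pow_ne_zero _ (by exact_mod_cast hp.out.ne_zero)
          have h00 : (p : ℤ) ^ (m - 1 - s) * ((p : ℤ) ^ (s - j) * e - i) = 0 := by linarith
          have h01 := (mul_eq_zero.1 h00).resolve_left hpos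
          have hi : i = (p : ℤ) ^ (s - j) * e := by linarith
          rw [hi]
          exact Dvd.dvd.mul_right (dvd_pow_self _ (by omega)) _
        omega
    · -- `k ≥ s`
      obtain ⟨l, rfl⟩ : ∃ l, k = l + s := ⟨k - s, by omega⟩
      have h1 := (truncate_mem_fil_iff' p m _ _).1 hc1 (l + s) hkm
      have hQ0 : p ^ (m - 1 - (l + s)) ≠ 0 := pow_ne_zero _ hp.out.ne_zero
      have hE := exp_calc p m s l hkm i
      have hz : ((y - PhiHat p s (uz u i) c).coeff (l + s) * uz u (-((p : ℤ) ^ l * i))) ^
          p ^ (m - 1 - (l + s)) ∈ (algebraMap (PowerSeries S) B).range := by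
        rw [mul_pow, uz_pow]
        have : -((p : ℤ) ^ l * i) * ((p ^ (m - 1 - (l + s)) : ℕ) : ℤ) =
            -((p : ℤ) ^ (m - 1 - s) * i) := by
          push_cast at hE ⊢
          linarith
        rw [this]
        exact h1
      obtain ⟨f, hf⟩ := (root_closed u hu _ _ hQ0).1 hz
      have hfg : f = PowerSeries.X * (PowerSeries.mk fun n => PowerSeries.coeff (n + 1) f) +
          PowerSeries.C (PowerSeries.constantCoeff f) := PowerSeries.eq_X_mul_shift_add_const f
      generalize (PowerSeries.mk fun n => PowerSeries.coeff (n + 1) f) = g at hfg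
      generalize PowerSeries.constantCoeff f = γ at hfg
      have hc'lt : ∀ t < l,
          ((WittVector.verschiebung)^[l] (WittVector.teichmuller p γ)).coeff t = 0 :=
        fun t ht => WittVector.iterate_verschiebung_coeff_eq_zero _ ht
      have hc'l : ((WittVector.verschiebung)^[l] (WittVector.teichmuller p γ)).coeff l = γ := by
        have := WittVector.iterate_verschiebung_coeff (p := p) (WittVector.teichmuller p γ) l 0
        rw [zero_add] at this
        rw [this, WittVector.teichmuller_coeff_zero]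
      have hΦlt : ∀ j < l + s, (PhiHat p s (uz u i)
          ((WittVector.verschiebung)^[l] (WittVector.teichmuller p γ))).coeff j = 0 := by
        intro j hj
        by_cases hjs : j < s
        · exact PhiHat_coeff_lt p s _ _ j hjs
        · obtain ⟨t, rfl⟩ : ∃ t, j = t + s := ⟨j - s, by omega⟩
          rw [PhiHat_coeff_add, hc'lt t (by omega), map_zero, zero_mul]
      have hΦk : (PhiHat p s (uz u i)
          ((WittVector.verschiebung)^[l] (WittVector.teichmuller p γ))).coeff (l + s) =
          algebraMap S B γ * uz u i ^ p ^ l := by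
        rw [PhiHat_coeff_add, hc'l]
      refine ⟨c + (WittVector.verschiebung)^[l] (WittVector.teichmuller p γ), ?_, ?_⟩
      · rw [PhiHat_add, ← sub_sub]
        exact fil_sub p u hu m _ _ _ hc1 (part1 p u hu m s i _)
      · intro j hj
        rw [PhiHat_add, ← sub_sub]
        rcases Nat.lt_succ_iff_lt_or_eq.1 hj with hj | rfl
        · rw [WittSub.sub_coeff_of_lt _ _ (l + s) hΦlt j hj]
          exact hc2 j hj
        · rw [WittSub.sub_coeff_eq _ _ (l + s) hΦlt, hΦk]
          have hyk : (y - PhiHat p s (uz u i) c).coeff (l + s) =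
              algebraMap (PowerSeries S) B f * uz u ((p : ℤ) ^ l * i) := by
            rw [hf, mul_assoc, uz_mul, neg_add_cancel, uz_zero, mul_one]
          have halgf : algebraMap (PowerSeries S) B f =
              uz u 1 * algebraMap (PowerSeries S) B g + algebraMap S B γ := by
            rw [hfg, map_add, map_mul, ← hu, uz_one,
              IsScalarTower.algebraMap_apply S (PowerSeries S) B]
            rfl
          have hpl : uz u i ^ p ^ l = uz u ((p : ℤ) ^ l * i) := by
            rw [uz_pow]
            congr 1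
            push_cast
            ring
          have hcoef : (y - PhiHat p s (uz u i) c).coeff (l + s) -
              algebraMap S B γ * uz u i ^ p ^ l =
              algebraMap (PowerSeries S) B g * uz u ((p : ℤ) ^ l * i + 1) := by
            rw [hyk, halgf, hpl, ← uz_mul u ((p : ℤ) ^ l * i) 1]
            ring
          rw [hcoef, mul_pow, uz_pow, mul_assoc, uz_mul]
          have hQpos : 1 ≤ p ^ (m - 1 - (l + s)) := Nat.one_le_iff_ne_zero.2 hQ0
          have hexp : ((p : ℤ) ^ l * i + 1) * ((p ^ (m - 1 - (l + s)) : ℕ) : ℤ) +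
              (-((p : ℤ) ^ (m - 1 - s) * i) - 1) =
              ((p ^ (m - 1 - (l + s)) - 1 : ℕ) : ℤ) := by
            rw [Nat.cast_sub hQpos]
            push_cast at hE ⊢
            linarith
          rw [hexp, uz_nat u hu, ← map_pow, ← map_mul]
          exact ⟨_, rfl⟩

include hu in
theorem part3 (m s : ℕ) (hs : s < m) (i : ℤ) (hsi : s = 0 ∨ ¬ ((p : ℤ) ∣ i))
    (y : TruncatedWittVector p m B)
    (hy : y ∈ fil p m (A := PowerSeries S) (uz u (-((p : ℤ) ^ (m - 1 - s) * i)))) :
    ∃ c : WittVector p S, y - vShiftTeich p m s (uz u i) c ∈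
      fil p m (A := PowerSeries S) (uz u (-((p : ℤ) ^ (m - 1 - s) * i) - 1)) := by
  obtain ⟨y', rfl⟩ := WittVector.truncate_surjective p m B y
  obtain ⟨c, -, hc⟩ := part3_aux p u hu m s hs i hsi y' hy m le_rfl
  refine ⟨c, ?_⟩
  rw [vShiftTeich_eq, ← map_sub, truncate_mem_fil_iff']
  exact hc

end Groth.Agent.Lib.helper28.WittFilPS
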