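import Mathlib
import Groth.Agent.Lib.helper28.WittComplete
import Groth.Agent.Lib.helper28.ProjLim

/-!
# Finite projective `W(R)`-modules and their truncations (`p` nilpotent in `R`)
-/

namespace Groth.Agent.Lib.helper28.WittProj

open WittVector Groth.Agent.Lib.helper28.WittComplete Groth.Agent.Lib.helper28.ProjLim

variable {p : ℕ} [hp : Fact p.Prime] {R : Type*} [CommRing R]

theorem mem_ker_truncate_iff {n : ℕ} {x : WittVector p R} :
    x ∈ RingHom.ker (WittVector.truncate (p := p) (R := R) n) ↔ ∀ i < n, x.coeff i = 0 := by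
  rw [RingHom.mem_ker, TruncatedWittVector.ext_iff]
  constructor
  · intro h i hi
    have := h ⟨i, hi⟩
    rwa [WittVector.coeff_truncate, TruncatedWittVector.coeff_zero] at this
  · intro h i
    rw [WittVector.coeff_truncate, TruncatedWittVector.coeff_zero]
    exact h i i.2

theorem sub_mem_ker_truncate_iff {n : ℕ} {x y : WittVector p R} :
    x - y ∈ RingHom.ker (WittVector.truncate (p := p) (R := R) n) ↔
      ∀ i < n, x.coeff i = y.coeff i := by
  rw [RingHom.mem_ker, map_sub, sub_eq_zero, TruncatedWittVector.ext_iff]
  constructor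
  · intro h i hi
    have := h ⟨i, hi⟩
    rwa [WittVector.coeff_truncate, WittVector.coeff_truncate] at this
  · intro h i
    rw [WittVector.coeff_truncate, WittVector.coeff_truncate]
    exact h i i.2

theorem ker_truncate_anti (n : ℕ) :
    RingHom.ker (WittVector.truncate (p := p) (R := R) (n + 1)) ≤
      RingHom.ker (WittVector.truncate (p := p) (R := R) n) := by
  intro x hx
  rw [mem_ker_truncate_iff] at hx ⊢
  exact fun i hi => hx i (Nat.lt_succ_of_lt hi)

theorem ker_truncate_complete (c : ℕ → WittVector p R)
    (h : ∀ n, c (n + 1) - c n ∈ RingHom.ker (WittVector.truncate (p := p) (R := R) n)) :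
    ∃ L, ∀ n, L - c n ∈ RingHom.ker (WittVector.truncate (p := p) (R := R) n) := by
  have tel : ∀ i n m, i < n → n ≤ m → (c m).coeff i = (c n).coeff i := by
    intro i n m hi hnm
    induction m, hnm using Nat.le_induction with
    | base => rfl
    | succ m hm ih =>
      rw [← ih]
      exact sub_mem_ker_truncate_iff.1 (h m) i (lt_of_lt_of_le hi hm)
  refine ⟨WittVector.mk p fun i => (c (i + 1)).coeff i, fun n => ?_⟩
  rw [sub_mem_ker_truncate_iff]
  intro i hi
  rw [WittVector.coeff_mk]
  exact (tel i (i + 1) n (Nat.lt_succ_self i) hi).symm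

theorem ker_truncate_sep (w : WittVector p R)
    (h : ∀ n, w ∈ RingHom.ker (WittVector.truncate (p := p) (R := R) n)) : w = 0 := by
  ext i
  rw [WittVector.zero_coeff]
  exact mem_ker_truncate_iff.1 (h (i + 1)) i (Nat.lt_succ_self i)

theorem ker_truncate_one :
    RingHom.ker (WittVector.truncate (p := p) (R := R) 1) =
      RingHom.ker (WittVector.constantCoeff : WittVector p R →+* R) := by
  ext x
  rw [mem_ker_truncate_iff, RingHom.mem_ker, WittVector.constantCoeff_apply]
  constructor
  · intro h; exact h 0 Nat.zero_lt_one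
  · intro h i hi
    obtain rfl : i = 0 := by omega
    exact h

omit hp in
theorem isAdicComplete_of_isNilpotent (hpn : IsNilpotent (p : R)) :
    IsAdicComplete (Ideal.span {(p : R)}) R := by
  obtain ⟨N, hN⟩ := hpn
  have hz : ∀ n, N ≤ n → (Ideal.span {(p : R)}) ^ n = ⊥ := by
    intro n hn
    rw [Ideal.span_singleton_pow, Ideal.span_singleton_eq_bot]
    obtain ⟨d, rfl⟩ := Nat.exists_eq_add_of_le hn
    rw [pow_add, hN, zero_mul]
  refine { toIsHausdorff := ⟨fun x hx => ?_⟩, toIsPrecomplete := ⟨fun f hf => ⟨f N, fun n => ?_⟩⟩ }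
  · have := hx N
    rwa [SModEq.zero, hz N le_rfl, Submodule.bot_smul, Submodule.mem_bot] at this
  · rcases le_total n N with h | h
    · exact hf h
    · have := hf h
      rw [hz n h, Submodule.bot_smul]
      rw [hz N le_rfl, Submodule.bot_smul] at this
      exact this.symm

theorem ker_pow_le_ker_truncate (hpn : IsNilpotent (p : R)) (n : ℕ) :
    ∃ j, (RingHom.ker (WittVector.constantCoeff : WittVector p R →+* R)) ^ j ≤
      RingHom.ker (WittVector.truncate (p := p) (R := R) n) := by
  obtain ⟨N, hN⟩ := hpn
  refine ⟨N * n + 1, fun x hx => ?_⟩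
  obtain ⟨z, rfl⟩ := exists_of_mem_ker_pow (N * n) x hx
  refine Ideal.mul_mem_right _ _ ?_
  rw [mem_ker_truncate_iff]
  exact p_pow_coeff_eq_zero N hN n

section Main

variable (P : Type*) [AddCommGroup P] [Module (WittVector p R) P]

theorem forward_sep [Module.Projective (WittVector p R) P] :
    (⨅ n : ℕ, (RingHom.ker (WittVector.truncate (p := p) (R := R) n) •
      (⊤ : Submodule (WittVector p R) P))) = ⊥ := by
  rw [eq_bot_iff]
  intro y hy
  rw [Submodule.mem_iInf] at hy
  obtain ⟨s, hs⟩ := (Module.projective_def' (R := WittVector p R) (P := P)).1 inferInstance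
  have h0 : s y = 0 := by
    refine Finsupp.ext fun q => ?_
    rw [Finsupp.zero_apply]
    apply ker_truncate_sep
    intro n
    have := apply_mem_smul_top _ ((Finsupp.lapply q : (P →₀ WittVector p R) →ₗ[WittVector p R] _) ∘ₗ s)
      (hy n)
    rwa [smul_eq_mul, Ideal.mul_top] at this
  have := LinearMap.congr_fun hs y
  rw [LinearMap.comp_apply, h0, map_zero] at this
  rw [Submodule.mem_bot]
  exact this.symm

theorem forward_proj [Module.Projective (WittVector p R) P] (I : Ideal (WittVector p R)) :
    Module.Projective (WittVector p R ⧸ I) (P ⧸ (I • ⊤ : Submodule (WittVector p R) P)) := by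
  have e := (TensorProduct.quotTensorEquivQuotSMul P I).extendScalarsOfSurjective
    (S := WittVector p R ⧸ I) Ideal.Quotient.mk_surjective
  exact Module.Projective.of_equiv e

theorem forward_fin [Module.Finite (WittVector p R) P] (I : Ideal (WittVector p R)) :
    Module.Finite (WittVector p R ⧸ I) (P ⧸ (I • ⊤ : Submodule (WittVector p R) P)) :=
  Module.Finite.of_restrictScalars_finite (WittVector p R) _ _

theorem backward (hpn : IsNilpotent (p : R))
    (hsep : (⨅ n : ℕ, (RingHom.ker (WittVector.truncate (p := p) (R := R) n) •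
      (⊤ : Submodule (WittVector p R) P))) = ⊥)
    (hfin : Module.Finite (WittVector p R ⧸ RingHom.ker (WittVector.truncate (p := p) (R := R) 1))
      (P ⧸ (RingHom.ker (WittVector.truncate (p := p) (R := R) 1) • (⊤ : Submodule (WittVector p R) P))))
    (hproj : ∀ n : ℕ, Module.Projective
      (WittVector p R ⧸ RingHom.ker (WittVector.truncate (p := p) (R := R) n))
      (P ⧸ (RingHom.ker (WittVector.truncate (p := p) (R := R) n) • (⊤ : Submodule (WittVector p R) P)))) :
    Module.Finite (WittVector p R) P ∧ Module.Projective (WittVector p R) P := by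
  have hsepP : ∀ y : P, (∀ n, y ∈ (RingHom.ker (WittVector.truncate (p := p) (R := R) n) •
      (⊤ : Submodule (WittVector p R) P))) → y = 0 := by
    intro y hy
    have : y ∈ (⨅ n : ℕ, (RingHom.ker (WittVector.truncate (p := p) (R := R) n) •
      (⊤ : Submodule (WittVector p R) P))) := by
      rw [Submodule.mem_iInf]; exact hy
    rw [hsep] at this
    exact this
  have : IsAdicComplete (Ideal.span {(p : R)}) R := isAdicComplete_of_isNilpotent hpn
  have hcomp : IsAdicComplete (RingHom.ker (WittVector.truncate (p := p) (R := R) 1)) (WittVector p R) := by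
    rw [ker_truncate_one]; exact isAdicComplete_ker
  have : Module.Finite (WittVector p R)
      (P ⧸ (RingHom.ker (WittVector.truncate (p := p) (R := R) 1) • (⊤ : Submodule (WittVector p R) P))) :=
    Module.Finite.trans (WittVector p R ⧸ RingHom.ker (WittVector.truncate (p := p) (R := R) 1)) _
  have hF : Module.Finite (WittVector p R) P := by
    apply finite_of_quotient_finite (RingHom.ker (WittVector.truncate (p := p) (R := R) 1))
    intro y hy
    apply hsepP
    intro n
    obtain ⟨j, hj⟩ := ker_pow_le_ker_truncate (p := p) (R := R) hpn n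
    rw [← ker_truncate_one] at hj
    exact Submodule.smul_mono_left hj (hy j)
  refine ⟨hF, ?_⟩
  exact projective_of_quotients (fun n => RingHom.ker (WittVector.truncate (p := p) (R := R) n))
    ker_truncate_anti ker_truncate_complete ker_truncate_sep hsepP hproj

end Main

end Groth.Agent.Lib.helper28.WittProj
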